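import Cfsg.Agent.OddOrderChar.DadeVirtual
import Cfsg.Agent.OddOrderChar.DadeConj
import Cfsg.Agent.Coherence.FrobSys
import Cfsg.Agent.Coherence.Chief
import Cfsg.Agent.Coherence.Sibley
import Cfsg.Agent.Solvable.Fitting
import Cfsg.Agent.Solvable.FixedPointFree
import Cfsg.Agent.FrobComp.SylowStructure
import Cfsg.Agent.OddOrder.LocalTypes
import Cfsg.Agent.OddOrder.Setup
import Cfsg.Agent.OddOrder.TypePBasic
import Mathlib.GroupTheory.SpecificGroups.ZGroup

/-!
# Peterfalvi (12.6): coherence for a Frobenius maximal subgroup of Type I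
-/

set_option autoImplicit false
set_option linter.style.haveILetI false
set_option linter.unusedSectionVars false

namespace CfsgLib.OddOrder

open Cfsg CfsgLib.Characters CfsgLib.OddOrderChar

/-- A group of odd order acting without fixed points has all Sylow subgroups cyclic. -/
theorem isZGroup_of_fpf_odd {M : Type*} [Group M] [Finite M] {K W : Subgroup M} [K.Normal]
    (hK : K ≠ ⊥) (hfpf : ∀ h ∈ W, h ≠ 1 → K ⊓ Subgroup.centralizer {h} = ⊥)
    (hodd : Odd (Nat.card W)) : IsZGroup W := by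
  refine ⟨fun p hp P => ?_⟩
  have := Fact.mk hp
  by_cases hd : p ∣ Nat.card W
  · refine FrobComp.isCyclic_of_uniqueOrderP (p := p) P.isPGroup' ?_
      (Or.inr (prime_ne_two_of_dvd_odd hodd hd))
    exact fun x y hx hy hx1 => Solvable.hasUniqueOrderP_of_fpf hK hfpf P.isPGroup' y x hy hx hx1
  · have h1 : Nat.card P = 1 := by
      rw [P.card_eq_multiplicity, Nat.factorization_eq_zero_of_not_dvd hd, pow_zero]
    have : Subsingleton P := (Nat.card_eq_one_iff_unique.mp h1).1
    infer_instance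

variable {G : Type*} [Group G] [Fintype G] {A : Set G} {L : Subgroup G} [Fintype L]
  {R : G → Subgroup G}

/-- The Dade map is an isometry on virtual characters supported on `A`. -/
theorem dade_linearIsometryOn (hD : DadeHypothesis A L R) {E : Set (↥L → ℂ)}
    (hgen : ∀ α ∈ E, IsGeneralizedCharacter L α)
    (hsupp : ∀ α ∈ E, ∀ x : L, (x : G) ∉ A → α x = 0) :
    IsLinearIsometryOn E (dadeIsometry A L R) := by
  refine ⟨fun α _ β _ => ?_, fun α _ n => ?_, fun α ha β hb => ?_, fun α ha => ?_⟩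
  · funext g
    by_cases h : ∃ a : ↥L, (a : G) ∈ A ∧ ∃ x : G, ∃ u ∈ R (a : G), x * g * x⁻¹ = (a : G) * u
    · simp only [dadeIsometry, dif_pos h, Pi.add_apply]
    · simp only [dadeIsometry, dif_neg h, Pi.add_apply, add_zero]
  · funext g
    by_cases h : ∃ a : ↥L, (a : G) ∈ A ∧ ∃ x : G, ∃ u ∈ R (a : G), x * g * x⁻¹ = (a : G) * u
    · simp only [dadeIsometry, dif_pos h, Pi.smul_apply]
    · simp only [dadeIsometry, dif_neg h, Pi.smul_apply, smul_zero]
  · exact classInner_dade hD (Coherence.isClassFunction_of_isGen (hgen α ha)) (hsupp α ha)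
      (Coherence.isClassFunction_of_isGen (hgen β hb)) (hsupp β hb)
  · exact isGen_dade hD (hgen α ha) (hsupp α ha)

/-- With trivial `R` the Dade map is induction. -/
theorem dade_eq_indFun (hD : DadeHypothesis A L R) (hR : ∀ a ∈ A, R a = ⊥)
    (hTI : ∀ a ∈ A, ∀ g : G, g * a * g⁻¹ ∈ A → g ∈ L) {α : ↥L → ℂ}
    (hα : IsClassFunction L α) (hsupp : ∀ x : L, (x : G) ∉ A → α x = 0) :
    dadeIsometry A L R α = indFun L α := by
  classical
  funext g
  by_cases h : ∃ a : ↥L, (a : G) ∈ A ∧ ∃ x : G, ∃ u ∈ R (a : G), x * g * x⁻¹ = (a : G) * u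
  · obtain ⟨a, ha, x, u, hu, he⟩ := h
    have hg : g = x⁻¹ * ((a : G) * u) * x⁻¹⁻¹ := by rw [← he]; group
    rw [hg, dade_apply_conj hD hα a ha hu x⁻¹]
    rw [hR _ ha, Subgroup.mem_bot] at hu
    rw [hu, mul_one, OddOrderChar.isClassFunction_ind L α _ x⁻¹]
    have hterm : ∀ y : G, extendByZero L α (y⁻¹ * a * y) = if y ∈ L then α a else 0 := by
      intro y
      split_ifs with hy
      · have hmem : y⁻¹ * a * y ∈ L := mul_mem (mul_mem (inv_mem hy) a.2) hy
        rw [OddOrderChar.extendByZero_of_mem L α hmem,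
          show (⟨y⁻¹ * a * y, hmem⟩ : L) = (⟨y, hy⟩ : L)⁻¹ * a * ((⟨y, hy⟩ : L)⁻¹)⁻¹ from
            Subtype.ext (by simp)]
        exact hα a _
      · by_cases hmem : y⁻¹ * a * y ∈ L
        · rw [OddOrderChar.extendByZero_of_mem L α hmem]
          refine hsupp _ fun hA => hy ?_
          simpa using inv_mem (hTI a ha y⁻¹ (by simpa using hA))
        · exact OddOrderChar.extendByZero_of_notMem L α hmem
    unfold indFun
    rw [Finset.sum_congr rfl fun y _ => hterm y, ← Finset.sum_filter, Finset.sum_const,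
      nsmul_eq_mul, ← Fintype.card_subtype, ← Nat.card_eq_fintype_card, ← mul_assoc]
    exact ((congrArg (· * α a) (inv_mul_cancel₀ natCard_ne_zero)).trans (one_mul _)).symm
  · rw [dade_apply_eq_zero α h]
    unfold indFun
    rw [Finset.sum_eq_zero, mul_zero]
    intro x _
    by_cases hmem : x⁻¹ * g * x ∈ L
    · rw [OddOrderChar.extendByZero_of_mem L α hmem]
      refine hsupp _ fun hA => h ⟨⟨_, hmem⟩, hA, x⁻¹, 1, one_mem _, ?_⟩
      simp
    · exact OddOrderChar.extendByZero_of_notMem L α hmem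

omit [Fintype L] in
/-- `A(L)` for a Frobenius maximal subgroup of Type I. -/
theorem typeA_typeI_frobenius (hI : IsTypeI L)
    (hfrob : ∀ x ∈ fittingHallOf L, x ≠ 1 → L ⊓ Subgroup.centralizer ({x} : Set G) ≤ fittingHallOf L) :
    supportA L = (fittingHallOf L : Set G) \ {1} := by
  ext a
  simp only [supportA, if_pos hI, Set.mem_ofPred_eq, Set.mem_sdiff, Set.mem_singleton_iff, SetLike.mem_coe]
  constructor
  · rintro ⟨haL, ha1, x, hx, hx1, hax⟩
    exact ⟨hfrob x hx hx1 ⟨haL, Subgroup.mem_centralizer_singleton_iff.mpr hax⟩, ha1⟩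
  · rintro ⟨ha, ha1⟩
    exact ⟨fittingHallOf_le L ha, ha1, a, ha, ha1, rfl⟩

/-- Peterfalvi (12.6), given the Dade hypothesis for `A(L)`. -/
theorem typeI_frobenius_coherent (hG : IsMinSimpleOddOrder G) (hL : IsCoatom L) (hI : IsTypeI L)
    (hfrob : ∀ x ∈ fittingHallOf L, x ≠ 1 → L ⊓ Subgroup.centralizer ({x} : Set G) ≤ fittingHallOf L)
    (hD : DadeHypothesis (supportA L) L (supportR L)) :
    (∀ χ ∈ inducedIrrAbove (fittingHall L) ⊥, IsIrrCharacter L χ) ∧
      IsCoherent (inducedIrrAbove (fittingHall L) ⊥) {1}ᶜ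
        (dadeIsometry (supportA L) L (supportR L)) := by
  classical
  obtain ⟨⟨-, hodd, hK1, hKT, U, -, hcompl, -, -⟩, hcases⟩ := id hI
  set K := fittingHall L with hK
  set H := fittingHallOf L with hH
  have hHK : ∀ x : L, (x : G) ∈ H ↔ x ∈ K := fun x =>
    Subgroup.mem_map_iff_mem L.subtype_injective (x := x)
  have hfix : ∀ k ∈ K, k ≠ 1 → Subgroup.centralizer ({k} : Set L) ≤ K := by
    intro k hk hk1 x hx
    refine (hHK x).1 (hfrob k ((hHK k).2 hk) (fun h => hk1 (Subtype.ext h)) ⟨x.2, ?_⟩)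
    exact Subgroup.mem_centralizer_singleton_iff.mpr
      (congrArg Subtype.val (Subgroup.mem_centralizer_singleton_iff.mp hx))
  have hnil : Group.IsNilpotent K := by
    have hle : K ≤ fittingSubgroup L := sSup_le fun N hN => le_sSup ⟨hN.1, hN.2.1⟩
    have := Solvable.fittingSubgroup_isNilpotent (G := L)
    exact Group.nilpotent_of_mulEquiv (Subgroup.subgroupOfEquivOfLe hle)
  have hsolv : Group.IsSolvable K := inferInstance
  have hKL : K < ⊤ := lt_top_iff_ne_top.mpr hKT
  refine ⟨Coherence.frob_irr hfix, ?_⟩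
  have hA := typeA_typeI_frobenius hI hfrob
  have hkey : ∀ α ∈ zspanOn (inducedIrrAbove K ⊥) ({1}ᶜ : Set L),
      IsGeneralizedCharacter L α ∧ ∀ x : L, (x : G) ∉ supportA L → α x = 0 := by
    intro α hα
    obtain ⟨hspan, h1⟩ := Coherence.mem_zspanOn_one.1 hα
    refine ⟨?_, fun x hx => ?_⟩
    · refine Submodule.span_induction (fun φ hφ => ?_) Coherence.isGen_zero
        (fun a b _ _ => Coherence.isGen_add) (fun n a _ ha => Coherence.isGen_zsmul ha n) hspan
      exact Coherence.isGen_of_isIrr (Coherence.frob_irr hfix φ hφ)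
    · by_cases hx1 : x = 1
      · rw [hx1, h1]
      refine Submodule.span_induction (p := fun a _ => a x = 0) ?_ rfl
        (fun a b _ _ ha hb => by simp [ha, hb]) (fun n a _ ha => by simp [ha]) hspan
      rintro φ ⟨θ, -, -, -, rfl⟩
      refine indFun_normal_eq_zero _ θ fun h => hx ?_
      rw [hA]
      exact ⟨(hHK x).2 h, fun e => hx1 (Subtype.ext e)⟩
  have hiso := dade_linearIsometryOn hD (fun α hα => (hkey α hα).1) (fun α hα => (hkey α hα).2)
  have hiso1 : ∀ α ∈ zspanOn (inducedIrrAbove K ⊥) ({1}ᶜ : Set L),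
      dadeIsometry (supportA L) L (supportR L) α 1 = 0 := fun α _ => dade_apply_one hD α
  -- a commutative kernel
  by_cases hcomm : ∀ a ∈ K, ∀ b ∈ K, a * b = b * a
  · refine (Coherence.frob_comm_coherence hfix hsolv hK1 hiso hiso1 hcomm).resolve_right ?_
    rintro ⟨φ, hφ⟩
    have h1 := (Coherence.frob_singleton hfix hsolv hK1 hcomm hφ).1
    have h2 : Odd (Nat.card K) := hodd.of_dvd_nat K.card_subgroup_dvd_card
    have h3 : Odd K.index := hodd.of_dvd_nat K.index_dvd_card
    rw [h1, Nat.odd_add_one] at h2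
    exact h2 h3
  rcases hcases with hTI | hab | ⟨hexp, -⟩
  · -- `H` is a TI subset
    have hH1 : H ≠ ⊥ := fun h => hK1 ((Subgroup.map_eq_bot_iff_of_injective _ L.subtype_injective).1 h)
    have hN : Subgroup.normalizer (H : Set G) = L :=
      minSimple_normalizer_eq_coatom_of_le hG hL hH1 (fittingHallOf_le L) (le_normalizer_fittingHallOf L)
    have hTI' : ∀ a ∈ supportA L, ∀ g : G, g * a * g⁻¹ ∈ supportA L → g ∈ L := by
      intro a ha g hg
      rw [hA] at ha hg
      by_contra hgL
      exact ha.2 (hTI g (by rwa [hN]) a ha.1 hg.1)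
    have hR : ∀ a ∈ supportA L, supportR L a = ⊥ := by
      intro a ha
      rw [supportR, dif_neg]
      rintro ⟨hne, -⟩
      refine hne fun g hg => hTI' a ha g ?_
      rw [show g * a * g⁻¹ = a from
        mul_inv_eq_iff_eq_mul.mpr (Subgroup.mem_centralizer_singleton_iff.mp hg)]
      exact ha
    have hsub : H.subgroupOf L = K := Subgroup.comap_map_eq_self_of_injective L.subtype_injective K
    have : (H.subgroupOf L).Normal := by rw [hsub]; exact fittingHall_normal L
    obtain ⟨hne, τ₁, h₁, h₂⟩ := Coherence.sibley (L := L) hTI hN hodd (by rwa [hsub]) (by rwa [hsub])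
      (by rwa [hsub]) (by rwa [hsub])
    rw [hsub] at hne h₁ h₂
    exact ⟨hne, τ₁, h₁, fun α hα => (h₂ α hα).trans (dade_eq_indFun hD hR hTI'
      (Coherence.isClassFunction_of_isGen (hkey α hα).1) (hkey α hα).2).symm⟩
  · exfalso
    apply hcomm
    intro a ha b hb
    have := hab.1
    exact Subtype.ext (congrArg (fun z : H => (z : G))
      (mul_comm' (⟨a, (hHK a).2 ha⟩ : H) ⟨b, (hHK b).2 hb⟩))
  · -- the exponent condition
    have hH₁K : ⁅K, K⁆ < K := by
      have : Nontrivial K := (Subgroup.nontrivial_iff_ne_bot K).2 hK1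
      have h := (Subgroup.map_lt_map_iff_of_injective K.subtype_injective).2
        (Group.IsSolvable.commutator_lt_top_of_nontrivial K)
      rwa [Subgroup.map_subtype_commutator, ← MonoidHom.range_eq_map, Subgroup.range_subtype] at h
    obtain ⟨F, T, Rf, hF, hS, hTτ⟩ :=
      Coherence.frob_exists_sys hfix hsolv hK1 hiso hiso1 hodd hKL
    have hbot : ((⊥ : Subgroup L).subgroupOf K).Normal := Subgroup.Normal.subgroupOf inferInstance K
    obtain ⟨g, hg⟩ : ∃ g, Coherence.IsExt (Coherence.above K F ⊥) T g := by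
      refine Coherence.chief_coherence (H₁ := ⁅K, K⁆) hsolv hS hF hodd ⊥ bot_le inferInstance
        (sup_bot_eq _).symm hH₁K hKL (Coherence.frob_quot hfix _) ?_
      by_cases hpp : ∃ p m : ℕ, p.Prime ∧ (⊥ : Subgroup L).relIndex K = p ^ m
      · obtain ⟨p, m, hp, hpm⟩ := hpp
        refine Or.inr (Or.inr (Or.inr (Or.inr ⟨p, m, hp, hpm, ?_⟩)))
        rw [Subgroup.relIndex_bot_left] at hpm
        have hm : m ≠ 0 := by
          rintro rfl
          exact hK1 (Subgroup.eq_bot_of_card_eq K (hpm.trans (pow_zero p)))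
        have hdvd : p ∣ Nat.card H := by
          rw [hH, fittingHallOf, Subgroup.card_map_of_injective L.subtype_injective, ← hK, hpm]
          exact dvd_pow_self p hm
        have hz : IsZGroup U := isZGroup_of_fpf_odd hK1 (fun h hh hh1 => by
          rw [Subgroup.eq_bot_iff_forall]
          rintro k ⟨hk, hkh⟩
          by_contra hk1
          have hhK : h ∈ K := hfix k hk hk1 (Subgroup.mem_centralizer_singleton_iff.mpr
            (Subgroup.mem_centralizer_singleton_iff.mp hkh).symm)
          exact hh1 (Subgroup.mem_bot.mp (hcompl.disjoint.le_bot ⟨hhK, hh⟩)))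
          (hodd.of_dvd_nat U.card_subgroup_dvd_card)
        have hexpU := hexp p hp hdvd
        have hexp2 : Monoid.exponent U = Monoid.exponent (L ⧸ K) :=
          Monoid.exponent_eq_of_mulEquiv hcompl.symm.QuotientMulEquiv.symm
        rw [IsZGroup.exponent_eq_card] at hexp2
        rw [hcompl.symm.index_eq_card, hexp2]
        exact hexpU
      · exact Or.inr (Or.inr (Or.inl hpp))
    exact Coherence.isCoherent_above hsolv hS hF hTτ ⊥ (bot_lt_iff_ne_bot.2 hK1) hg

end CfsgLib.OddOrder
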