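import Cfsg.Agent.OddOrder.LocalTypes
import Cfsg.Agent.OddOrder.Setup
import Cfsg.Agent.OddOrder.TypePBasic
import Cfsg.Agent.S4387
import Cfsg.Agent.Solvable.Fitting

/-!
# Peterfalvi (12.17): not every maximal subgroup is of Type I

The listed results that are needed are taken as hypotheses on `G`, in the form in which they are
stated.
-/

set_option autoImplicit false
set_option linter.style.haveILetI false
set_option linter.unusedSectionVars false

namespace CfsgLib.OddOrder

open Cfsg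
open scoped Pointwise

universe u

variable {G : Type u} [Group G] [Finite G]

omit [Finite G] in
/-- `M_F` lies in the subgroup `M_s` whatever the type of `M`. -/
theorem fittingHallOf_le_typeCore (M : Subgroup G) : fittingHallOf M ≤ typeCore M := by
  unfold typeCore
  split_ifs with h
  · rcases h with ⟨W₁, U, W₂, hP, -⟩ | ⟨W₁, U, W₂, hP, -⟩ <;>
    · refine le_trans ?_ hP.fitting_le
      rw [← hP.fitting_eq]
      exact le_sup_left
  · exact le_rfl

/-- For a maximal subgroup of Type I: `κ(M)` is empty and `M_σ = M_F`. -/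
theorem typeI_sigma_facts {M : Subgroup G} (hM : IsCoatom M) (hI : IsTypeI M)
    (h1351 : ∀ M : Subgroup G, IsCoatom M → (∃ K : Subgroup G, IsPiHallOf (kappa M) K M) ∧
      ∀ K : Subgroup G, IsPiHallOf (kappa M) K M → IsCyclic K)
    (h1352 : ∀ M K : Subgroup G, IsCoatom M → IsCyclic K → IsPiHallOf (kappa M) K M →
      ∃ U : Subgroup G, IsSigmaDecomposition M K U)
    (h1380 : ∀ M K U : Subgroup G, IsCoatom M → IsSigmaDecomposition M K U →
      (IsTypeI M ↔ (K = ⊥ ∧ U ≠ ⊥)))
    (h1357 : ∀ M K U : Subgroup G, IsCoatom M → IsSigmaDecomposition M K U →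
      fittingHallOf M ≠ sigmaCore M → U = ⊥) :
    kappa M = ∅ ∧ sigmaCore M = fittingHallOf M := by
  obtain ⟨⟨K, hK⟩, hcyc⟩ := h1351 M hM
  obtain ⟨U, hU⟩ := h1352 M K hM (hcyc K hK) hK
  obtain ⟨rfl, hU1⟩ := (h1380 M K U hM hU).1 hI
  refine ⟨Set.eq_empty_iff_forall_notMem.mpr fun p hp => hK.2.2 p hp.1 hp ?_, ?_⟩
  · rw [Subgroup.relIndex_bot_left]
    exact hp.2.1
  · by_contra h
    exact hU1 (h1357 M ⊥ U hM hU (Ne.symm h))

/-- For a Frobenius maximal subgroup of Type I, all centralisers lie in `M` and `M_F` is TI. -/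
theorem typeI_frobenius_ti (hG : IsMinSimpleOddOrder G)
    (hfrob : ∀ M : Subgroup G, IsCoatom M → ∀ x ∈ fittingHallOf M, x ≠ 1 →
      M ⊓ Subgroup.centralizer ({x} : Set G) ≤ fittingHallOf M)
    (hall : ∀ M : Subgroup G, IsCoatom M → IsTypeI M)
    (h1391 : ∀ M : Subgroup G, IsCoatom M →
      (∀ x ∈ supportA M, ∀ g : G, g * x * g⁻¹ ∈ supportA M → ∃ m ∈ M, m * x * m⁻¹ = g * x * g⁻¹) ∧
      ∀ x ∈ supportA M, ¬ Subgroup.centralizer ({x} : Set G) ≤ M →
        ∃ L : Subgroup G, IsCoatom L ∧ x ∈ supportA L ∧ x ∉ typeA1 L)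
    {M : Subgroup G} (hM : IsCoatom M) :
    (∀ x ∈ fittingHallOf M, x ≠ 1 → Subgroup.centralizer ({x} : Set G) ≤ M) ∧
      IsTISubset (fittingHallOf M : Set G) ∧ Subgroup.normalizer (fittingHallOf M : Set G) = M := by
  have hA : ∀ {M : Subgroup G}, IsCoatom M → ∀ x, x ∈ supportA M ↔ x ∈ fittingHallOf M ∧ x ≠ 1 := by
    intro M hM x
    simp only [supportA, if_pos (hall M hM), Set.mem_ofPred_eq]
    refine ⟨fun ⟨hxM, hx1, y, hy, hy1, hxy⟩ => ⟨hfrob M hM y hy hy1
      ⟨hxM, Subgroup.mem_centralizer_singleton_iff.mpr hxy⟩, hx1⟩,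
      fun ⟨hx, hx1⟩ => ⟨fittingHallOf_le M hx, hx1, x, hx, hx1, rfl⟩⟩
  have hC : ∀ x ∈ fittingHallOf M, x ≠ 1 → Subgroup.centralizer ({x} : Set G) ≤ M := by
    intro x hx hx1
    by_contra hne
    obtain ⟨L, hL, hxA, hxA1⟩ := (h1391 M hM).2 x ((hA hM x).2 ⟨hx, hx1⟩) hne
    exact hxA1 ⟨fittingHallOf_le_typeCore L ((hA hL x).1 hxA).1, ((hA hL x).1 hxA).2⟩
  have hH1 : fittingHallOf M ≠ ⊥ := fun h =>
    (hall M hM).1.2.2.1 ((Subgroup.map_eq_bot_iff_of_injective _ M.subtype_injective).1 h)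
  have hN : Subgroup.normalizer (fittingHallOf M : Set G) = M :=
    minSimple_normalizer_eq_coatom_of_le hG hM hH1 (fittingHallOf_le M) (le_normalizer_fittingHallOf M)
  refine ⟨hC, fun g hg x hx hgx => ?_, hN⟩
  by_contra hx1
  obtain ⟨m, hm, he⟩ := (h1391 M hM).1 x ((hA hM x).2 ⟨hx, hx1⟩) g
    ((hA hM _).2 ⟨hgx, fun h => hx1 (by simpa using h)⟩)
  refine hg ?_
  rw [hN]
  have hc : m⁻¹ * g ∈ Subgroup.centralizer ({x} : Set G) := by
    refine Subgroup.mem_centralizer_singleton_iff.mpr ?_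
    calc m⁻¹ * g * x = m⁻¹ * (g * x * g⁻¹) * g := by group
      _ = m⁻¹ * (m * x * m⁻¹) * g := by rw [he]
      _ = x * (m⁻¹ * g) := by group
  simpa using M.mul_mem hm (hC x hx hx1 hc)

/-- Peterfalvi (12.17), from the listed results it uses. -/
theorem exists_not_typeI (hG : IsMinSimpleOddOrder G)
    (h1540 : ∀ M : Subgroup G, IsCoatom M → IsTypeI M → ∀ x ∈ fittingHallOf M, x ≠ 1 →
      M ⊓ Subgroup.centralizer ({x} : Set G) ≤ fittingHallOf M)
    (h1351 : ∀ M : Subgroup G, IsCoatom M → (∃ K : Subgroup G, IsPiHallOf (kappa M) K M) ∧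
      ∀ K : Subgroup G, IsPiHallOf (kappa M) K M → IsCyclic K)
    (h1352 : ∀ M K : Subgroup G, IsCoatom M → IsCyclic K → IsPiHallOf (kappa M) K M →
      ∃ U : Subgroup G, IsSigmaDecomposition M K U)
    (h1380 : ∀ M K U : Subgroup G, IsCoatom M → IsSigmaDecomposition M K U →
      (IsTypeI M ↔ (K = ⊥ ∧ U ≠ ⊥)))
    (h1357 : ∀ M K U : Subgroup G, IsCoatom M → IsSigmaDecomposition M K U →
      fittingHallOf M ≠ sigmaCore M → U = ⊥)
    (h1350 : ∀ M : Subgroup G, IsCoatom M → IsPiHallOf (sigma M) (sigmaCore M) M)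
    (h1378 : ∀ M N : Subgroup G, IsCoatom M → IsCoatom N → (sigma M ∩ sigma N).Nonempty →
      ∃ g : G, N = M.map (MulAut.conj g).toMonoidHom)
    (h1379 : (∀ M : Subgroup G, IsCoatom M → kappa M = ∅) →
      ∀ g : G, g ≠ 1 → ∃ M : Subgroup G, IsCoatom M ∧ g ∈ tildeOf M ((sigmaCore M : Set G) \ {1}))
    (h1391 : ∀ M : Subgroup G, IsCoatom M →
      (∀ x ∈ supportA M, ∀ g : G, g * x * g⁻¹ ∈ supportA M → ∃ m ∈ M, m * x * m⁻¹ = g * x * g⁻¹) ∧
      ∀ x ∈ supportA M, ¬ Subgroup.centralizer ({x} : Set G) ≤ M →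
        ∃ L : Subgroup G, IsCoatom L ∧ x ∈ supportA L ∧ x ∉ typeA1 L)
    (h1526 : ∀ {ι : Type u} [Fintype ι], 2 ≤ Fintype.card ι → ∀ L H : ι → Subgroup G,
      (∀ i, H i < L i) → (∀ i, H i ≠ ⊥) → (∀ i, ∀ x ∈ L i, ∀ h ∈ H i, x * h * x⁻¹ ∈ H i) →
      (∀ i, ∀ h ∈ H i, h ≠ 1 → L i ⊓ Subgroup.centralizer ({h} : Set G) ≤ H i) →
      (∀ i j, i ≠ j → Nat.Coprime (Nat.card (H i)) (Nat.card (H j))) →
      (∀ i, IsTISubset (H i : Set G) ∧ Subgroup.normalizer (H i : Set G) = L i) →
      (∀ g : G, g ≠ 1 → ∃ i, ∃ x : G, x * g * x⁻¹ ∈ H i) → False) :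
    ∃ M : Subgroup G, IsCoatom M ∧ ¬ IsTypeI M := by
  classical
  by_contra hno
  push Not at hno
  have hfrob := fun M hM => h1540 M hM (hno M hM)
  have hsig := fun {M : Subgroup G} (hM : IsCoatom M) =>
    typeI_sigma_facts hM (hno M hM) h1351 h1352 h1380 h1357
  have hti := fun {M : Subgroup G} (hM : IsCoatom M) =>
    typeI_frobenius_ti hG hfrob hno h1391 hM
  let T := {M : Subgroup G // IsCoatom M}
  let s : Setoid T :=
    { r := fun a b => ∃ g : G, b.1 = a.1.map (MulAut.conj g).toMonoidHom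
      iseqv :=
        { refl := fun a => ⟨1, (map_conj_one a.1).symm⟩
          symm := fun {a b} ⟨g, hg⟩ => ⟨g⁻¹, by
            rw [hg, map_conj_map_conj, inv_mul_cancel, map_conj_one]⟩
          trans := fun {a b c} ⟨g, hg⟩ ⟨h, hh⟩ => ⟨h * g, by rw [hh, hg, map_conj_map_conj]⟩ } }
  let ι := Quotient s
  letI : Fintype ι := Fintype.ofFinite ι
  let rep : ι → T := Quotient.out
  have hcover : ∀ g : G, g ≠ 1 → ∃ i : ι, ∃ x : G, x * g * x⁻¹ ∈ fittingHallOf (rep i).1 := by
    intro g hg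
    obtain ⟨M, hM, a, ⟨ha, ha1⟩, r, hr, y, hy⟩ := h1379 (fun M hM => (hsig hM).1) g hg
    rw [SetLike.mem_coe, (hsig hM).2] at ha
    have hr1 : r = 1 := by
      rw [supportR, dif_neg (fun h => h.1 ((hti hM).1 a ha ha1)), Subgroup.mem_bot] at hr
      exact hr
    obtain ⟨c, hc⟩ := Quotient.mk_out (s := s) ⟨M, hM⟩
    refine ⟨Quotient.mk s ⟨M, hM⟩, c⁻¹ * y⁻¹, ?_⟩
    have hM' : M = (rep (Quotient.mk s ⟨M, hM⟩)).1.map (MulAut.conj c).toMonoidHom := hc
    obtain ⟨⟨m, hm⟩, hmF, rfl⟩ := ha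
    have hfh : ∀ (A B : Subgroup G) (c : G), IsCoatom A → B = A.map (MulAut.conj c).toMonoidHom →
        IsCoatom B → ∀ b : G, b ∈ fittingHallOf B → c⁻¹ * b * c ∈ fittingHallOf A := by
      intro A B c hA hAB hB b hb
      subst hAB
      have hle : (fittingHallOf (A.map (MulAut.conj c).toMonoidHom)).map (MulAut.conj c⁻¹).toMonoidHom ≤
          fittingHallOf A := by
        set B := A.map (MulAut.conj c).toMonoidHom with hBdef
        have hback : B.map (MulAut.conj c⁻¹).toMonoidHom = A := by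
          rw [hBdef, map_conj_map_conj, inv_mul_cancel, map_conj_one]
        have hcardF : Nat.card (fittingHallOf B) = Nat.card (fittingHall B) :=
          Subgroup.card_map_of_injective B.subtype_injective
        refine le_fittingHallOf ?_ ?_ ?_ ?_
        · conv_rhs => rw [← hback]
          exact Subgroup.map_mono (fittingHallOf_le B)
        · have h := Subgroup.map_mono (f := (MulAut.conj c⁻¹).toMonoidHom) (le_normalizer_fittingHallOf B)
          rw [hback, map_conj_normalizer] at h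
          exact h
        · have hle' : fittingHall B ≤ fittingSubgroup B :=
            sSup_le fun N hN => le_sSup ⟨hN.1, hN.2.1⟩
          haveI := Solvable.fittingSubgroup_isNilpotent (G := B)
          haveI : Group.IsNilpotent (fittingHall B) :=
            Group.nilpotent_of_mulEquiv (Subgroup.subgroupOfEquivOfLe hle')
          exact Group.nilpotent_of_mulEquiv
            (((fittingHall B).equivMapOfInjective B.subtype B.subtype_injective).trans
              ((fittingHallOf B).equivMapOfInjective (MulAut.conj c⁻¹).toMonoidHom (MulAut.conj c⁻¹).injective))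
        · have hidx : ((fittingHallOf B).map (MulAut.conj c⁻¹).toMonoidHom).relIndex A =
              (fittingHall B).index := by
            conv_lhs => rw [← hback]
            rw [Subgroup.relIndex_map_map_of_injective _ _ (MulAut.conj c⁻¹).injective, Subgroup.relIndex,
              fittingHallOf, Subgroup.subgroupOf,
              Subgroup.comap_map_eq_self_of_injective B.subtype_injective]
          rw [hidx, card_map_conj, hcardF]
          exact fittingHall_coprime_index B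
      exact hle ⟨b, hb, by simp⟩
    have := hfh _ M c (rep _).2 hM' hM m ⟨⟨m, hm⟩, hmF, rfl⟩
    rw [hy, hr1, mul_one]
    simpa [mul_assoc] using this
  refine h1526 (ι := ι) ?_ (fun i => (rep i).1) (fun i => fittingHallOf (rep i).1) ?_ ?_ ?_ ?_ ?_ ?_ hcover
  · by_contra hlt
    obtain ⟨M₀, hM₀, -⟩ := minSimple_exists_coatom hG (H := ⊥) (fun h =>
      (minSimple_not_solvable hG) (by
        haveI : Subsingleton G := Subgroup.subsingleton_iff.mp (subsingleton_of_bot_eq_top h)
        infer_instance))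
    have hsub : ∀ i j : ι, i = j := by
      haveI : Subsingleton ι := Fintype.card_le_one_iff_subsingleton.mp (by omega)
      exact Subsingleton.elim
    obtain ⟨x, hx⟩ := Agent.S4387.exists_not_mem_conjugates (rep (Quotient.mk s ⟨M₀, hM₀⟩)).1
      (rep _).2.1
    have hx1 : x ≠ 1 := fun h => hx 1 (by simp [h])
    obtain ⟨i, y, hy⟩ := hcover x hx1
    refine hx y⁻¹ ?_
    rw [hsub i (Quotient.mk s ⟨M₀, hM₀⟩)] at hy
    rw [Subgroup.mem_pointwise_smul_iff_inv_smul_mem]
    simpa [mul_assoc] using fittingHallOf_le _ hy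
  · intro i
    refine lt_of_le_of_ne (fittingHallOf_le _) fun h => (hno _ (rep i).2).1.2.2.2.1 ?_
    refine Subgroup.map_injective (rep i).1.subtype_injective ?_
    rw [← MonoidHom.range_eq_map, Subgroup.range_subtype]
    exact h
  · exact fun i h => (hno _ (rep i).2).1.2.2.1
      ((Subgroup.map_eq_bot_iff_of_injective _ (rep i).1.subtype_injective).1 h)
  · intro i x hx h hh
    exact (Subgroup.mem_normalizer_iff.mp (le_normalizer_fittingHallOf _ hx) h).mp hh
  · exact fun i => hfrob _ (rep i).2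
  · intro i j hij
    refine Nat.coprime_of_dvd fun p hp hpi hpj => hij ?_
    rw [← (hsig (rep i).2).2] at hpi
    rw [← (hsig (rep j).2).2] at hpj
    have := h1378 _ _ (rep i).2 (rep j).2
      ⟨p, (h1350 _ (rep i).2).2.1 p hp hpi, (h1350 _ (rep j).2).2.1 p hp hpj⟩
    have he : Quotient.mk s (rep i) = Quotient.mk s (rep j) := Quotient.sound this
    rwa [Quotient.out_eq, Quotient.out_eq] at he
  · exact fun i => (hti (rep i).2).2

end CfsgLib.OddOrder
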