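import Cfsg.Agent.OddOrder.PF12.Witness
import Cfsg.Agent.OddOrder.PF12.Coherent
import Cfsg.Agent.OddOrder.PF12.NotAllTypeI
import Cfsg.Agent.S1526

/-!
# The results of Peterfalvi section 12 from `PF12Facts`
-/

set_option autoImplicit false
set_option linter.unusedSectionVars false

namespace CfsgLib.OddOrder

open Cfsg

universe u

variable {G : Type u} [Group G] [Fintype G]

/-- (12.6): coherence for a Frobenius maximal subgroup of Type I. -/
theorem BG16Facts.typeI_coherent (hG : IsMinSimpleOddOrder G) (F : BG16Facts G) {L : Subgroup G}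
    [Fintype L] (hL : IsCoatom L) (hI : IsTypeI L)
    (hfrob : ∀ x ∈ fittingHallOf L, x ≠ 1 →
      L ⊓ Subgroup.centralizer ({x} : Set G) ≤ fittingHallOf L) :
    (∀ χ ∈ inducedIrrAbove (fittingHall L) ⊥, IsIrrCharacter L χ) ∧
      IsCoherent (inducedIrrAbove (fittingHall L) ⊥) {1}ᶜ
        (dadeIsometry (supportA L) L (supportR L)) :=
  typeI_frobenius_coherent hG hL hI hfrob (F.dade hL (Or.inr (Or.inl rfl)))

/-- (12.17): some maximal subgroup is not of Type I. The covering is part of S1379. -/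
theorem PF12Facts.exists_not_typeI' (hG : IsMinSimpleOddOrder G) (F : PF12Facts G)
    (hcover : (∀ M : Subgroup G, IsCoatom M → kappa M = ∅) →
      ∀ g : G, g ≠ 1 → ∃ M : Subgroup G, IsCoatom M ∧ g ∈ tildeOf M ((sigmaCore M : Set G) \ {1})) :
    ∃ M : Subgroup G, IsCoatom M ∧ ¬ IsTypeI M := by
  refine exists_not_typeI hG (fun M hM hI => F.typeI_is_frobenius hG hM hI) F.exists_kappa
    F.exists_decomp F.typeI F.fitting_sigma (fun M hM => (sigmaCore_isHall hG hM).1) F.sigma_conj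
    hcover (fun M hM => ?_)
    (fun {ι} _ => fun hι L H h1 h2 h3 h4 h5 h6 h7 =>
      Cfsg.Agent.S1526.result hG.1 hι L H h1 h2 h3 h4 h5 h6 h7)
  obtain ⟨hconj, hD, hsupp⟩ := F.theoremII M (supportA M) hM (Or.inl rfl)
  refine ⟨hconj, fun x hx hC => ?_⟩
  obtain ⟨L, ⟨hL, hLC⟩, -⟩ := (hD x hx hC).2
  obtain ⟨-, -, -, -, hA, -⟩ := hsupp x hx hC L hL hLC
  exact ⟨L, hL, hA⟩

end CfsgLib.OddOrder
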