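import Cfsg.Agent.OddOrder.PF12.TypeIChars
import Cfsg.Agent.GaloisConj.Basic
import Cfsg.Agent.OddOrder.PF7.Frobenius
import Cfsg.Agent.OddOrder.PF7.Norm

/-!
# The Frobenius subgroup side of Peterfalvi (12.7)

For a Frobenius maximal subgroup `L` of Type I with kernel `H`, the coherent extension `ψ` of an
induced linear character `χ`: its average on `H` is `χ + c` with `c` an integer, and it is fixed by
the automorphisms fixing the `|H|`-th roots of unity.
-/

set_option autoImplicit false
set_option linter.style.haveILetI false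
set_option linter.unusedSectionVars false

namespace CfsgLib.OddOrder

open Cfsg CfsgLib.Characters CfsgLib.OddOrderChar
open scoped ComplexConjugate

section General

variable {K : Type*} [Group K] [Fintype K]

/-- A class function whose coefficients at non-principal characters are proportional to the degree is
constant off the identity. -/
theorem const_off_one {g : K → ℂ} (hg : IsClassFunction K g) (a : ℂ)
    (h : ∀ θ : K → ℂ, IsIrrCharacter K θ → θ ≠ (fun _ => 1) → classInner g θ = a * θ 1) {k : K}
    (hk : k ≠ 1) : g k = classInner g (fun _ => 1) - a := by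
  classical
  have h0 := sum_degree_mul (G := K) k
  rw [if_neg hk] at h0
  conv_lhs => rw [classFunction_expansion hg]
  simp only [Finset.sum_apply, Pi.smul_apply, smul_eq_mul]
  rw [← sub_zero (Finset.sum _ _), ← mul_zero a, ← h0, Finset.mul_sum, ← Finset.sum_sub_distrib,
    Finset.sum_eq_single (⟨fun _ => 1, isIrr_one⟩ : IrrCharacter K)]
  · simp
  · intro φ _ hφ
    rw [h φ φ.2 fun e => hφ (Subtype.ext e)]
    ring
  · exact fun h' => absurd (Finset.mem_univ _) h'

end General

section Mass

variable {G : Type*} [Group G] [Fintype G]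

open Classical in
/-- The norm of the averaged function is at most the mass of `ψ` on the Dade support. -/
theorem sqNorm_avg_le {A : Set G} {M : Subgroup G} [Fintype M] {R : G → Subgroup G}
    (hD : DadeHypothesis A M R) {ψ : G → ℂ} (hψ : IsClassFunction G ψ) :
    Coherence.sqNorm (dadeAvg A M R ψ) ≤ (Nat.card G : ℝ)⁻¹ *
      ∑ g ∈ Finset.univ.filter
        (fun g : G => ∃ a ∈ A, ∃ u ∈ R a, ∃ x : G, x * g * x⁻¹ = a * u), ‖ψ g‖ ^ 2 := by
  have h := dade_norm_inequality hD hψ (ψ := dadeAvg A M R ψ) fun a ha => dadeAvg_of_mem ψ ha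
  rw [finsum_mem_eq_finite_toFinset_sum _ (Set.toFinite _),
    finsum_mem_eq_finite_toFinset_sum _ (Set.toFinite _)] at h
  rw [Coherence.sqNorm]
  refine le_trans (le_of_eq ?_) (h.trans (le_of_eq ?_))
  · have h1 : classInner (dadeAvg A M R ψ) (dadeAvg A M R ψ) =
        (((Nat.card M : ℝ)⁻¹ * ∑ a : M, ‖dadeAvg A M R ψ a‖ ^ 2 : ℝ) : ℂ) := by
      simp only [classInner, Complex.mul_conj, Complex.normSq_eq_norm_sq]
      push_cast
      ring
    rw [h1, Complex.ofReal_re]
    congr 1
    refine (Finset.sum_subset (Finset.subset_univ _) fun a _ ha => ?_).symm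
    rw [dadeAvg_of_notMem ψ (by simpa using ha)]
    simp
  · congr 2
    ext g
    simp

/-- The masses on two disjoint supports add up to at most the norm. -/
theorem sum_mass_le {ψ : G → ℂ} (s t : Finset G) (hst : Disjoint s t) :
    (Nat.card G : ℝ)⁻¹ * ∑ g ∈ s, ‖ψ g‖ ^ 2 + (Nat.card G : ℝ)⁻¹ * ∑ g ∈ t, ‖ψ g‖ ^ 2 ≤
      Coherence.sqNorm ψ := by
  classical
  have h1 : classInner ψ ψ = (((Nat.card G : ℝ)⁻¹ * ∑ g : G, ‖ψ g‖ ^ 2 : ℝ) : ℂ) := by
    simp only [classInner, Complex.mul_conj, Complex.normSq_eq_norm_sq]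
    push_cast
    ring
  rw [Coherence.sqNorm, h1, Complex.ofReal_re, ← mul_add, ← Finset.sum_union hst]
  exact mul_le_mul_of_nonneg_left
    (Finset.sum_le_sum_of_subset_of_nonneg (Finset.subset_univ _) fun _ _ _ => by positivity)
    (by positivity)

/-- Two orthogonal signed irreducible characters whose difference is `ν - conj ν` are conjugate. -/
theorem eq_conjFun_of_sub_eq {a b ν : G → ℂ} (ha : IsIrrCharacter G a ∨ IsIrrCharacter G (-a))
    (hb : IsIrrCharacter G b ∨ IsIrrCharacter G (-b)) (hν : IsIrrCharacter G ν)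
    (hab : a - b = ν - conjFun ν) (hne : conjFun ν ≠ ν) : b = conjFun a := by
  have key : ∀ {c : G → ℂ}, IsIrrCharacter G c ∨ IsIrrCharacter G (-c) →
      c = ν ∨ c = -ν ∨ classInner c ν = 0 := by
    intro c hc
    rcases hc with h | h
    · by_cases e : c = ν
      · exact Or.inl e
      · exact Or.inr (Or.inr (classInner_isIrr_ne h hν e))
    · by_cases e : -c = ν
      · exact Or.inr (Or.inl (by rw [← e, neg_neg]))
      · refine Or.inr (Or.inr ?_)
        rw [← neg_neg c, Coherence.ci_neg_left, classInner_isIrr_ne h hν e, neg_zero]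
  have h1 : classInner a ν - classInner b ν = 1 := by
    rw [← Coherence.ci_sub_left, hab, Coherence.ci_sub_left, classInner_isIrr_self hν,
      classInner_isIrr_ne (Coherence.isIrr_conjFun hν) hν hne, sub_zero]
  rcases key ha with rfl | rfl | hz
  · rw [sub_right_inj] at hab
    exact hab
  · have hν1 : classInner ν ν = 1 := classInner_isIrr_self hν
    rcases key hb with rfl | rfl | hz'
    · rw [Coherence.ci_neg_left, hν1] at h1; norm_num at h1
    · rw [sub_self] at h1; exact absurd h1.symm one_ne_zero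
    · rw [Coherence.ci_neg_left, hν1, hz', sub_zero] at h1; norm_num at h1
  · rcases key hb with rfl | rfl | hz'
    · rw [hz, classInner_isIrr_self hν] at h1; norm_num at h1
    · have hd : a = -conjFun ν := by linear_combination (norm := abel) hab
      rw [hd]
      funext g
      simp [conjFun]
    · rw [hz, hz', sub_zero] at h1; exact absurd h1.symm one_ne_zero

/-- Signed irreducible characters of equal value at `1`: if `⟨a, c⟩ - ⟨b, c⟩ = 1` then `a = c`. -/
theorem signed_eq_of_ci {a b c : G → ℂ} (ha : IsIrrCharacter G a ∨ IsIrrCharacter G (-a))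
    (hb : IsIrrCharacter G b ∨ IsIrrCharacter G (-b)) (hc : IsIrrCharacter G c ∨ IsIrrCharacter G (-c))
    (hac : a 1 = c 1) (hbc : b 1 = c 1) (h : classInner a c - classInner b c = 1) : a = c := by
  have side : ∀ {u v : G → ℂ}, IsIrrCharacter G u → IsIrrCharacter G (-v) → u 1 = v 1 → False := by
    intro u v hu hv huv
    obtain ⟨d, hd0, hd⟩ := exists_degree_pos hu
    obtain ⟨d', hd0', hd'⟩ := exists_degree_pos hv
    rw [Pi.neg_apply, ← huv, hd] at hd'
    have h2 : -(d : ℤ) = (d' : ℤ) := by exact_mod_cast hd'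
    omega
  by_contra hne
  rcases hc with hc | hc
  · have ha' := ha.resolve_right fun h' => side hc h' hac.symm
    have hb' := hb.resolve_right fun h' => side hc h' hbc.symm
    rw [classInner_isIrr_ne ha' hc hne] at h
    by_cases e2 : b = c
    · rw [e2, classInner_isIrr_self hc] at h; norm_num at h
    · rw [classInner_isIrr_ne hb' hc e2] at h; norm_num at h
  · have ha' := ha.resolve_left fun h' => side h' hc hac
    have hb' := hb.resolve_left fun h' => side h' hc hbc
    have hneg : ∀ u : G → ℂ, classInner u c = classInner (-u) (-c) := fun u => by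
      rw [Coherence.ci_neg_left, Coherence.ci_neg_right, neg_neg]
    rw [hneg a, hneg b, classInner_isIrr_ne ha' hc (fun e => hne (neg_injective e))] at h
    by_cases e2 : -b = -c
    · rw [e2, classInner_isIrr_self hc] at h; norm_num at h
    · rw [classInner_isIrr_ne hb' hc e2] at h; norm_num at h

end Mass

variable {G : Type*} [Group G] [Fintype G] {L : Subgroup G} [Fintype L]

/-- The Dade map commutes with field automorphisms applied to the values. -/
theorem dade_comp_aut {A : Set G} {R : G → Subgroup G} (σ : ℂ ≃+* ℂ) (α : ↥L → ℂ) (g : G) :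
    σ (dadeIsometry A L R α g) = dadeIsometry A L R (fun x => σ (α x)) g := by
  unfold dadeIsometry
  split_ifs with h
  · rfl
  · exact map_zero σ

/-- The data attached to a Frobenius maximal subgroup of Type I. -/
theorem exists_frobenius_side (hG : IsMinSimpleOddOrder G) (hL : IsCoatom L) (hI : IsTypeI L)
    [Fintype (fittingHall L)]
    (hfrob : ∀ x ∈ fittingHallOf L, x ≠ 1 → L ⊓ Subgroup.centralizer ({x} : Set G) ≤ fittingHallOf L)
    (hD : DadeHypothesis (supportA L) L (supportR L)) :
    ∃ (θ : fittingHall L → ℂ) (ψ : G → ℂ), IsIrrCharacter (fittingHall L) θ ∧ θ ≠ (fun _ => 1) ∧ θ 1 = 1 ∧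
      (IsIrrCharacter G ψ ∨ IsIrrCharacter G (-ψ)) ∧
      dadeIsometry (supportA L) L (supportR L)
        (indFun (fittingHall L) θ - conjFun (indFun (fittingHall L) θ)) = ψ - conjFun ψ ∧
      (∀ σ : ℂ ≃+* ℂ, (∀ z : ℂ, z ^ Nat.card (fittingHall L) = 1 → σ z = z) →
        ∀ g, σ (ψ g) = ψ g) ∧
      ∃ c : ℤ, (∀ a : L, a ∈ fittingHall L → a ≠ 1 →
          dadeAvg (supportA L) L (supportR L) ψ a = indFun (fittingHall L) θ a + c) ∧
        Coherence.sqNorm (dadeAvg (supportA L) L (supportR L) ψ) =
          1 + (c : ℝ) ^ 2 / (fittingHall L).index -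
            (((fittingHall L).index : ℝ) + c) ^ 2 / Nat.card L := by
  classical
  obtain ⟨hirr, -, τ₁, h₁, h₂⟩ := typeI_frobenius_coherent hG hL hI hfrob hD
  have hA : ∀ x : L, (x : G) ∈ supportA L ↔ x ∈ fittingHall L ∧ x ≠ 1 := by
    intro x
    rw [typeA_typeI_frobenius hI hfrob, Set.mem_sdiff, SetLike.mem_coe, Set.mem_singleton_iff,
      fittingHallOf, ← OneMemClass.coe_one L, Subtype.coe_inj]
    rw [show (x : G) = L.subtype x from rfl, Subgroup.mem_map_iff_mem L.subtype_injective]
  have hC : ∀ n ∈ fittingHall L, n ≠ 1 → Subgroup.centralizer ({n} : Set L) ≤ fittingHall L := by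
    intro n hn hn1 y hy
    have h1 := hfrob n (Subgroup.mem_map_of_mem L.subtype hn) (fun h => hn1 (Subtype.ext h))
      ⟨y.2, Subgroup.mem_centralizer_singleton_iff.mpr
        (congrArg Subtype.val (Subgroup.mem_centralizer_singleton_iff.mp hy))⟩
    exact (Subgroup.mem_map_iff_mem L.subtype_injective).mp h1
  have hHtop : fittingHall L ≠ ⊤ := hI.1.2.2.2.1
  have hH1 : fittingHall L ≠ ⊥ := hI.1.2.2.1
  have hsolv : Group.IsSolvable (fittingHall L) := by
    have := hI.1.1
    infer_instance
  -- a linear character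
  obtain ⟨χ, hχmem, hχ1⟩ := Coherence.exists_linear_mem (K := fittingHall L) hsolv ⊥
    (bot_lt_iff_ne_bot.2 hH1)
  obtain ⟨θ, hθ, hθne, -, rfl⟩ := id hχmem
  set e : ℕ := (fittingHall L).index with he
  have he0 : (e : ℂ) ≠ 0 := Nat.cast_ne_zero.mpr Subgroup.index_ne_zero_of_finite
  have hθ1 : θ 1 = 1 := by
    rw [Coherence.ind_one] at hχ1
    exact (mul_eq_left₀ he0).mp hχ1
  set χ := indFun (fittingHall L) θ with hχ
  have hχirr : IsIrrCharacter L χ := hirr χ hχmem
  have hχoff : ∀ x : L, x ∉ fittingHall L → χ x = 0 := fun x hx => indFun_normal_eq_zero _ θ hx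
  have hχmem' : conjFun χ ∈ inducedIrrAbove (fittingHall L) ⊥ :=
    Coherence.conj_mem_inducedIrrAbove (fittingHall L) hχmem
  have hχne : conjFun χ ≠ χ := Coherence.frob_conj_ne hC hI.1.2.1 (lt_top_iff_ne_top.2 hHtop) χ hχmem
  have hspan : ∀ {a : ↥L → ℂ}, a ∈ inducedIrrAbove (fittingHall L) ⊥ →
      a ∈ zspan (inducedIrrAbove (fittingHall L) ⊥) := fun h => Coherence.mem_zspan_of_mem h
  have hsigned : ∀ φ ∈ inducedIrrAbove (fittingHall L) ⊥,
      IsIrrCharacter G (τ₁ φ) ∨ IsIrrCharacter G (-(τ₁ φ)) := by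
    intro φ hφ
    refine Coherence.gen_norm_one (h₁.2.2.2 φ (hspan hφ)) ?_
    rw [h₁.2.2.1 φ (hspan hφ) φ (hspan hφ), classInner_isIrr_self (hirr φ hφ)]
  have hsub : ∀ φ ∈ inducedIrrAbove (fittingHall L) ⊥, ∀ φ' ∈ inducedIrrAbove (fittingHall L) ⊥,
      ∀ m : ℕ, φ 1 = m * φ' 1 →
      τ₁ φ - (m : ℂ) • τ₁ φ' = dadeIsometry (supportA L) L (supportR L) (φ - (m : ℂ) • φ') ∧
        ∀ x : L, (x : G) ∉ supportA L → (φ - (m : ℂ) • φ') x = 0 := by
    intro φ hφ φ' hφ' m hm
    have e1 : φ - (m : ℂ) • φ' = φ + (-(m : ℤ)) • φ' := by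
      rw [← Int.cast_smul_eq_zsmul ℂ]; simp [sub_eq_add_neg]
    have hz : φ - (m : ℂ) • φ' ∈ zspanOn (inducedIrrAbove (fittingHall L) ⊥) ({1}ᶜ : Set L) := by
      refine Coherence.mem_zspanOn_one.2 ⟨?_, by simp [hm]⟩
      rw [e1]
      exact Submodule.add_mem _ (hspan hφ) (Submodule.smul_mem _ _ (hspan hφ'))
    refine ⟨?_, fun x hx => ?_⟩
    · rw [← h₂ _ hz, e1, h₁.1 _ (hspan hφ) _ (Submodule.smul_mem _ _ (hspan hφ')),
        h₁.2.1 _ (hspan hφ'), ← Int.cast_smul_eq_zsmul ℂ]
      simp [sub_eq_add_neg]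
    · by_cases hx1 : x = 1
      · simp [hx1, hm]
      · have hxH : x ∉ fittingHall L := fun h => hx ((hA x).2 ⟨h, hx1⟩)
        obtain ⟨a, -, -, -, rfl⟩ := hφ
        obtain ⟨b, -, -, -, rfl⟩ := hφ'
        simp [indFun_normal_eq_zero _ _ hxH]
  set ψ := τ₁ χ with hψ
  have hψs := hsigned χ hχmem
  -- `τ₁` commutes with conjugation at `χ`
  have hχd : χ 1 = ((1 : ℕ) : ℂ) * conjFun χ 1 := by simp [conjFun, hχ1]
  obtain ⟨hτχ, -⟩ := hsub χ hχmem (conjFun χ) hχmem' 1 hχd
  simp only [Nat.cast_one, one_smul] at hτχ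
  have hψcf : τ₁ (conjFun χ) = conjFun ψ := by
    obtain ⟨ν, hν, eν⟩ := dade_sub_conj hD hχirr (fun x hx hxA => hχoff x fun h => hxA ((hA x).2 ⟨h, hx⟩))
    refine eq_conjFun_of_sub_eq hψs (hsigned _ hχmem') hν (hτχ.trans eν) fun hreal => ?_
    have h0 : classInner (τ₁ χ - τ₁ (conjFun χ)) (τ₁ χ) = 0 := by
      rw [hτχ, eν, hreal, sub_self, classInner_zero_left]
    rw [Coherence.ci_sub_left, h₁.2.2.1 _ (hspan hχmem) _ (hspan hχmem),
      h₁.2.2.1 _ (hspan hχmem') _ (hspan hχmem), classInner_isIrr_self hχirr,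
      classInner_isIrr_ne (Coherence.isIrr_conjFun hχirr) hχirr hχne] at h0
    norm_num at h0
  have eψ : dadeIsometry (supportA L) L (supportR L) (χ - conjFun χ) = ψ - conjFun ψ := by
    rw [← hτχ, hψcf]
  refine ⟨θ, ψ, hθ, hθne, hθ1, hψs, eψ, ?_, ?_⟩
  · -- Galois invariance
    intro σ hσ
    have hθσ : ∀ k : fittingHall L, σ (θ k) = θ k := by
      obtain ⟨f, hf⟩ := exists_hom_of_degree_one (isCharacter_of_isIrr hθ) hθ1
      intro k
      refine hσ _ ?_
      rw [hf]
      simp only
      rw [← Units.val_pow_eq_pow_val, ← map_pow, pow_card_eq_one', map_one, Units.val_one]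
    have hχσ : ∀ x : L, σ (χ x) = χ x := by
      intro x
      simp only [hχ, indFun, map_mul, map_inv₀, map_natCast, map_sum]
      congr 1
      refine Finset.sum_congr rfl fun y _ => ?_
      by_cases hy : y⁻¹ * x * y ∈ fittingHall L
      · rw [OddOrderChar.extendByZero_of_mem _ θ hy]
        exact hθσ _
      · rw [OddOrderChar.extendByZero_of_notMem _ θ hy, map_zero]
    set ψσ : G → ℂ := fun g => σ (ψ g) with hψσ
    set φσ : G → ℂ := fun g => σ (conjFun ψ g) with hφσ
    have hs1 : IsIrrCharacter G ψσ ∨ IsIrrCharacter G (-ψσ) := by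
      rcases hψs with h | h
      · exact Or.inl (GaloisConj.isIrrCharacter_comp σ h)
      · refine Or.inr ?_
        convert GaloisConj.isIrrCharacter_comp σ h using 1
        funext g; simp [hψσ, hψ]
    have hdiff : ψσ - φσ = ψ - conjFun ψ := by
      funext g
      have h := congrFun eψ g
      have h' : σ (dadeIsometry (supportA L) L (supportR L) (χ - conjFun χ) g) =
          dadeIsometry (supportA L) L (supportR L) (χ - conjFun χ) g := by
        rw [dade_comp_aut]
        congr 1
        funext x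
        have hx : σ (conjFun χ x) = conjFun χ x := by
          simp only [conjFun]
          by_cases hxH : x ∈ fittingHall L
          · rw [← Characters.gen_inv (Characters.isGen_of_isIrr hχirr) x, hχσ]
          · simp [hχoff x hxH]
        simp only [Pi.sub_apply, map_sub, hχσ, hx]
      rw [h] at h'
      simpa [hψσ, hφσ] using h'
    by_contra hne
    push Not at hne
    obtain ⟨g, hg⟩ := hne
    have hneq : ψσ ≠ ψ := fun h => hg (congrFun h g)
    -- otherwise `σ (conj ψ) = - ψ`, impossible at the identity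
    have h1 : classInner (ψ - conjFun ψ) ψ = 1 := by
      rw [← eψ, ← hτχ, Coherence.ci_sub_left, hψ, h₁.2.2.1 _ (hspan hχmem) _ (hspan hχmem),
        h₁.2.2.1 _ (hspan hχmem') _ (hspan hχmem), classInner_isIrr_self hχirr,
        classInner_isIrr_ne (Coherence.isIrr_conjFun hχirr) hχirr hχne, sub_zero]
    have hs2 : IsIrrCharacter G φσ ∨ IsIrrCharacter G (-φσ) := by
      rcases hψs with h | h
      · exact Or.inl (GaloisConj.isIrrCharacter_comp σ (Coherence.isIrr_conjFun h))
      · refine Or.inr ?_
        convert GaloisConj.isIrrCharacter_comp σ (Coherence.isIrr_conjFun h) using 1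
        funext g; simp [hφσ, conjFun, hψ]
    obtain ⟨z, hz⟩ : ∃ z : ℤ, ψ 1 = z :=
      Characters.gen_one_isInt (h₁.2.2.2 χ (hspan hχmem))
    rw [← hdiff, Coherence.ci_sub_left] at h1
    refine hneq (signed_eq_of_ci hs1 hs2 hψs ?_ ?_ h1)
    · simp [hψσ, hz]
    · simp [hφσ, conjFun, hz]
  · -- the average
    set f := dadeAvg (supportA L) L (supportR L) ψ with hf
    have hψcl : IsClassFunction G ψ := Coherence.isClassFunction_of_isGen (h₁.2.2.2 χ (hspan hχmem))
    have hfcl : IsClassFunction L f := isClassFunction_dadeAvg hD hψcl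
    have hcoef : ∀ φ ∈ inducedIrrAbove (fittingHall L) ⊥, ∀ m : ℕ, φ 1 = m * χ 1 →
        classInner f φ - classInner χ φ = m * (classInner f χ - classInner χ χ) := by
      intro φ hφ m hm
      obtain ⟨h1, hsupp⟩ := hsub φ hφ χ hχmem m hm
      have hcl : IsClassFunction L (φ - (m : ℂ) • χ) := fun a b => by
        simp [isClassFunction_of_isIrr (hirr φ hφ) a b, isClassFunction_of_isIrr hχirr a b]
      have h2 := classInner_dade_avg hD hψcl hcl hsupp
      rw [← h1, Coherence.ci_sub_right, Coherence.ci_sub_right, Coherence.ci_smul_right,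
        Coherence.ci_smul_right, Complex.conj_natCast, hψ, h₁.2.2.1 _ (hspan hχmem) _ (hspan hφ),
        h₁.2.2.1 _ (hspan hχmem) _ (hspan hχmem)] at h2
      linear_combination (-1 : ℂ) * h2
    set a := classInner f χ - classInner χ χ with ha
    have hconst : ∀ k : fittingHall L, k ≠ 1 →
        f k - χ k = classInner (fun n : fittingHall L => f n - χ n) (fun _ => 1) - a := by
      intro k hk
      have hcl : IsClassFunction (fittingHall L) (fun n : fittingHall L => f n - χ n) := fun x y => by
        simpa using congrArg₂ (· - ·) (hfcl (x : L) (y : L))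
          (isClassFunction_of_isIrr hχirr (x : L) (y : L))
      refine const_off_one hcl a (fun η hη hne => ?_) hk
      have hmem : indFun (fittingHall L) η ∈ inducedIrrAbove (fittingHall L) ⊥ :=
        ⟨η, hη, hne, fun x hx => congrArg η (Subtype.ext (Subgroup.mem_bot.mp hx)), rfl⟩
      obtain ⟨m, -, hm⟩ := exists_degree_pos hη
      have h := hcoef _ hmem m (by rw [Coherence.ind_one, hχ, Coherence.ind_one, hθ1, hm]; ring)
      rw [← hm, OddOrderChar.classInner_indFun_right _ η hfcl,
        OddOrderChar.classInner_indFun_right _ η (isClassFunction_of_isIrr hχirr)] at h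
      rw [show (fun n : fittingHall L => f n - χ n) =
        (fun n : fittingHall L => f n) - (fun n : fittingHall L => χ n) from rfl,
        Coherence.ci_sub_left, h, mul_comm]
    set b := classInner (fun n : fittingHall L => f n - χ n) (fun _ => 1) - a with hb
    -- `f` as a combination
    set Φ : ↥L → ℂ := indFun (fittingHall L) (fun _ => 1) with hΦ
    set δ : ↥L → ℂ := fun x => if x = 1 then 1 else 0 with hδ
    have hΦon : ∀ x : L, x ∈ fittingHall L → Φ x = e := by
      intro x hx
      rw [hΦ, show x = ((⟨x, hx⟩ : fittingHall L) : L) from rfl, indFun_normal_apply]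
      simp only [conjBy_apply, Finset.sum_const, Finset.card_univ, nsmul_eq_mul, mul_one]
      rw [he, inv_mul_eq_iff_eq_mul₀ (Nat.cast_ne_zero.mpr Nat.card_pos.ne'),
        Fintype.card_eq_nat_card, ← Nat.cast_mul, Subgroup.card_mul_index]
    have hfeq : f = χ + (b / e) • Φ - ((e : ℂ) + b) • δ := by
      funext x
      simp only [Pi.add_apply, Pi.sub_apply, Pi.smul_apply, smul_eq_mul, hδ]
      by_cases hx : x ∈ fittingHall L
      · rw [hΦon x hx, div_mul_cancel₀ b he0]
        by_cases hx1 : x = 1
        · rw [if_pos hx1, hf, dadeAvg_of_notMem ψ (fun h => ((hA x).1 h).2 hx1), hx1, hχ1]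
          ring
        · rw [if_neg hx1, mul_zero, sub_zero]
          linear_combination hconst ⟨x, hx⟩ fun h => hx1 (congrArg Subtype.val h)
      · rw [hχoff x hx, hΦ, indFun_normal_eq_zero _ _ hx, if_neg (show x ≠ 1 from fun h => hx (by rw [h]; exact one_mem _)), hf,
          dadeAvg_of_notMem ψ fun h => hx ((hA x).1 h).1]
        ring
    have hδci : ∀ φ : ↥L → ℂ, classInner δ φ = (Nat.card L : ℂ)⁻¹ * conj (φ 1) := by
      intro φ
      simp [classInner, hδ, ite_mul]
    have hΦ1 : Φ 1 = e := hΦon 1 (one_mem _)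
    have hχΦ : classInner χ Φ = 0 := by
      rw [hΦ, OddOrderChar.classInner_indFun_right _ _ (isClassFunction_of_isIrr hχirr)]
      refine classInner_res_one (fittingHall L) hχirr ?_
      by_contra hnt
      exact (frobenius_ind_norm (fittingHall L) hC hθ hθne).symm.trans
        (show classInner χ χ = 0 by
          rw [hχ, OddOrderChar.classInner_indFun_left _ θ (isClassFunction_of_isIrr hχirr),
            classInner_conj_symm, classInner_res_of_trivial (fittingHall L) hnt hθ hθne, map_zero])
        |> one_ne_zero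
    have hΦΦ : classInner Φ Φ = e := by
      rw [hΦ, OddOrderChar.classInner_indFun_left _ _
        (OddOrderChar.isClassFunction_ind _ _),
        show (fun n : fittingHall L => indFun (fittingHall L) (fun _ => (1 : ℂ)) n) =
          (e : ℂ) • fun _ => (1 : ℂ) from funext fun n => by simpa using hΦon n n.2,
        Coherence.ci_smul_right, classInner_isIrr_self isIrr_one, Complex.conj_natCast, mul_one]
    -- integrality
    obtain ⟨c, hc⟩ : ∃ c : ℤ, b = c := by
      have hcl : IsClassFunction L (Φ - χ) := fun x y => by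
        simp [hΦ, OddOrderChar.isClassFunction_ind _ (fun _ : fittingHall L => (1 : ℂ)) x y,
          isClassFunction_of_isIrr hχirr x y]
      have hsupp : ∀ x : L, (x : G) ∉ supportA L → (Φ - χ) x = 0 := by
        intro x hx
        by_cases hxH : x ∈ fittingHall L
        · have hx1 : x = 1 := not_not.mp fun h => hx ((hA x).2 ⟨hxH, h⟩)
          simp [hx1, hΦ1, hχ1]
        · simp [hΦ, hχoff x hxH, indFun_normal_eq_zero _ _ hxH]
      have hgen : IsGeneralizedCharacter L (Φ - χ) :=
        Coherence.isGen_sub (Coherence.isGen_of_isCharacter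
          (OddOrderChar.isCharacter_indFun _ isCharacter_one)) (Coherence.isGen_of_isIrr hχirr)
      obtain ⟨z, hz⟩ := Coherence.ci_int (h₁.2.2.2 χ (hspan hχmem)) (isGen_dade hD hgen hsupp)
      refine ⟨z + 1, ?_⟩
      rw [← hψ, classInner_dade_avg hD hψcl hcl hsupp, ← hf, hfeq] at hz
      simp only [Coherence.ci_sub_left, Coherence.ci_sub_right, Coherence.ci_add_left,
        Coherence.ci_smul_left, hδci, hχΦ, hΦΦ, classInner_isIrr_self hχirr, hΦ1, hχ1,
        Complex.conj_natCast, classInner_conj_symm χ Φ, map_zero] at hz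
      field_simp at hz
      push_cast
      have hL0 : (Nat.card L : ℂ) ≠ 0 := natCard_ne_zero
      have h0 : ((e : ℂ) * Nat.card L) * (b - 1 - z) = 0 := by
        clear_value b
        linear_combination hz
      linear_combination (mul_eq_zero.mp h0).resolve_left (mul_ne_zero he0 hL0)
    refine ⟨c, fun x hx hx1 => ?_, ?_⟩
    · rw [← hc]
      linear_combination hconst ⟨x, hx⟩ fun h => hx1 (congrArg Subtype.val h)
    · have hff : classInner f f =
          ((1 + (c : ℝ) ^ 2 / e - ((e : ℝ) + c) ^ 2 / Nat.card L : ℝ) : ℂ) := by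
        rw [hfeq, hc]
        have hL0 : (Nat.card L : ℂ) ≠ 0 := natCard_ne_zero
        have hχδ : classInner χ δ = (Nat.card L : ℂ)⁻¹ * e := by
          rw [classInner_conj_symm, hδci, hχ1]; simp
        have hΦδ : classInner Φ δ = (Nat.card L : ℂ)⁻¹ * e := by
          rw [classInner_conj_symm, hδci, hΦ1]; simp
        have hδ1 : δ 1 = 1 := by simp [hδ]
        simp only [Coherence.ci_sub_left, Coherence.ci_sub_right, Coherence.ci_add_left,
          Coherence.ci_add_right, Coherence.ci_smul_left, Coherence.ci_smul_right, hδci δ, hδ1, map_one, hχδ,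
          hΦδ, hχΦ, hΦΦ, classInner_isIrr_self hχirr, classInner_conj_symm χ Φ, hδci χ, hδci Φ,
          hΦ1, hχ1, Complex.conj_natCast, map_zero, map_div₀, map_intCast, map_add]
        push_cast
        field_simp
        ring
      rw [Coherence.sqNorm, hff, Complex.ofReal_re]

end CfsgLib.OddOrder
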