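import Cfsg.Agent.OddOrder.PF12.TypeIChars

/-!
# Peterfalvi (12.3): orthogonality across maximal subgroups with disjoint supports
-/

set_option autoImplicit false
set_option linter.style.haveILetI false
set_option linter.unusedSectionVars false

namespace CfsgLib.OddOrder

open Cfsg CfsgLib.Characters CfsgLib.OddOrderChar
open scoped ComplexConjugate

variable {G : Type*} [Group G] [Fintype G] {L M : Subgroup G} [Fintype L] [Fintype M]

/-- A character nontrivial on a normal subgroup has a non-principal constituent there. -/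
theorem exists_constituent_ne_one (N : Subgroup M) [N.Normal] [Fintype N] {ξ : ↥M → ℂ}
    (hξ : IsIrrCharacter M ξ) (h : NontrivOn N ξ) :
    ∃ θ : N → ℂ, IsIrrCharacter N θ ∧ θ ≠ (fun _ => 1) ∧ classInner (fun n : N => ξ n) θ ≠ 0 := by
  classical
  by_contra hno
  obtain ⟨n, hn, hne⟩ := h
  have hres := classFunction_expansion (isClassFunction_of_isCharacter
    (isCharacter_restrict N (isCharacter_of_isIrr hξ)))
  have h1 := congrFun hres ⟨n, hn⟩
  have h2 := congrFun hres 1
  simp only [Finset.sum_apply, Pi.smul_apply, smul_eq_mul] at h1 h2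
  refine hne ?_
  simp only [OneMemClass.coe_one] at h2
  rw [h1, h2]
  refine Finset.sum_congr rfl fun θ _ => ?_
  by_cases hθ : (θ : N → ℂ) = fun _ => 1
  · simp [hθ]
  · have h0 : classInner (fun x : N => ξ x) (θ : N → ℂ) = 0 :=
      not_not.mp fun h' => hno ⟨θ, θ.2, hθ, h'⟩
    simp [h0]

/-- Peterfalvi (12.3). -/
theorem orthDade_of_supports (hI : IsTypeI M)
    (hDM : DadeHypothesis (supportA M) M (supportR M))
    (hdisj : tildeOf L (supportA L) ∩ tildeOf M ((fittingHallOf M : Set G) \ {1}) = ∅)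
    {χ : ↥L → ℂ} {ψ : G → ℂ} (hψ : IsIrrCharacter G ψ ∨ IsIrrCharacter G (-ψ))
    (eψ : dadeIsometry (supportA L) L (supportR L) (χ - conjFun χ) = ψ - conjFun ψ) :
    OrthDade (supportA M) M (supportR M) (NontrivOn (fittingHall M)) ψ := by
  classical
  intro ξ hξD hξn μ hμ eμ
  letI : Fintype (fittingHall M) := Fintype.ofFinite _
  by_contra hcon
  -- the two differences agree up to a non-zero scalar
  obtain ⟨c, hc, hdiff⟩ : ∃ c : ℂ, c ≠ 0 ∧ ψ - conjFun ψ = c • (μ - conjFun μ) := by
    have hμ' := Coherence.isIrr_conjFun hμ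
    rcases hψ with h | h
    · by_cases h1 : ψ = μ
      · exact ⟨1, one_ne_zero, by rw [h1, one_smul]⟩
      by_cases h2 : ψ = conjFun μ
      · refine ⟨-1, by norm_num, ?_⟩
        rw [h2, Coherence.conjFun_conjFun, neg_one_smul, neg_sub]
      exact absurd ⟨classInner_isIrr_ne h hμ h1, classInner_isIrr_ne h hμ' h2⟩ hcon
    · by_cases h1 : -ψ = μ
      · refine ⟨-1, by norm_num, ?_⟩
        rw [← h1, neg_one_smul]
        funext g
        simp [conjFun]
        ring
      by_cases h2 : -ψ = conjFun μ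
      · refine ⟨1, one_ne_zero, ?_⟩
        have h3 : μ = conjFun (-ψ) := by rw [h2, Coherence.conjFun_conjFun]
        rw [h3, one_smul, Coherence.conjFun_conjFun]
        funext g
        simp [conjFun]
        ring
      refine absurd ⟨?_, ?_⟩ hcon
      · rw [← neg_neg ψ, Coherence.ci_neg_left, classInner_isIrr_ne h hμ h1, neg_zero]
      · rw [← neg_neg ψ, Coherence.ci_neg_left, classInner_isIrr_ne h hμ' h2, neg_zero]
  obtain ⟨θ, hθ, hθ1, ha⟩ := exists_constituent_ne_one (fittingHall M) hξD.1 hξn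
  set Φ : ↥M → ℂ := indFun (fittingHall M) θ with hΦ
  set β : ↥M → ℂ := Φ - conjFun Φ with hβ
  have hconjΦ : conjFun Φ = indFun (fittingHall M) (conjFun θ) := Coherence.conjFun_ind _ θ
  have hβA : ∀ x : M, (x : G) ∉ supportA M → β x = 0 := by
    intro x hx
    by_cases hxK : x ∈ fittingHall M
    · have hx1 : x = 1 := not_not.mp fun h => hx (coe_mem_typeA_of_mem hI hxK h)
      obtain ⟨d, -, hd⟩ := exists_degree_pos hθ
      simp [hβ, hΦ, hx1, conjFun, Coherence.ind_one, hd]
    · simp [hβ, hΦ, conjFun, indFun_normal_eq_zero _ θ hxK]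
  have hξA : ∀ x : M, (x : G) ∉ supportA M → (ξ - conjFun ξ) x = 0 := by
    intro x hx
    by_cases h1 : x = 1
    · obtain ⟨d, -, hd⟩ := exists_degree_pos hξD.1
      simp [h1, conjFun, hd]
    · simp [conjFun, hξD.2.1 x h1 hx]
  have hβcl : IsClassFunction M β := fun a b => by
    simp [hβ, hΦ, conjFun, OddOrderChar.isClassFunction_ind (fittingHall M) θ a b]
  have hξcl : IsClassFunction M (ξ - conjFun ξ) := fun a b => by
    simp [conjFun, isClassFunction_of_isIrr hξD.1 a b]
  -- disjoint supports
  have hzero : classInner (dadeIsometry (supportA L) L (supportR L) (χ - conjFun χ))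
      (dadeIsometry (supportA M) M (supportR M) β) = 0 := by
    refine mul_eq_zero_of_right _ (Finset.sum_eq_zero fun g _ => ?_)
    by_cases h1 : ∃ a : ↥L, (a : G) ∈ supportA L ∧
        ∃ x : G, ∃ u ∈ supportR L (a : G), x * g * x⁻¹ = (a : G) * u
    · by_cases h2 : ∃ a : ↥M, (a : G) ∈ supportA M ∧
          ∃ x : G, ∃ u ∈ supportR M (a : G), x * g * x⁻¹ = (a : G) * u
      · obtain ⟨a, ha, x, u, hu, he⟩ := h2
        by_cases haK : a ∈ fittingHall M
        · exfalso
          obtain ⟨b, hb, y, v, hv, he'⟩ := h1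
          refine Set.eq_empty_iff_forall_notMem.mp hdisj g
            ⟨⟨b, hb, v, hv, y⁻¹, by rw [← he']; group⟩,
              ⟨a, ⟨Subgroup.mem_map_of_mem _ haK, ?_⟩, u, hu, x⁻¹, by rw [← he]; group⟩⟩
          intro h
          exact hDM.one_not_mem (by simpa [Set.mem_singleton_iff.mp h] using ha)
        · have hg : g = x⁻¹ * ((a : G) * u) * x⁻¹⁻¹ := by rw [← he]; group
          conv_lhs => rw [hg]
          rw [dade_apply_conj hDM hβcl a ha hu x⁻¹]
          simp [hβ, hΦ, conjFun, indFun_normal_eq_zero _ θ haK]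
      · simp [dade_apply_eq_zero _ h2]
    · simp [dade_apply_eq_zero _ h1]
  rw [eψ, hdiff, ← eμ, classInner_smul_left, classInner_dade hDM hξcl hξA hβcl hβA,
    mul_eq_zero, or_iff_right hc] at hzero
  -- but the inner product is positive
  have hres : ∀ φ : ↥(fittingHall M) → ℂ, classInner ξ (indFun (fittingHall M) φ) =
      classInner (fun n : fittingHall M => ξ n) φ := fun φ =>
    OddOrderChar.classInner_indFun_right _ φ (isClassFunction_of_isIrr hξD.1)
  have hoff : classInner ξ (conjFun Φ) = 0 := by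
    rw [hconjΦ, hres]
    have hc := clifford_restrict (fittingHall M) hξD.1 hθ ha
    rw [hc, classInner_smul_left, classInner_sum_left, Finset.sum_eq_zero, mul_zero]
    intro φ hφ
    obtain ⟨g, rfl⟩ := (mem_conjOrbit _).mp hφ
    exact classInner_isIrr_ne (isIrr_conjBy _ hθ g) (Coherence.isIrr_conjFun hθ)
      (not_conjFun_mem_orbit _ hI.1.2.1 hθ hθ1 g)
  obtain ⟨n, hn⟩ : ∃ n : ℕ, classInner (fun x : fittingHall M => ξ x) θ = n :=
    classInner_character_irr (isCharacter_restrict _ (isCharacter_of_isIrr hξD.1)) hθ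
  rw [hn] at ha
  rw [hβ, Coherence.ci_sub_left, Coherence.ci_sub_right, Coherence.ci_sub_right,
    Coherence.ci_conjFun] at hzero
  have hoff' : classInner (conjFun ξ) Φ = 0 := by
    have h := Coherence.ci_conjFun ξ (conjFun Φ)
    rw [Coherence.conjFun_conjFun] at h
    rw [h, classInner_conj_symm, hoff, map_zero]
  have hon : classInner Φ ξ = n := by
    rw [classInner_conj_symm, hres, hn, Complex.conj_natCast]
  rw [hoff, hoff', hres, hn, hon] at hzero
  exact ha (by linear_combination hzero / 2)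

end CfsgLib.OddOrder
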