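import Cfsg.Agent.OddOrderChar.CyclicTIRational
import Cfsg.Agent.Characters.Integrality
import Mathlib.RingTheory.RootsOfUnity.PrimitiveRoots

/-!
# Values of signed irreducible characters: congruences and rationality (towards Peterfalvi (12.7))

* `χ (x k) ≡ χ k` modulo `1 - ε` for `x` of order dividing `p` commuting with `k` of order prime to `p`;
* a value fixed by the Galois automorphisms fixing the `N`-th roots of unity, at an element of order
  prime to `N`, is a rational integer.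
-/

set_option autoImplicit false
set_option linter.style.haveILetI false
set_option linter.unusedSectionVars false

namespace CfsgLib.OddOrder

open Cfsg CfsgLib.Characters CfsgLib.OddOrderChar

/-- `z` is an algebraic integer multiple of `ε - 1`. -/
def EpsDiv (ε z : ℂ) : Prop := ∃ w : ℂ, IsIntegral ℤ w ∧ z = (ε - 1) * w

theorem EpsDiv.zero (ε : ℂ) : EpsDiv ε 0 := ⟨0, isIntegral_zero, by ring⟩

theorem EpsDiv.add {ε a b : ℂ} (ha : EpsDiv ε a) (hb : EpsDiv ε b) : EpsDiv ε (a + b) := by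
  obtain ⟨v, hv, rfl⟩ := ha
  obtain ⟨w, hw, rfl⟩ := hb
  exact ⟨v + w, hv.add hw, by ring⟩

theorem EpsDiv.mul_left {ε a c : ℂ} (hc : IsIntegral ℤ c) (ha : EpsDiv ε a) : EpsDiv ε (c * a) := by
  obtain ⟨v, hv, rfl⟩ := ha
  exact ⟨c * v, hc.mul hv, by ring⟩

theorem EpsDiv.neg {ε a : ℂ} (ha : EpsDiv ε a) : EpsDiv ε (-a) := by
  simpa using ha.mul_left (isIntegral_one (R := ℤ) (B := ℂ)).neg

theorem EpsDiv.sum {ε : ℂ} {ι : Type*} (s : Finset ι) (f : ι → ℂ) (h : ∀ i ∈ s, EpsDiv ε (f i)) :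
    EpsDiv ε (∑ i ∈ s, f i) :=
  Finset.sum_induction f (EpsDiv ε) (fun _ _ => EpsDiv.add) (EpsDiv.zero ε) h

theorem isIntegral_of_pow_eq_one {z : ℂ} {n : ℕ} (hn : 0 < n) (h : z ^ n = 1) : IsIntegral ℤ z :=
  IsIntegral.of_pow hn (h ▸ isIntegral_one)

theorem epsDiv_pow_sub_one {ε : ℂ} {p : ℕ} (hp : 0 < p) (hε : ε ^ p = 1) (i : ℕ) :
    EpsDiv ε (ε ^ i - 1) :=
  ⟨∑ k ∈ Finset.range i, ε ^ k,
    IsIntegral.sum _ fun k _ => (isIntegral_of_pow_eq_one hp hε).pow k, (mul_geom_sum ε i).symm⟩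

/-- A rational integer divisible by `ε - 1` is divisible by `p`. -/
theorem prime_dvd_of_epsDiv {p : ℕ} [hp : Fact p.Prime] {ε : ℂ} (hε : IsPrimitiveRoot ε p) {d : ℤ}
    (h : EpsDiv ε d) : (p : ℤ) ∣ d := by
  by_contra hd
  have hεi := isIntegral_of_pow_eq_one hp.out.pos hε.pow_eq_one
  obtain ⟨w, hw, hdw⟩ := h
  obtain ⟨n, hn⟩ : ∃ n, p = n + 1 := ⟨p - 1, by have := hp.out.pos; omega⟩
  have hprod : ∏ k ∈ Finset.range n, (1 - ε ^ (k + 1)) = (p : ℂ) := by
    have h1 : IsPrimitiveRoot ε (n + 1) := hn ▸ hε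
    rw [h1.prod_one_sub_pow_eq_order, hn]
    push_cast
    ring
  -- `ε - 1` would be a unit
  obtain ⟨r, hr, hr1⟩ : ∃ r, IsIntegral ℤ r ∧ (ε - 1) * r = 1 := by
    obtain ⟨u, v, huv⟩ : IsCoprime (p : ℤ) d :=
      (Prime.coprime_iff_not_dvd (Nat.prime_iff_prime_int.mp hp.out)).mpr hd
    have hpdiv : EpsDiv ε (p : ℂ) := by
      rw [← hprod]
      rcases Nat.eq_zero_or_pos n with hn0 | hn0
      · exact absurd (hn.trans (by rw [hn0])) hp.out.ne_one
      · rw [← Finset.mul_prod_erase _ _ (Finset.mem_range.mpr hn0), mul_comm]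
        refine EpsDiv.mul_left (IsIntegral.prod _ fun k _ => isIntegral_one.sub (hεi.pow _)) ?_
        exact ⟨-1, isIntegral_one.neg, by ring⟩
    obtain ⟨s, hs, hps⟩ := hpdiv
    refine ⟨(u : ℂ) * s + (v : ℂ) * w, ?_, ?_⟩
    · exact ((isIntegral_algebraMap (x := u)).mul hs).add ((isIntegral_algebraMap (x := v)).mul hw)
    · have h2 : (u : ℂ) * (p : ℂ) + (v : ℂ) * (d : ℂ) = 1 := by exact_mod_cast huv
      rw [hps, hdw] at h2
      linear_combination h2
  have hall : ∀ k ∈ Finset.range n, ∃ t, IsIntegral ℤ t ∧ (1 - ε ^ (k + 1)) * t = 1 := by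
    intro k hk
    have hk' := Finset.mem_range.mp hk
    have hcop : Nat.Coprime (k + 1) p :=
      (Nat.Prime.coprime_iff_not_dvd hp.out).mpr (fun h => absurd (Nat.le_of_dvd k.succ_pos h)
        (by omega)) |>.symm
    obtain ⟨i, -, hi⟩ := (hε.pow_of_coprime _ hcop).eq_pow_of_pow_eq_one hε.pow_eq_one
    refine ⟨-((∑ j ∈ Finset.range i, (ε ^ (k + 1)) ^ j) * r),
      ((IsIntegral.sum _ fun j _ => (hεi.pow _).pow j).mul hr).neg, ?_⟩
    have hg := mul_geom_sum (ε ^ (k + 1)) i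
    rw [hi] at hg
    linear_combination r * hg + hr1
  choose! t ht ht1 using hall
  have hfin : (p : ℂ) * ∏ k ∈ Finset.range n, t k = 1 := by
    rw [← hprod, ← Finset.prod_mul_distrib]
    exact Finset.prod_eq_one ht1
  have hint : IsIntegral ℤ (((1 : ℕ) : ℂ) / p) := by
    have he : ((1 : ℕ) : ℂ) / p = ∏ k ∈ Finset.range n, t k := by
      rw [Nat.cast_one, div_eq_iff (Nat.cast_ne_zero.mpr hp.out.ne_zero), mul_comm]
      exact hfin.symm
    rw [he]
    exact IsIntegral.prod _ ht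
  exact hp.out.ne_one (Nat.dvd_one.mp (dvd_of_isIntegral_div hp.out.ne_zero hint))

variable {G : Type*} [Group G] [Fintype G]

/-- `θ (x k) ≡ θ k` modulo `1 - ε`. -/
theorem epsDiv_value_sub {p : ℕ} [hp : Fact p.Prime] {ε : ℂ} (hε : IsPrimitiveRoot ε p)
    {θ : G → ℂ} (hθ : IsIrrCharacter G θ ∨ IsIrrCharacter G (-θ)) {x k : G} (hx : x ^ p = 1)
    (hc : Commute x k) (hk : (orderOf k).Coprime p) : EpsDiv ε (θ (x * k) - θ k) := by
  wlog hirr : IsIrrCharacter G θ generalizing θ with h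
  · have h' := (h (θ := -θ) (Or.inl (hθ.resolve_left hirr)) (hθ.resolve_left hirr)).neg
    simpa [sub_eq_neg_add, add_comm] using h'
  obtain ⟨d, ρ, -, rfl⟩ := hirr
  obtain ⟨μ, hμ, hj, -⟩ := exists_eigenvalues ρ (x * k)
  set m := orderOf k with hm
  have hg : orderOf (x * k) ∣ p * m := by
    refine orderOf_dvd_of_pow_eq_one ?_
    rw [hc.mul_pow, pow_mul, hx, one_pow, one_mul, mul_comm, pow_mul, hm, pow_orderOf_eq_one, one_pow]
  obtain ⟨a, ha1, ha2⟩ := Nat.chineseRemainder hk.symm 1 0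
  obtain ⟨b, hb1, hb2⟩ := Nat.chineseRemainder hk.symm 0 1
  have hab : a + b ≡ 1 [MOD orderOf (x * k)] := by
    refine Nat.ModEq.of_dvd hg ((Nat.modEq_and_modEq_iff_modEq_mul hk.symm).mp ⟨?_, ?_⟩)
    · simpa using ha1.add hb1
    · simpa using ha2.add hb2
  have hkb : k = (x * k) ^ b := by
    rw [hc.mul_pow, pow_eq_pow_of_modEq hb1 hx, pow_zero, one_mul,
      pow_eq_pow_of_modEq hb2 (hm ▸ pow_orderOf_eq_one k), pow_one]
  have h1 : ρ.character (x * k) = ∑ i, μ i := by simpa using hj 1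
  have h2 : ρ.character k = ∑ i, μ i ^ b := by rw [hkb]; exact hj b
  rw [h1, h2, ← Finset.sum_sub_distrib]
  refine EpsDiv.sum _ _ fun i _ => ?_
  have hroot : (μ i ^ a) ^ p = 1 := by
    obtain ⟨a', rfl⟩ := (Nat.modEq_zero_iff_dvd.mp ha2)
    obtain ⟨c, hc'⟩ := hg
    rw [← pow_mul, show m * a' * p = p * m * a' by ring, hc', mul_assoc, pow_mul, hμ, one_pow]
  obtain ⟨e, -, he⟩ := hε.eq_pow_of_pow_eq_one hroot
  have hsplit : μ i - μ i ^ b = μ i ^ b * (ε ^ e - 1) := by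
    rw [he, mul_sub, mul_one, ← pow_add, add_comm b a, pow_eq_pow_of_modEq hab (hμ i), pow_one]
  rw [hsplit]
  exact (epsDiv_pow_sub_one hp.out.pos hε.pow_eq_one e).mul_left
    ((isIntegral_of_pow_eq_one (orderOf_pos (x * k)) (hμ i)).pow b)

/-- Values fixed by the automorphisms fixing the `N`-th roots of unity, at elements of order prime
to `N`, are integers. -/
theorem int_value_of_fixed {θ : G → ℂ} (hθ : IsIrrCharacter G θ ∨ IsIrrCharacter G (-θ))
    (N : ℕ) [NeZero N] {g : G} (hg : (orderOf g).Coprime N)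
    (hfix : ∀ σ : ℂ ≃+* ℂ, (∀ z : ℂ, z ^ N = 1 → σ z = z) → σ (θ g) = θ g) :
    ∃ n : ℤ, θ g = n := by
  classical
  haveI : NeZero (orderOf g) := ⟨(orderOf_pos g).ne'⟩
  haveI : NeZero (N * orderOf g) := ⟨Nat.mul_ne_zero (NeZero.ne N) (orderOf_pos g).ne'⟩
  obtain ⟨ε, φ, hφ, heq⟩ : ∃ (ε : ℤ) (φ : G → ℂ), IsIrrCharacter G φ ∧
      θ = fun x => (ε : ℂ) * φ x := by
    rcases hθ with h | h
    · exact ⟨1, _, h, by simp⟩
    · exact ⟨-1, _, h, by simp⟩
  obtain ⟨d, ρ, hρ, rfl⟩ := hφ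
  obtain ⟨μ, hμ, hj, -⟩ := exists_eigenvalues ρ g
  have hval : ρ.character g = ∑ i, μ i := by simpa using hj 1
  have hfix' : ∀ a : (ZMod (orderOf g))ˣ,
      (ε : ℂ) * ∑ i, μ i ^ (a : ZMod (orderOf g)).val = θ g := by
    intro a
    obtain ⟨k, hk1, hk2⟩ := Nat.chineseRemainder hg.symm 1 (a : ZMod (orderOf g)).val
    have hkcop : Nat.Coprime k (N * orderOf g) := by
      refine Nat.Coprime.mul_right ?_ ?_
      · rw [Nat.Coprime, hk1.gcd_eq, Nat.gcd_one_left]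
      · rw [Nat.Coprime, hk2.gcd_eq]; exact ZMod.val_coe_unit_coprime a
    obtain ⟨σ, hσ⟩ := GaloisConj.exists_ringEquiv_pow _ k hkcop
    conv_rhs => rw [← hfix σ fun z hz => by
      rw [hσ z (by rw [pow_mul, hz, one_pow]), pow_eq_pow_of_modEq hk1 hz, pow_one]]
    rw [heq, map_mul, map_intCast, hval, map_sum]
    congr 1
    refine Finset.sum_congr rfl fun i _ => ?_
    rw [hσ _ (by rw [mul_comm, pow_mul, hμ i, one_pow])]
    exact (pow_eq_pow_of_modEq hk2 (hμ i)).symm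
  choose z hz using fun i => exists_int_units_sum (orderOf g) (hμ i)
  have hint : IsIntegral ℤ (θ g) := by
    rw [heq]
    exact (isIntegral_algebraMap (x := ε)).mul (char_isIntegral ρ g)
  refine PRational.exists_int_of_isIntegral_of_mul hint
    (b := Fintype.card (ZMod (orderOf g))ˣ) Fintype.card_ne_zero (a := ε * ∑ i, z i) ?_
  rw [← Finset.card_univ, ← nsmul_eq_mul, ← Finset.sum_const,
    ← Finset.sum_congr rfl fun a _ => hfix' a, ← Finset.mul_sum, Finset.sum_comm,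
    Finset.sum_congr rfl fun i _ => hz i]
  push_cast
  rfl

end CfsgLib.OddOrder
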