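import Cfsg.Agent.OddOrder.PF12.Facts
import Cfsg.Agent.OddOrder.PF12.FrobeniusSide
import Cfsg.Agent.OddOrder.PF12.CrossOrth
import Cfsg.Agent.OddOrder.PF12.ValueFacts
import Cfsg.Agent.Coherence.GroupFacts

/-!
# Peterfalvi (12.8)-(12.16): the configuration is impossible
-/

set_option autoImplicit false
set_option linter.style.haveILetI false
set_option linter.unusedSectionVars false

namespace CfsgLib.OddOrder

open Cfsg CfsgLib.Characters CfsgLib.OddOrderChar
open Subgroup (centralizer normalizer)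
open scoped Pointwise

variable {G : Type*} [Group G] [Fintype G]

/-- The centraliser of an element of `A(M) \ M_F` lies in `M`. -/
theorem PF12Facts.centralizer_le_of_not_ker (F : PF12Facts G) {M : Subgroup G} (hM : IsCoatom M)
    (hI : IsTypeI M) {a : M} (ha : (a : G) ∈ supportA M) (haK : a ∉ fittingHall M) :
    centralizer ({(a : G)} : Set G) ≤ M := by
  by_contra hC
  obtain ⟨-, h2, -⟩ := F.theoremII M (supportA M) hM (Or.inl rfl)
  have h := (h2 a ha hC).1.1
  rw [SetLike.mem_coe, F.toBG16Facts.core_eq hM (Or.inl hI), fittingHallOf] at h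
  exact haK ((Subgroup.mem_map_iff_mem M.subtype_injective).mp h)

/-- `(12.4)` with the hypotheses on `R` discharged. -/
theorem PF12Facts.coset_const (F : PF12Facts G) {M : Subgroup G} [Fintype M] (hM : IsCoatom M)
    (hI : IsTypeI M) {ψ : G → ℂ} (hψ : IsClassFunction G ψ)
    (horth : OrthDade (supportA M) M (supportR M) (NontrivOn (fittingHall M)) ψ)
    {x k : M} (hx : x ∉ fittingHall M) (hk : k ∈ fittingHall M) : ψ ((x : G) * k) = ψ x := by
  letI : Fintype (fittingHall M) := Fintype.ofFinite _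
  exact typeI_coset_const hI (F.toBG16Facts.dade hM (Or.inr (Or.inl rfl))) hψ horth
    (fun a ha haK => supportR_eq_bot (F.centralizer_le_of_not_ker hM hI ha haK)) hx hk

/-- A subgroup supporting `M` has Type I unless `M` is a Frobenius group. -/
theorem not_frobenius_kernel {M : Subgroup G} {x k : M} (hx : x ∉ fittingHall M)
    (hk : k ∈ fittingHall M) (hk1 : k ≠ 1) (hc : x * k = k * x) :
    ¬ ∃ E : Subgroup ↥M, IsFrobeniusComplement E ∧
      frobeniusKernel E = ((fittingHall ↥M : Subgroup ↥M) : Set ↥M) := by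
  rintro ⟨E, ⟨-, -, hE⟩, hker⟩
  obtain ⟨g, hg⟩ : ∃ g : M, g⁻¹ * x * g ∈ E := by
    have hxk : x ∉ frobeniusKernel E := by rw [hker]; exact hx
    simp only [frobeniusKernel, Set.mem_ofPred_eq, not_or, not_forall, not_not] at hxk
    obtain ⟨-, g, hg⟩ := hxk
    rw [Subgroup.mem_pointwise_smul_iff_inv_smul_mem] at hg
    exact ⟨g, by simpa [MulAut.smul_def, mul_assoc] using hg⟩
  set k' := g⁻¹ * k * g with hk'
  have hk'E : k' ∈ E := by
    by_contra hk'E
    have hmem : g⁻¹ * x * g ∈ E ⊓ (MulAut.conj k' • E) := by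
      refine Subgroup.mem_inf.2 ⟨hg, ?_⟩
      rw [Subgroup.mem_pointwise_smul_iff_inv_smul_mem]
      have h : k'⁻¹ * (g⁻¹ * x * g) * k' = g⁻¹ * x * g := by
        calc k'⁻¹ * (g⁻¹ * x * g) * k' = g⁻¹ * (k⁻¹ * (x * k)) * g := by rw [hk']; group
          _ = g⁻¹ * x * g := by rw [hc]; group
      rw [MulAut.smul_def, ← map_inv, MulAut.conj_apply, inv_inv, h]
      exact hg
    rw [hE k' hk'E, Subgroup.mem_bot] at hmem
    refine hx ?_
    have : x = 1 := by simpa using (conj_eq_one_iff (a := g⁻¹) (b := x)).mp (by simpa using hmem)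
    rw [this]
    exact one_mem _
  have hkk : k ∈ frobeniusKernel E := by rw [hker]; exact hk
  rcases hkk with h | h
  · exact hk1 h
  · refine h g ?_
    rw [Subgroup.mem_pointwise_smul_iff_inv_smul_mem]
    simpa [MulAut.smul_def, hk', mul_assoc] using hk'E

/-- An element moved by the group forces `|K : K'| ≥ 5` in odd order. -/
theorem five_le_commutator_index {M : Type*} [Group M] [Finite M] (hodd : Odd (Nat.card M))
    {x₀ : fittingHall M} (hx₀ : x₀ ∉ commutator (fittingHall M)) {m k : M} (hk : k ∈ fittingHall M)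
    (hmk : m * k ≠ k * m) : 5 ≤ (commutator (fittingHall M)).index := by
  classical
  haveI := Fintype.ofFinite M
  have hne1 : (commutator (fittingHall M)).index ≠ 1 := fun h' =>
    hx₀ (Subgroup.index_eq_one.1 h' ▸ Subgroup.mem_top _)
  have hoddK : Odd (commutator (fittingHall M)).index :=
    (hodd.of_dvd_nat (fittingHall M).card_subgroup_dvd_card).of_dvd_nat (commutator (fittingHall M)).index_dvd_card
  by_contra hlt
  have h3 : (commutator (fittingHall M)).index = 3 := by
    obtain ⟨i, hi⟩ := hoddK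
    omega
  have hnil : Group.IsNilpotent (fittingHall M) := by
    have hle : (fittingHall M) ≤ fittingSubgroup M := sSup_le fun N hN => le_sSup ⟨hN.1, hN.2.1⟩
    have := Solvable.fittingSubgroup_isNilpotent (G := M)
    exact Group.nilpotent_of_mulEquiv (Subgroup.subgroupOfEquivOfLe hle)
  haveI := Fact.mk Nat.prime_three
  have hsup : Subgroup.zpowers x₀ ⊔ commutator (fittingHall M) = ⊤ := by
    rw [← Subgroup.index_eq_one]
    have hdvd : (Subgroup.zpowers x₀ ⊔ commutator (fittingHall M)).index ∣ 3 :=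
      h3 ▸ Subgroup.index_dvd_of_le le_sup_right
    refine ((Nat.dvd_prime Nat.prime_three).1 hdvd).resolve_right fun h' => ?_
    refine hx₀ ?_
    have heq : commutator (fittingHall M) = Subgroup.zpowers x₀ ⊔ commutator (fittingHall M) :=
      Subgroup.eq_of_le_of_card_ge le_sup_right (le_of_eq (by
        have e1 := (commutator (fittingHall M)).card_mul_index
        have e2 := (Subgroup.zpowers x₀ ⊔ commutator (fittingHall M)).card_mul_index
        rw [h3] at e1
        rw [h'] at e2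
        omega))
    rw [heq]
    exact Subgroup.mem_sup_left (Subgroup.mem_zpowers _)
  have hcomm := Coherence.isMulCommutative_of_sup_zpowers hsup
  have hK3 : Nat.card (fittingHall M) = 3 := by
    have hbot : commutator (fittingHall M) = ⊥ := by
      rw [commutator_def, Subgroup.commutator_eq_bot_iff_le_centralizer]
      exact fun a _ => Subgroup.mem_centralizer_iff.2 fun b _ => hcomm b a
    rw [hbot, Subgroup.index_bot] at h3
    exact h3
  -- an odd group cannot move an element of a group of order three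
  refine hmk ?_
  set a : (fittingHall M) := ⟨k, hk⟩
  by_cases ha : a = 1
  · have : k = 1 := congrArg Subtype.val ha
    simp [this]
  have hb : m * k * m⁻¹ ∈ (fittingHall M) := (inferInstance : (fittingHall M).Normal).conj_mem k hk m
  have horder : orderOf a = 3 := orderOf_eq_prime (by rw [← hK3]; exact pow_card_eq_one') ha
  have hz : (⟨_, hb⟩ : (fittingHall M)) ∈ Subgroup.zpowers a := by
    rw [Subgroup.eq_top_of_card_eq (Subgroup.zpowers a) (by rw [Nat.card_zpowers, horder, hK3])]
    exact Subgroup.mem_top _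
  obtain ⟨i, hi, he⟩ := (isOfFinOrder_of_finite a).mem_zpowers_iff_mem_range_orderOf.1 hz |>
    Finset.mem_image.1
  rw [Finset.mem_range, horder] at hi
  have he' : m * k * m⁻¹ = k ^ i := (congrArg Subtype.val he).symm
  interval_cases i
  · rw [pow_zero, conj_eq_one_iff] at he'
    exact absurd (Subtype.ext he') ha
  · rw [pow_one] at he'
    exact mul_inv_eq_iff_eq_mul.1 he'
  · have hk3 : k ^ 3 = 1 := by
      have := congrArg Subtype.val (horder ▸ pow_orderOf_eq_one a)
      simpa using this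
    have hreal : IsConj k k⁻¹ := isConj_iff.2 ⟨m, by
      rw [he', eq_inv_iff_mul_eq_one, ← pow_succ, hk3]⟩
    exact absurd (Subtype.ext (Characters.eq_one_of_isConj_inv_of_odd hodd hreal)) ha

/-- Peterfalvi (12.8)-(12.16). -/
theorem Witness.false (hG : IsMinSimpleOddOrder G) (F : PF12Facts G) {M L : Subgroup G} {p : ℕ}
    {x : G} (w : Witness M L p x) : False := by
  classical
  haveI := Fact.mk w.prime
  letI : Fintype M := Fintype.ofFinite _
  letI : Fintype L := Fintype.ofFinite _
  letI : Fintype (fittingHall M) := Fintype.ofFinite _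
  letI : Fintype (fittingHall L) := Fintype.ofFinite _
  have hDL := F.toBG16Facts.dade w.coatomL (A := supportA L) (Or.inr (Or.inl rfl))
  have hDM := F.toBG16Facts.dade w.coatomM (A := supportA M) (Or.inr (Or.inl rfl))
  have hDM1 := F.toBG16Facts.dade w.coatomM (A := typeA1 M) (Or.inl rfl)
  have hA1 : ∀ {N : Subgroup G}, IsCoatom N → IsTypeI N →
      typeA1 N = (fittingHallOf N : Set G) \ {1} := fun hN hI => by
    rw [typeA1, F.toBG16Facts.core_eq hN (Or.inl hI)]
  have hmemK : ∀ (N : Subgroup G) (a : N), (a : G) ∈ fittingHallOf N ↔ a ∈ fittingHall N := fun N a =>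
    Subgroup.mem_map_iff_mem N.subtype_injective (x := a)
  have hAL : supportA L = typeA1 L := by
    rw [typeA_typeI_frobenius w.typeIL w.frobL, hA1 w.coatomL w.typeIL]
  set xM : M := ⟨x, w.mem_M⟩ with hxM
  set xL : L := ⟨x, fittingHallOf_le L w.mem_kerL⟩ with hxL
  have hxLH : xL ∈ fittingHall L := (hmemK L xL).1 w.mem_kerL
  have hxMK : xM ∉ fittingHall M := fun h => w.not_mem_kerM ((hmemK M xM).2 h)
  obtain ⟨k₀G, hk₀G, hxk₀, hk₀'⟩ := w.exists_fixed
  have hk₀G1 : k₀G ≠ 1 := fun h => hk₀' (by rw [h]; exact one_mem _)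
  set k₀ : M := ⟨k₀G, fittingHallOf_le M hk₀G⟩ with hk₀def
  have hk₀ : k₀ ∈ fittingHall M := (hmemK M k₀).1 hk₀G
  -- the characters
  obtain ⟨θ, ψ, hθ, hθne, hθ1, hψs, eψ, hgal, c, hc, hnorm⟩ :=
    exists_frobenius_side hG w.coatomL w.typeIL w.frobL hDL
  set χ := indFun (fittingHall L) θ with hχ
  set e := (fittingHall L).index with he
  set h := Nat.card (fittingHall L) with hh
  have hψcl : IsClassFunction G ψ := by
    rcases hψs with h' | h'
    · exact isClassFunction_of_isIrr h'
    · intro a b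
      simpa using isClassFunction_of_isIrr h' a b
  have hψ1 : Coherence.sqNorm ψ = 1 := by
    rcases hψs with h' | h'
    · rw [Coherence.sqNorm, classInner_isIrr_self h', Complex.one_re]
    · rw [Coherence.sqNorm, ← neg_neg ψ, Coherence.ci_neg_left, Coherence.ci_neg_right, neg_neg,
        classInner_isIrr_self h', Complex.one_re]
  -- orthogonality in a Type I subgroup not conjugate to `L`
  have horth : ∀ {N : Subgroup G} [Fintype N], IsCoatom N → IsTypeI N →
      (∀ g : G, L.map (MulAut.conj g).toMonoidHom ≠ N) →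
      OrthDade (supportA N) N (supportR N) (NontrivOn (fittingHall N)) ψ := by
    intro N _ hN hI hnc
    refine orthDade_of_supports hI (F.toBG16Facts.dade hN (Or.inr (Or.inl rfl))) ?_ hψs eψ
    obtain ⟨-, -, -, hd⟩ := F.toBG16Facts.supports_main hN w.coatomL hnc
    rw [← hA1 hN hI]
    rcases hd with hd | hd
    · rw [Set.inter_comm]; exact hd
    · refine Set.eq_empty_of_forall_notMem fun g ⟨h1, a, ha, r, hr, y, hy⟩ =>
        Set.eq_empty_iff_forall_notMem.mp hd g
          ⟨hAL ▸ h1, a, F.toBG16Facts.typeA1_subset_typeA hN ha, r, hr, y, hy⟩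
  have horthM := horth w.coatomM w.typeIM w.not_conj
  -- `Ã₁(M)` and `Ã(L)` are disjoint
  have hdisj : tildeOf M (typeA1 M) ∩ tildeOf L (supportA L) = ∅ := by
    obtain ⟨-, -, -, hd⟩ := F.toBG16Facts.supports_main w.coatomM w.coatomL w.not_conj
    refine hd.resolve_right fun hd => ?_
    refine Set.eq_empty_iff_forall_notMem.mp hd x ⟨BG16Facts.mem_tildeOf_self ?_, BG16Facts.mem_tildeOf_self ?_⟩
    · rw [hA1 w.coatomL w.typeIL]
      exact ⟨w.mem_kerL, w.ne_one⟩
    · exact (mem_typeA_typeI w.typeIM).2 ⟨w.mem_M, w.ne_one, k₀G, hk₀G, hk₀G1, hxk₀⟩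
  -- sizes
  have hepos : 0 < e := Nat.pos_of_ne_zero Subgroup.index_ne_zero_of_finite
  have hodd : Odd (Nat.card G) := hG.1
  have hp2 : p ≠ 2 := by
    have hox : orderOf x = p := orderOf_eq_prime w.pow_eq_one w.ne_one
    exact prime_ne_two_of_dvd_odd hodd (hox ▸ orderOf_dvd_natCard x)
  have he3 : 3 ≤ e := by
    have h1 : e ≠ 1 := fun h' => w.typeIL.1.2.2.2.1 (Subgroup.index_eq_one.1 h')
    obtain ⟨i, hi⟩ := w.typeIL.1.2.1.of_dvd_nat (fittingHall L).index_dvd_card
    omega
  have hpe : 2 * e ≤ p + 1 := w.index_L_le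
  have hh_big : (e + 1) ^ 2 < h := by
    have h1 : e + 1 < p := by omega
    calc (e + 1) ^ 2 < p ^ 2 := Nat.pow_lt_pow_left h1 (by norm_num)
      _ ≤ h := w.sq_le
  have hLcard : (Nat.card L : ℝ) = (h : ℝ) * e := by
    exact_mod_cast ((fittingHall L).card_mul_index).symm
  -- mass bounds
  set S₁ := Finset.univ.filter (fun g : G => ∃ a ∈ typeA1 M, ∃ u ∈ supportR M a, ∃ y : G,
    y * g * y⁻¹ = a * u) with hS₁
  set S₂ := Finset.univ.filter (fun g : G => ∃ a ∈ supportA L, ∃ u ∈ supportR L a, ∃ y : G,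
    y * g * y⁻¹ = a * u) with hS₂
  have hS : Disjoint S₁ S₂ := by
    refine Finset.disjoint_left.2 fun g h1 h2 => ?_
    obtain ⟨a, ha, r, hr, y, hy⟩ := (Finset.mem_filter.1 h1).2
    obtain ⟨b, hb, s, hs, z, hz⟩ := (Finset.mem_filter.1 h2).2
    exact Set.eq_empty_iff_forall_notMem.mp hdisj g
      ⟨⟨a, ha, r, hr, y⁻¹, by rw [← hy]; group⟩, ⟨b, hb, s, hs, z⁻¹, by rw [← hz]; group⟩⟩
  have hmassM := sqNorm_avg_le hDM1 hψcl
  have hmassL := sqNorm_avg_le hDL hψcl
  have htot := sum_mass_le (ψ := ψ) S₁ S₂ hS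
  rw [hψ1] at htot
  rw [hnorm] at hmassL
  set a₁ := Coherence.sqNorm (dadeAvg (typeA1 M) M (supportR M) ψ) with ha₁
  have hsum : a₁ + (1 + (c : ℝ) ^ 2 / e - ((e : ℝ) + c) ^ 2 / Nat.card L) ≤ 1 :=
    le_trans (add_le_add hmassM hmassL) htot
  -- `c = 0`
  have hc0 : c = 0 := by
    by_contra hc0
    have hc1 : (1 : ℝ) ≤ |(c : ℝ)| := by
      rw [← Int.cast_abs]
      exact_mod_cast Int.one_le_abs hc0
    have ha0 : 0 ≤ a₁ := Coherence.sqNorm_nonneg _
    have he' : (0 : ℝ) < e := by exact_mod_cast hepos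
    have hh' : ((e : ℝ) + 1) ^ 2 < h := by exact_mod_cast hh_big
    have hhpos : (0 : ℝ) < h := by nlinarith
    rw [hLcard] at hsum
    have h1 : (c : ℝ) ^ 2 / e - ((e : ℝ) + c) ^ 2 / ((h : ℝ) * e) ≤ 0 := by linarith
    have h2 : (c : ℝ) ^ 2 * h ≤ ((e : ℝ) + c) ^ 2 := by
      rw [div_sub_div _ _ he'.ne' (mul_pos hhpos he').ne', div_nonpos_iff] at h1
      rcases h1 with h1 | h1
      · nlinarith [mul_pos he' (mul_pos hhpos he')]
      · nlinarith
    have h3 : ((e : ℝ) + c) ^ 2 ≤ (|(c : ℝ)| * ((e : ℝ) + 1)) ^ 2 := by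
      refine sq_le_sq' ?_ ?_ <;> nlinarith [le_abs_self (c : ℝ), neg_abs_le (c : ℝ)]
    rw [mul_pow, sq_abs] at h3
    nlinarith [mul_lt_mul_of_pos_left hh' (show (0 : ℝ) < (c : ℝ) ^ 2 by positivity)]
  rw [hc0, Int.cast_zero] at hsum hc
  -- values at `x` and on its coset
  have hconst : ∀ k : M, k ∈ fittingHall M → ψ (x * k) = ψ x := fun k hk =>
    F.coset_const w.coatomM w.typeIM hψcl horthM hxMK hk
  have hψx : ψ x = χ xL := by
    have hxA : (xL : G) ∈ supportA L := by
      rw [hAL, hA1 w.coatomL w.typeIL]; exact ⟨w.mem_kerL, w.ne_one⟩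
    have h1 := hc xL hxLH (fun h' => w.ne_one (congrArg Subtype.val h'))
    rw [dadeAvg_of_mem ψ hxA, add_zero] at h1
    rw [← h1]
    have hR : ∀ u ∈ supportR L x, u ∈ fittingHallOf M := by
      intro u hu
      by_cases hC : centralizer ({x} : Set G) ≤ L
      · rw [supportR_eq_bot hC, Subgroup.mem_bot] at hu
        rw [hu]; exact one_mem _
      · rw [supportR_eq hC ⟨M, ⟨w.coatomM, w.centralizer_le⟩,
          fun N hN => w.centralizer_unique N hN.1 hN.2⟩ w.coatomM w.centralizer_le] at hu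
        exact hu.1
    have hval : ∀ u ∈ (supportR L x : Set G), ψ ((xL : G) * u) = ψ x := fun u hu => by
      have h' := hR u hu
      exact hconst ⟨u, fittingHallOf_le M h'⟩ ((hmemK M ⟨u, fittingHallOf_le M h'⟩).1 h')
    rw [finsum_mem_congr rfl hval, finsum_mem_eq_finite_toFinset_sum _ (Set.toFinite _),
      Finset.sum_const, nsmul_eq_mul, Set.Finite.card_toFinset, Fintype.card_eq_nat_card,
      ← mul_assoc, SetLike.coe_sort_coe]
    rw [inv_mul_cancel₀ (Nat.cast_ne_zero.mpr Nat.card_pos.ne'), one_mul]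
  -- the value at `k₀`
  have hk₀A : (k₀ : G) ∈ supportA M :=
    coe_mem_typeA_of_mem w.typeIM hk₀ fun h' => hk₀G1 (congrArg Subtype.val h')
  have hfk₀ : dadeAvg (supportA M) M (supportR M) ψ k₀ = ψ k₀G := by
    by_cases hC : centralizer ({(k₀ : G)} : Set G) ≤ M
    · exact dadeAvg_of_bot ψ hk₀A (supportR_eq_bot hC)
    obtain ⟨-, h2, h3⟩ := F.theoremII M (supportA M) w.coatomM (Or.inl rfl)
    obtain ⟨N, ⟨hN, hNC⟩, -⟩ := (h2 _ hk₀A hC).2
    obtain ⟨-, -, -, -, ⟨hkAN, hkA1N⟩, htype⟩ := h3 _ hk₀A hC N hN hNC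
    have hNI : IsTypeI N := htype.resolve_right fun hII => not_frobenius_kernel hxMK hk₀
      (fun h' => hk₀G1 (congrArg Subtype.val h')) (Subtype.ext hxk₀)
      (F.supporting_II M w.coatomM _ hk₀A hC N hN hNC hII)
    letI : Fintype N := Fintype.ofFinite _
    have hncN : ∀ g : G, L.map (MulAut.conj g).toMonoidHom ≠ N := by
      intro g hg
      refine hkA1N ?_
      have h' : (MulAut.conj g) (g⁻¹ * (k₀ : G) * g) = (k₀ : G) := by simp [mul_assoc]
      rw [← hg, ← h'] at hkAN ⊢
      exact (mem_typeA1_map (MulAut.conj g) L).2 (hAL ▸ (mem_typeA_map (MulAut.conj g) L).1 hkAN)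
    have horthN := horth hN hNI hncN
    have hkN : (k₀ : G) ∈ N := typeA_subset_self N hkAN
    have hkNF : (⟨k₀, hkN⟩ : N) ∉ fittingHall N := fun h' => hkA1N <| by
      rw [hA1 hN hNI]
      exact ⟨(hmemK N ⟨k₀, hkN⟩).2 h', hk₀G1⟩
    rw [dadeAvg_of_mem ψ hk₀A, supportR_eq hC (h2 _ hk₀A hC).2 hN hNC]
    have hval : ∀ u ∈ ((fittingHallOf N ⊓ centralizer ({(k₀ : G)} : Set G) : Subgroup G) : Set G),
        ψ ((k₀ : G) * u) = ψ k₀G := fun u hu =>
      F.coset_const hN hNI hψcl horthN hkNF (k := ⟨u, fittingHallOf_le N hu.1⟩)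
        ((hmemK N ⟨u, fittingHallOf_le N hu.1⟩).1 hu.1)
    rw [finsum_mem_congr rfl hval, finsum_mem_eq_finite_toFinset_sum _ (Set.toFinite _),
      Finset.sum_const, nsmul_eq_mul, Set.Finite.card_toFinset, Fintype.card_eq_nat_card,
      ← mul_assoc, SetLike.coe_sort_coe]
    rw [inv_mul_cancel₀ (Nat.cast_ne_zero.mpr Nat.card_pos.ne'), one_mul]
  -- it is an integer congruent to `e`
  have hcardK : Nat.card (fittingHallOf M) = Nat.card (fittingHall M) :=
    Subgroup.card_map_of_injective M.subtype_injective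
  have hcardH : Nat.card (fittingHallOf L) = h := Subgroup.card_map_of_injective L.subtype_injective
  have hk₀cop : (orderOf k₀G).Coprime h :=
    (hcardH ▸ w.coprime).coprime_dvd_left (Subgroup.orderOf_dvd_natCard _ hk₀G)
  haveI : NeZero h := ⟨Nat.card_pos.ne'⟩
  obtain ⟨n, hn⟩ := int_value_of_fixed hψs h hk₀cop fun σ hσ => hgal σ hσ k₀G
  have hcong : (p : ℤ) ∣ n - e := by
    have hε := Complex.isPrimitiveRoot_exp p w.prime.ne_zero
    refine prime_dvd_of_epsDiv hε ?_
    have hpx : ¬ p ∣ orderOf k₀G := fun hd => by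
      have h1 : p ∣ h := by
        have hox : orderOf x = p := orderOf_eq_prime w.pow_eq_one w.ne_one
        rw [← hcardH, ← hox]
        exact Subgroup.orderOf_dvd_natCard _ w.mem_kerL
      exact w.prime.ne_one (Nat.eq_one_of_dvd_coprimes hk₀cop hd h1)
    have h1 := epsDiv_value_sub hε hψs w.pow_eq_one hxk₀
      ((w.prime.coprime_iff_not_dvd.2 hpx).symm)
    have h2 := epsDiv_value_sub hε (θ := χ)
      (Or.inl ((typeI_frobenius_coherent hG w.coatomL w.typeIL w.frobL hDL).1 χ
        ⟨θ, hθ, hθne, fun a ha => congrArg θ (Subtype.ext (Subgroup.mem_bot.mp ha)), rfl⟩))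
      (x := xL) (k := 1) (Subtype.ext (by simpa using w.pow_eq_one)) (Commute.one_right _)
      (by simp)
    have hval : ψ (x * k₀G) = χ xL := (hconst k₀ hk₀).trans hψx
    have hχ1 : χ 1 = e := by rw [hχ, Coherence.ind_one, hθ1, mul_one]
    rw [mul_one, hχ1] at h2
    rw [hval, hn] at h1
    have := h1.neg.add h2
    convert this using 1
    push_cast
    ring
  have habs : ((e : ℝ) - 1) ^ 2 ≤ (n : ℝ) ^ 2 := by
    obtain ⟨t, ht⟩ := hcong
    have h1 : ((e : ℤ) - 1) ≤ |n| := by
      rcases lt_trichotomy t 0 with ht0 | ht0 | ht0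
      · have : (p : ℤ) * t ≤ -(p : ℤ) := by nlinarith
        have := neg_le_abs n
        omega
      · rw [ht0, mul_zero] at ht
        have := le_abs_self n
        omega
      · have : (p : ℤ) ≤ (p : ℤ) * t := by nlinarith
        have := le_abs_self n
        omega
    have h2 : ((e : ℤ) - 1) ^ 2 ≤ n ^ 2 := by
      rw [← sq_abs n]; exact pow_le_pow_left₀ (by omega) h1 2
    exact_mod_cast h2
  -- the average on `K \ K'`
  have hD' : ∀ a : fittingHall M, (a : G) ∉ ⁅fittingHallOf M, fittingHallOf M⁆ ↔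
      a ∉ commutator (fittingHall M) := by
    intro a
    rw [fittingHallOf, ← Subgroup.map_commutator, ← Subgroup.map_subtype_commutator, Subgroup.map_map]
    exact not_congr (Subgroup.mem_map_iff_mem
      (f := M.subtype.comp (fittingHall M).subtype) (M.subtype_injective.comp (Subgroup.subtype_injective _)))
  have hfK : ∀ a : fittingHall M, a ∉ commutator (fittingHall M) →
      dadeAvg (typeA1 M) M (supportR M) ψ a = n := by
    intro a ha
    have ha1 : (a : M) ≠ 1 := fun h' => ha (by rw [show a = 1 from Subtype.ext h']; exact one_mem _)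
    have hA' : ((a : M) : G) ∈ typeA1 M := by
      rw [hA1 w.coatomM w.typeIM]
      exact ⟨(hmemK M a).2 a.2, fun h' => ha1 (Subtype.ext (by simpa using h'))⟩
    have h1 := typeI_avg_const w.typeIM hDM hψcl horthM ha ((hD' ⟨k₀, hk₀⟩).1 hk₀')
    rw [dadeAvg_of_mem ψ hA', ← dadeAvg_of_mem ψ (coe_mem_typeA_of_mem w.typeIM a.2 ha1)]
    rw [h1, hfk₀, hn]
  have hlow : (Nat.card M : ℝ)⁻¹ *
      (((Nat.card (fittingHall M) : ℝ) - Nat.card (commutator (fittingHall M))) * (n : ℝ) ^ 2) ≤ a₁ := by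
    set f := dadeAvg (typeA1 M) M (supportR M) ψ with hf
    have h1 : a₁ = (Nat.card M : ℝ)⁻¹ * ∑ m : M, ‖f m‖ ^ 2 := by
      rw [ha₁, Coherence.sqNorm]
      have h1 : classInner f f = (((Nat.card M : ℝ)⁻¹ * ∑ m : M, ‖f m‖ ^ 2 : ℝ) : ℂ) := by
        simp only [classInner, Complex.mul_conj, Complex.normSq_eq_norm_sq]
        push_cast
        ring
      rw [h1, Complex.ofReal_re]
    rw [h1]
    refine mul_le_mul_of_nonneg_left ?_ (by positivity)
    set D := (Finset.univ.filter fun a : fittingHall M => a ∉ commutator (fittingHall M)) with hDdef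
    have hcardD : ((D.card : ℕ) : ℝ) =
        (Nat.card (fittingHall M) : ℝ) - Nat.card (commutator (fittingHall M)) := by
      have h2 := Finset.card_filter_add_card_filter_not (s := (Finset.univ : Finset (fittingHall M)))
        (p := fun a => a ∈ commutator (fittingHall M))
      rw [Finset.card_univ, ← Fintype.card_subtype, ← Nat.card_eq_fintype_card,
        ← Nat.card_eq_fintype_card] at h2
      rw [← h2, hDdef]
      push_cast
      ring
    calc ((Nat.card (fittingHall M) : ℝ) - Nat.card (commutator (fittingHall M))) * (n : ℝ) ^ 2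
        = ∑ a ∈ D.map ⟨Subtype.val, Subtype.val_injective⟩, ‖f a‖ ^ 2 := by
          rw [← hcardD, Finset.sum_map]
          rw [Finset.sum_congr rfl (g := fun _ => (n : ℝ) ^ 2) fun a ha => ?_, Finset.sum_const,
            nsmul_eq_mul]
          show ‖f (a : M)‖ ^ 2 = _
          rw [hfK a (Finset.mem_filter.1 ha).2, Complex.norm_intCast, sq_abs]
      _ ≤ ∑ m : M, ‖f m‖ ^ 2 :=
          Finset.sum_le_sum_of_subset_of_nonneg (Finset.subset_univ _) fun _ _ _ => by positivity
  -- `K'` has index at least five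
  have hk5 : 5 ≤ (commutator (fittingHall M)).index := by
    obtain ⟨m, hm, k, hk, hmk⟩ := w.noncentral
    exact five_le_commutator_index w.typeIM.1.2.1 ((hD' ⟨k₀, hk₀⟩).1 hk₀')
      (m := ⟨m, hm⟩) (k := ⟨k, fittingHallOf_le M hk⟩) ((hmemK M ⟨k, fittingHallOf_le M hk⟩).1 hk)
      fun h' => hmk (congrArg Subtype.val h')
  -- the count
  have hK := (commutator (fittingHall M)).card_mul_index
  set k := (commutator (fittingHall M)).index with hk
  set d := Nat.card (commutator (fittingHall M)) with hd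
  have hMcard : (Nat.card M : ℝ) = ((d : ℝ) * k) * (fittingHall M).index := by
    rw [show (Nat.card M : ℝ) = ((Nat.card (fittingHall M) * (fittingHall M).index : ℕ) : ℝ) by
      rw [Subgroup.card_mul_index], ← hK]
    push_cast
    ring
  have hu : ((fittingHall M).index : ℝ) ≤ h := by exact_mod_cast w.index_le
  have hupos : (0 : ℝ) < (fittingHall M).index := by
    exact_mod_cast Nat.pos_of_ne_zero Subgroup.index_ne_zero_of_finite
  have hdpos : (0 : ℝ) < d := by exact_mod_cast Nat.card_pos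
  have hk' : (5 : ℝ) ≤ k := by exact_mod_cast hk5
  have he' : (3 : ℝ) ≤ e := by exact_mod_cast he3
  have hKr : (Nat.card (fittingHall M) : ℝ) = (d : ℝ) * k := by exact_mod_cast hK.symm
  have hhpos : (0 : ℝ) < h := by linarith
  rw [hMcard, hKr] at hlow
  rw [hLcard] at hsum
  have hsum' : a₁ ≤ (e : ℝ) / h := by
    have : ((e : ℝ) + 0) ^ 2 / ((h : ℝ) * e) = (e : ℝ) / h := by field_simp; ring
    rw [this] at hsum
    rw [zero_pow two_ne_zero, zero_div, add_zero] at hsum
    linarith
  have hfin : ((k : ℝ) - 1) * (n : ℝ) ^ 2 * h ≤ (e : ℝ) * k * (fittingHall M).index := by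
    have h1 := hlow.trans hsum'
    rw [inv_mul_le_iff₀ (by positivity), ← mul_div_assoc, le_div_iff₀ hhpos] at h1
    nlinarith [h1, hdpos]
  have h2 : ((k : ℝ) - 1) * ((e : ℝ) - 1) ^ 2 * h ≤ (e : ℝ) * k * h := by
    refine le_trans ?_ (hfin.trans (mul_le_mul_of_nonneg_left hu (by positivity)))
    gcongr
    linarith
  have h3 : ((k : ℝ) - 1) * ((e : ℝ) - 1) ^ 2 ≤ (e : ℝ) * k := le_of_mul_le_mul_right h2 hhpos
  nlinarith [mul_le_mul_of_nonneg_left hk' (show (0 : ℝ) ≤ ((e : ℝ) - 1) ^ 2 - e by nlinarith)]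

end CfsgLib.OddOrder
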