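import Cfsg.Agent.OddOrder.PF8.Supports

/-!
# The facts used in Peterfalvi section 12, and the configuration of (12.8)

`PF12Facts` adds to `BG16Facts` the further results of the local analysis and the one result of
Peterfalvi sections 10-11 that the proof of (12.7) uses. `Witness` is the configuration which (12.7)
leads to and which (12.8)-(12.16) refute.
-/

set_option autoImplicit false
set_option linter.unusedSectionVars false

namespace CfsgLib.OddOrder

open Cfsg
open Subgroup (centralizer normalizer)

universe u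

/-- The facts used in Peterfalvi section 12. -/
structure PF12Facts (G : Type u) [Group G] : Prop extends BG16Facts G where
  /-- `M_F = M_σ` unless `U = 1` (part of S1357). -/
  fitting_sigma : ∀ M K U : Subgroup G, IsCoatom M → IsSigmaDecomposition M K U →
    fittingHallOf M ≠ sigmaCore M → U = ⊥
  /-- The Sylow subgroups of a complement of `M_F` (part of S1390). -/
  complSylow : ∀ M U : Subgroup G, IsCoatom M → IsTypeI M →
    IsComplIn (fittingHallOf M) U M →
      ∀ p : ℕ, p.Prime → ∀ P : Sylow p U,
        IsMulCommutative (P : Subgroup U) ∧ PRankLE p 2 (P : Subgroup U)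
  /-- Every prime divisor of `|G|` is in some `σ(M)` (part of S1378). -/
  sigma_cover : ∀ p : ℕ, p.Prime → p ∣ Nat.card G → ∃ M : Subgroup G, IsCoatom M ∧ p ∈ sigma M
  /-- A supporting subgroup of Type II supports a Frobenius group (part of S1391). -/
  supporting_II : ∀ M : Subgroup G, IsCoatom M → ∀ x ∈ supportA M,
    ¬ centralizer ({x} : Set G) ≤ M → ∀ L : Subgroup G, IsCoatom L →
      centralizer ({x} : Set G) ≤ L → IsOfTypeII L →
        ∃ E : Subgroup ↥M, IsFrobeniusComplement E ∧
          frobeniusKernel E = ((fittingHall ↥M : Subgroup ↥M) : Set ↥M)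
  /-- Peterfalvi (10.10), (11.x): the type P subgroups not of Type II. -/
  typeP : ∀ L W₁ U W₂ : Subgroup G, IsCoatom L → IsTypePWith L W₁ U W₂ → ¬ IsOfTypeII L →
    IsMulCommutative U ∧ (Nat.card W₁).Prime ∧ (Nat.card W₂).Prime ∧
      Nat.card W₂ < Nat.card W₁ ∧ IsElementaryAbelian (Nat.card W₂) (fittingHallOf L) ∧
      Nat.card (fittingHallOf L) = Nat.card W₂ ^ Nat.card W₁ ∧
      U ⊓ centralizer (fittingHallOf L : Set G) = ⊥

variable {G : Type u} [Group G]

/-- The configuration of Peterfalvi (12.8). -/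
structure Witness (M L : Subgroup G) (p : ℕ) (x : G) : Prop where
  coatomM : IsCoatom M
  coatomL : IsCoatom L
  typeIM : IsTypeI M
  typeIL : IsTypeI L
  frobL : ∀ h ∈ fittingHallOf L, h ≠ 1 → L ⊓ centralizer ({h} : Set G) ≤ fittingHallOf L
  not_conj : ∀ g : G, L.map (MulAut.conj g).toMonoidHom ≠ M
  prime : p.Prime
  pow_eq_one : x ^ p = 1
  ne_one : x ≠ 1
  mem_kerL : x ∈ fittingHallOf L
  mem_M : x ∈ M
  not_mem_kerM : x ∉ fittingHallOf M
  exists_fixed : ∃ k ∈ fittingHallOf M, x * k = k * x ∧ k ∉ ⁅fittingHallOf M, fittingHallOf M⁆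
  centralizer_le : centralizer ({x} : Set G) ≤ M
  centralizer_unique : ∀ N : Subgroup G, IsCoatom N → centralizer ({x} : Set G) ≤ N → N = M
  coprime : (Nat.card (fittingHallOf M)).Coprime (Nat.card (fittingHallOf L))
  index_le : (fittingHall ↥M).index ≤ Nat.card (fittingHall ↥L)
  index_L_le : 2 * (fittingHall ↥L).index ≤ p + 1
  sq_le : p ^ 2 ≤ Nat.card (fittingHall ↥L)
  noncentral : ∃ m ∈ M, ∃ k ∈ fittingHallOf M, m * k ≠ k * m

end CfsgLib.OddOrder
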