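import Cfsg.Agent.OddOrder.PF12.Facts
import Cfsg.Agent.OddOrder.BG10.Cores
import Cfsg.Agent.OddOrder.BG11.Basic
import Cfsg.Agent.OddOrder.BG11.KeyCore
import Cfsg.Agent.OddOrder.BG15.Basic
import Cfsg.Agent.OddOrder.BG15.FittingHall

/-!
# Elements and subgroups of prime power order in a maximal subgroup of Type I

Preparations for Peterfalvi (12.7).
-/

set_option autoImplicit false
set_option linter.style.haveILetI false
set_option linter.unusedSectionVars false

namespace CfsgLib.OddOrder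

open Cfsg
open Subgroup (centralizer normalizer)
open CfsgLib.ConjFunctor (IsSylowIn exists_isSylowIn_ge)

variable {G : Type*} [Group G] [Finite G] {M : Subgroup G} {p : ℕ}

/-- The Type I maximal subgroup has `M_F = M_σ`. -/
theorem PF12Facts.kernel_eq_sigma (F : PF12Facts G) (hM : IsCoatom M)
    (h : IsTypeI M ∨ IsOfTypeII M) : fittingHallOf M = sigmaCore M := by
  obtain ⟨K, U, hKU⟩ := F.toBG16Facts.exists_sigmaDecomposition hM
  by_contra hne
  have hU := F.fitting_sigma M K U hM hKU hne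
  rcases h with h | h
  · exact ((F.typeI M K U hM hKU).1 h).2 hU
  · exact ((F.typeII M K U hM hKU).1 h).2 hU

/-- A prime not dividing `|M_F|` is outside `σ(M)` for `M` of Type I. -/
theorem PF12Facts.not_mem_sigma (hG : IsMinSimpleOddOrder G) (F : PF12Facts G) (hM : IsCoatom M)
    (hI : IsTypeI M) (hd : ¬ p ∣ Nat.card (fittingHallOf M)) : p ∉ sigma M := by
  intro hs
  have h := (sigmaCore_isHall hG hM).1
  rw [← F.kernel_eq_sigma hM (Or.inl hI)] at h
  have hpM : p ∣ Nat.card M := hs.2.1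
  rw [← card_mul_relIndex (fittingHallOf_le M)] at hpM
  exact h.2.2 p hs.1 hs ((hs.1.dvd_mul.1 hpM).resolve_left hd)

/-- An element of the plane `A` of `M` is every element of order `p` of `M` commuting with it. -/
theorem mem_plane_of_commute (hp : p.Prime) (hr : PRankLE p 2 M) {A : Subgroup G}
    (hA : IsElementaryAbelian p A) (hAc : Nat.card A = p ^ 2) (hAM : A ≤ M) {z : G} (hzM : z ∈ M)
    (hzp : z ^ p = 1) (hz : ∀ a ∈ A, z * a = a * z) : z ∈ A := by
  haveI := Fact.mk hp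
  by_contra hn
  have hcz : z ∈ centralizer (A : Set G) := Subgroup.mem_centralizer_iff.2 fun a ha => (hz a ha).symm
  have he : IsElementaryAbelian p (A ⊔ Subgroup.zpowers z) := BG11.elem_sup_zpowers hA hzp hcz
  have hlt : A < A ⊔ Subgroup.zpowers z :=
    lt_of_le_of_ne le_sup_left fun h => hn (h ▸ Subgroup.mem_sup_right (Subgroup.mem_zpowers z))
  refine not_pRankLE_of_le (k := 2) (sup_le hAM (Subgroup.zpowers_le.2 hzM)) he ?_ hr
  obtain ⟨n, hn'⟩ := IsPGroup.iff_card.1 (isPGroup_of_isElementaryAbelian he)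
  have h2 : p ^ 2 < p ^ n := by
    rw [← hAc, ← hn']
    exact lt_of_le_of_ne (Subgroup.card_le_of_le hlt.le) fun h =>
      hlt.ne (Subgroup.eq_of_le_of_card_ge hlt.le h.ge)
  rw [hn']
  exact Nat.pow_le_pow_right hp.pos ((Nat.pow_lt_pow_iff_right hp.one_lt).1 h2)

/-- A complement of `M_F` in `M` of Type I, with the fixed-point-free subgroup of the same exponent. -/
theorem exists_compl_typeI (hI : IsTypeI M) :
    ∃ U : Subgroup G, IsComplIn (fittingHallOf M) U M ∧
      Nat.card U = (fittingHallOf M).relIndex M ∧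
      ∀ s : ℕ, s.Prime → s ∣ Nat.card U → ∃ y ∈ U, orderOf y = s ∧
        ∀ k ∈ fittingHallOf M, y * k = k * y → k = 1 := by
  obtain ⟨-, -, -, -, U, -, hU, -, U₀, hU₀U, hexp, hfix⟩ := hI.1
  have hUM : U.map M.subtype ≤ M := Subgroup.map_subtype_le _
  refine ⟨U.map M.subtype, ⟨fittingHallOf_le M, hUM, ?_, ?_⟩, ?_, ?_⟩
  · rw [fittingHallOf, ← Subgroup.map_inf _ _ _ M.subtype_injective, disjoint_iff.1 hU.disjoint,
      Subgroup.map_bot]
  · intro m hm
    obtain ⟨a, ha, b, hb, hab⟩ := Set.mem_mul.1 (hU.mul_eq.symm ▸ Set.mem_univ (⟨m, hm⟩ : M))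
    exact ⟨a, ⟨a, ha, rfl⟩, b, ⟨b, hb, rfl⟩, (congrArg Subtype.val hab).symm⟩
  · rw [Subgroup.card_map_of_injective M.subtype_injective, ← hU.symm.index_eq_card, fittingHallOf,
      Subgroup.relIndex, Subgroup.subgroupOf,
      Subgroup.comap_map_eq_self_of_injective M.subtype_injective]
  · intro s hs hd
    haveI := Fact.mk hs
    rw [Subgroup.card_map_of_injective M.subtype_injective] at hd
    obtain ⟨w, hw⟩ := exists_prime_orderOf_dvd_card' (G := U) s hd
    have h1 : s ∣ Nat.card U₀ := by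
      refine dvd_trans ?_ Group.exponent_dvd_nat_card
      rw [hexp, ← hw]
      exact Monoid.order_dvd_exponent w
    obtain ⟨y, hy⟩ := exists_prime_orderOf_dvd_card' (G := U₀) s h1
    refine ⟨((y : M) : G), ⟨y, hU₀U y.2, rfl⟩, ?_, ?_⟩
    · exact ((Subgroup.orderOf_coe _).trans (Subgroup.orderOf_coe _)).trans hy
    · intro k hk hc
      obtain ⟨k', hk', rfl⟩ := hk
      have h0 := hfix y y.2 (fun h => hs.ne_one (hy.symm.trans (orderOf_eq_one_iff.2 (Subtype.ext h)))) k' hk'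
        (Subtype.ext hc)
      simp [h0]

theorem compl_coprime {U : Subgroup G} (hU : IsComplIn (fittingHallOf M) U M) {s : ℕ} (hs : s.Prime)
    (hd : s ∣ Nat.card U) : ¬ s ∣ Nat.card (fittingHallOf M) := fun h =>
  hs.ne_one (Nat.eq_one_of_dvd_coprimes (card_coprime_fittingHallOf hU.2.1 hU.2.2.1) h hd)

/-- A prime outside `M_F` divides the order of a complement. -/
theorem dvd_compl {U : Subgroup G} (hU : IsComplIn (fittingHallOf M) U M) {s : ℕ} (hs : s.Prime)
    (hK : ¬ s ∣ Nat.card (fittingHallOf M)) (hd : s ∣ Nat.card M) : s ∣ Nat.card U := by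
  rw [← compl_card hU] at hd
  exact (hs.dvd_mul.1 hd).resolve_left hK

/-- A `p`-subgroup of `M` prime to `M_F` is conjugate into a complement. -/
theorem exists_conj_le_compl [Fact p.Prime] {U : Subgroup G} (hU : IsComplIn (fittingHallOf M) U M)
    (hK : ¬ p ∣ Nat.card (fittingHallOf M)) :
    ∃ P : Subgroup G, IsSylowIn p P U ∧ IsSylowIn p P M := by
  obtain ⟨P, hP⟩ := exists_isSylowIn (p := p) U
  refine ⟨P, hP, hP.le.trans hU.2.1, hP.isPGroup, fun hd => ?_⟩
  have h1 : U.relIndex M = Nat.card (fittingHallOf M) := by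
    have h2 := card_mul_relIndex hU.2.1
    rw [← compl_card hU, mul_comm] at h2
    exact Nat.eq_of_mul_eq_mul_right Nat.card_pos h2
  rw [← Subgroup.relIndex_mul_relIndex P U M hP.le hU.2.1, h1] at hd
  exact ((Fact.out : p.Prime).dvd_mul.1 hd).elim hP.not_dvd hK

/-- The `p`-subgroups of `M` prime to `M_F` are abelian. -/
theorem PF12Facts.pGroup_comm (F : PF12Facts G) [Fact p.Prime] (hM : IsCoatom M) (hI : IsTypeI M)
    (hK : ¬ p ∣ Nat.card (fittingHallOf M)) {T : Subgroup G} (hTM : T ≤ M) (hT : IsPGroup p T)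
    {a b : G} (ha : a ∈ T) (hb : b ∈ T) : a * b = b * a := by
  obtain ⟨U, hU, -, -⟩ := exists_compl_typeI hI
  obtain ⟨P, hPU, hPM⟩ := exists_conj_le_compl (p := p) hU hK
  obtain ⟨g, -, hg⟩ := hPM.exists_cj_le hTM hT
  have hcom := (F.complSylow M U hM hI hU p Fact.out
    ((hPU.isPGroup.comap_subtype (K := U)).toSylow hPU.not_dvd)).1
  rw [show (((hPU.isPGroup.comap_subtype (K := U)).toSylow hPU.not_dvd : Sylow p U) : Subgroup U) =
    P.subgroupOf U from rfl] at hcom
  have ha' := hg (ConjFunctor.conj_mem_cj g ha)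
  have hb' := hg (ConjFunctor.conj_mem_cj g hb)
  have h := congrArg (fun z : P.subgroupOf U => ((z : U) : G))
    (hcom.is_comm.comm ⟨⟨_, hPU.le ha'⟩, ha'⟩ ⟨⟨_, hPU.le hb'⟩, hb'⟩)
  have h2 : g * (a * b) * g⁻¹ = g * (b * a) * g⁻¹ :=
    calc g * (a * b) * g⁻¹ = g * a * g⁻¹ * (g * b * g⁻¹) := by group
      _ = g * b * g⁻¹ * (g * a * g⁻¹) := h
      _ = _ := by group
  exact mul_left_cancel (mul_right_cancel h2)

/-- With `p`-rank one outside `M_F`, elements of order `p` act on `M_F` without fixed points. -/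
theorem fpf_of_pRank_one (hG : IsMinSimpleOddOrder G) (hI : IsTypeI M) (hp : p.Prime)
    (hK : ¬ p ∣ Nat.card (fittingHallOf M)) (hr : PRankLE p 1 M) {w : G} (hw : w ∈ M)
    (hwo : orderOf w = p) : ∀ k ∈ fittingHallOf M, w * k = k * w → k = 1 := by
  haveI := Fact.mk hp
  obtain ⟨U, hU, -, hy⟩ := exists_compl_typeI hI
  have hd : p ∣ Nat.card M := hwo ▸ Subgroup.orderOf_dvd_natCard M hw
  obtain ⟨y, hyU, hyo, hyf⟩ := hy p hp (dvd_compl hU hp hK hd)
  have hz : ∀ z : G, orderOf z = p → IsPGroup p (Subgroup.zpowers z) := fun z hz =>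
    IsPGroup.of_card (n := 1) (by rw [Nat.card_zpowers, hz, pow_one])
  obtain ⟨P, hwP, hP⟩ := exists_isSylowIn_ge (p := p) (Subgroup.zpowers_le.2 hw) (hz w hwo)
  obtain ⟨g, hgM, hg⟩ := hP.exists_cj_le (Subgroup.zpowers_le.2 (hU.2.1 hyU)) (hz y hyo)
  have hyP : g * y * g⁻¹ ∈ P := hg (ConjFunctor.conj_mem_cj g (Subgroup.mem_zpowers y))
  haveI : IsCyclic P := BG11.isCyclic_of_pRankLE_one hP.le hP.isPGroup
    (prime_ne_two_of_dvd_odd (minSimple_odd_subgroup hG M) hd) hr
  have hzz : ∀ z : G, z ∈ P → orderOf z = p →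
      Nat.card ((Subgroup.zpowers z).subgroupOf P) = p := fun z hz hzo => by
    rw [Nat.card_congr (Subgroup.subgroupOfEquivOfLe (Subgroup.zpowers_le.2 hz)).toEquiv,
      Nat.card_zpowers, hzo]
  have hgo : orderOf (g * y * g⁻¹) = p := (orderOf_injective (MulAut.conj g).toMonoidHom
    (MulAut.conj g).injective y).trans hyo
  have hwP' : w ∈ P := hwP (Subgroup.mem_zpowers w)
  have heq := eq_of_card_eq_of_isCyclic ((hzz w hwP' hwo).trans (hzz _ hyP hgo).symm)
  have hmem : g * y * g⁻¹ ∈ Subgroup.zpowers w := by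
    have h : (⟨_, hyP⟩ : P) ∈ (Subgroup.zpowers (g * y * g⁻¹)).subgroupOf P :=
      Subgroup.mem_subgroupOf.2 (Subgroup.mem_zpowers _)
    rw [← heq] at h
    exact h
  intro k hk hc
  obtain ⟨i, hi⟩ := Subgroup.mem_zpowers_iff.1 hmem
  have h1 : g * y * g⁻¹ * k = k * (g * y * g⁻¹) := hi ▸ (Commute.zpow_left hc i).eq
  have h2 := hyf (g⁻¹ * k * g) ((Subgroup.mem_normalizer_iff''.1
    (le_normalizer_fittingHallOf M hgM) k).1 hk) (by
      calc y * (g⁻¹ * k * g) = g⁻¹ * (g * y * g⁻¹ * k) * g := by group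
        _ = g⁻¹ * (k * (g * y * g⁻¹)) * g := by rw [h1]
        _ = _ := by group)
  simpa using (conj_eq_one_iff (a := g⁻¹) (b := k)).1 (by simpa using h2)

/-- With all `p`-ranks outside `M_F` one, `M` is a Frobenius group. -/
theorem frobenius_of_pRank_one (hG : IsMinSimpleOddOrder G) (hI : IsTypeI M)
    (hr : ∀ s : ℕ, s.Prime → ¬ s ∣ Nat.card (fittingHallOf M) → PRankLE s 1 M) :
    ∀ h ∈ fittingHallOf M, h ≠ 1 → M ⊓ centralizer ({h} : Set G) ≤ fittingHallOf M := by
  intro h hh hh1 c ⟨hcM, hc⟩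
  by_contra hn
  obtain ⟨s, hs, hsd, hsK⟩ : ∃ s : ℕ, s.Prime ∧ s ∣ orderOf c ∧ ¬ s ∣ Nat.card (fittingHallOf M) := by
    by_contra! hall
    exact hn (le_fittingHallOf_of_primes (Subgroup.zpowers_le.2 hcM)
      (fun s hs hd => hall s hs (by rwa [← Nat.card_zpowers])) (Subgroup.mem_zpowers c))
  refine hh1 (fpf_of_pRank_one hG hI hs hsK (hr s hs hsK) (M.pow_mem hcM (orderOf c / s))
    (orderOf_pow_orderOf_div (orderOf_pos c).ne' hsd) h hh ?_)
  exact (Commute.pow_left (Subgroup.mem_centralizer_singleton_iff.1 hc) _).eq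

/-- A group of odd prime order `q` acting on a `p`-group of order at most `p ^ 2` without fixed points
has order less than `p`. -/
theorem prime_lt_of_fpf {q : ℕ} (hp : p.Prime) (hp2 : p ≠ 2) (hq : q.Prime) (hq2 : q ≠ 2) {Z : Subgroup G}
    (hZ : Nat.card Z ∣ p ^ 2) (hZ1 : Z ≠ ⊥) {w : G} (hw : orderOf w = q)
    (hn : w ∈ normalizer (Z : Set G)) (hfpf : ∀ z ∈ Z, w * z = z * w → z = 1) : q < p := by
  haveI := Fact.mk hq
  letI : MulDistribMulAction (Subgroup.zpowers w) Z :=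
    MulDistribMulAction.compHom Z
      (Z.normalizerMonoidHom.comp (Subgroup.inclusion (Subgroup.zpowers_le.2 hn)))
  have hW : IsPGroup q (Subgroup.zpowers w) :=
    IsPGroup.of_card (n := 1) (by rw [Nat.card_zpowers, hw, pow_one])
  have hfix : MulAction.fixedPoints (Subgroup.zpowers w) Z = {1} := by
    refine Set.eq_singleton_iff_unique_mem.2 ⟨fun e => smul_one e, fun z hz => ?_⟩
    refine Subtype.ext (hfpf z z.2 ?_)
    have h : w * (z : G) * w⁻¹ = z :=
      congrArg Subtype.val (hz ⟨w, Subgroup.mem_zpowers w⟩)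
    exact mul_inv_eq_iff_eq_mul.1 h
  have h := hW.card_modEq_card_fixedPoints Z
  rw [hfix, Nat.card_eq_fintype_card (α := ({1} : Set Z)), Set.card_singleton] at h
  have hd : q ∣ Nat.card Z - 1 := (Nat.modEq_iff_dvd' Nat.card_pos).1 h.symm
  obtain ⟨j, hj, hjc⟩ := (Nat.dvd_prime_pow hp).1 hZ
  have h1 : q ∣ p ^ 2 - 1 := by
    rw [hjc] at hd
    refine hd.trans ?_
    interval_cases j
    · exact absurd (Subgroup.eq_bot_of_card_eq _ (by rw [hjc, pow_zero])) hZ1
    · rw [pow_one, show p ^ 2 - 1 = (p + 1) * (p - 1) by simpa using Nat.sq_sub_sq p 1]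
      exact dvd_mul_left _ _
    · exact dvd_rfl
  have h2 : p ^ 2 - 1 = (p + 1) * (p - 1) := by simpa using Nat.sq_sub_sq p 1
  rw [h2] at h1
  obtain ⟨a, ha⟩ := hp.odd_of_ne_two hp2
  obtain ⟨b, hb⟩ := hq.odd_of_ne_two hq2
  rcases hq.dvd_mul.1 h1 with ⟨t, ht⟩ | h3
  · rcases t with _ | _ | t
    · omega
    · omega
    · have h4 : q * (t + 1 + 1) = q * t + q + q := by ring
      have := hq.two_le
      omega
  · have := Nat.le_of_dvd (by have := hp.two_le; omega) h3
    omega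

end CfsgLib.OddOrder
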