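import Cfsg.Agent.Coherence.Lines

/-!
# An odd abelian group moving a line of a plane (towards Peterfalvi (12.7))
-/

set_option autoImplicit false
set_option linter.unusedSectionVars false

namespace CfsgLib.OddOrder

open CfsgLib.Coherence

/-- An abelian group of odd order with a regular orbit, in which every non-identity element fixes at
most two points, has at most half as many elements as there are points (an even number, not one more
than the order of the group). -/
theorem two_mul_card_le_of_two_fixed {E : Type*} [Group E] [Finite E] {Ω : Type*} [Finite Ω]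
    [MulAction E Ω] (hcomm : ∀ a b : E, a * b = b * a) (hodd : Odd (Nat.card E))
    (h2 : ∀ c : E, c ≠ 1 → Nat.card (MulAction.fixedBy Ω c) ≤ 2)
    {X : Ω} (hX : ∀ c : E, c • X = X → c = 1) (heven : Even (Nat.card Ω))
    (hne : Nat.card E + 1 ≠ Nat.card Ω) : 2 * Nat.card E ≤ Nat.card Ω := by
  classical
  by_contra hlt
  have hinj : Function.Injective fun c : E => c • X := fun a b h => by
    refine (inv_mul_eq_one.1 (hX (b⁻¹ * a) ?_)).symm
    rw [mul_smul]
    exact inv_smul_eq_iff.2 h
  set O := Set.range fun c : E => c • X with hO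
  have hOcard : Nat.card O = Nat.card E :=
    Nat.card_congr (Equiv.ofInjective _ hinj).symm
  -- points outside the orbit are fixed by the whole group
  have hfix : ∀ Y : Ω, Y ∉ O → ∀ g : E, g • Y = Y := by
    intro Y hY
    obtain ⟨c, hc, hc1⟩ : ∃ c : E, c • Y = Y ∧ c ≠ 1 := by
      by_contra hno
      push Not at hno
      let f : E ⊕ E → Ω := fun s => s.elim (fun c => c • X) (fun c => c • Y)
      have hf : Function.Injective f := by
        rintro (a | a) (b | b) h <;> simp only [f, Sum.elim_inl, Sum.elim_inr] at h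
        · rw [hinj h]
        · exact absurd ⟨b⁻¹ * a, by simp only [mul_smul]; exact inv_smul_eq_iff.2 h⟩ hY
        · exact absurd ⟨a⁻¹ * b, by simp only [mul_smul]; exact inv_smul_eq_iff.2 h.symm⟩ hY
        · rw [(inv_mul_eq_one.1 (hno (b⁻¹ * a) (by rw [mul_smul]; exact inv_smul_eq_iff.2 h))).symm]
      have := Nat.card_le_card_of_injective f hf
      rw [Nat.card_sum] at this
      omega
    intro g
    suffices h2Y : g ^ 2 • Y = Y by
      have h : g ^ 2 ∈ MulAction.stabilizer E Y := h2Y
      obtain ⟨m, hm⟩ := exists_pow_eq_self_of_coprime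
        (Nat.coprime_two_left.2 (hodd.of_dvd_nat (orderOf_dvd_natCard g)) : Nat.Coprime 2 (orderOf g))
      exact hm ▸ Subgroup.pow_mem (MulAction.stabilizer E Y) h m
    have hmem : ∀ i : ℕ, g ^ i • Y ∈ MulAction.fixedBy Ω c := fun i => by
      rw [MulAction.mem_fixedBy, ← mul_smul, hcomm, mul_smul, hc]
    by_contra h2Y
    have h1Y : g • Y ≠ Y := fun h => h2Y (by rw [pow_two, mul_smul, h, h])
    let f : Fin 3 → MulAction.fixedBy Ω c := fun i => ⟨g ^ (i : ℕ) • Y, hmem i⟩
    have hf : Function.Injective f := by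
      intro i j hij
      have h3 : g ^ (i : ℕ) • Y = g ^ (j : ℕ) • Y := congrArg Subtype.val hij
      fin_cases i <;> fin_cases j <;> simp at h3 ⊢
      · exact h1Y h3.symm
      · exact h2Y h3.symm
      · exact h1Y h3
      · exact h1Y (by rw [pow_two, mul_smul] at h3; exact (smul_left_cancel g h3).symm)
      · exact h2Y h3
      · exact h1Y (by rw [pow_two, mul_smul] at h3; exact smul_left_cancel g h3)
    have hle := (Nat.card_le_card_of_injective f hf).trans (h2 c hc1)
    simp at hle
  have hcompl : Nat.card (Oᶜ : Set Ω) + Nat.card E = Nat.card Ω := by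
    rw [← hOcard, add_comm, Nat.card_coe_set_eq, Nat.card_coe_set_eq, Set.ncard_add_ncard_compl]
  have hE : 1 < Nat.card E := by
    by_contra h
    have : 2 ≤ Nat.card Ω := by
      obtain ⟨a, ha⟩ := heven
      have : Nonempty Ω := ⟨X⟩
      have := Nat.card_pos (α := Ω)
      omega
    omega
  obtain ⟨c, hc⟩ : ∃ c : E, c ≠ 1 := by
    have := Finite.one_lt_card_iff_nontrivial.1 hE
    exact exists_ne 1
  have hle : Nat.card (Oᶜ : Set Ω) ≤ 2 :=
    (Nat.card_le_card_of_injective (fun Y : (Oᶜ : Set Ω) => (⟨Y.1, hfix Y.1 Y.2 c⟩ :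
      MulAction.fixedBy Ω c)) fun a b h => Subtype.ext (congrArg (fun z => z.1) h)).trans (h2 c hc)
  obtain ⟨a, ha⟩ := heven
  obtain ⟨b, hb⟩ := hodd
  omega

universe u

variable {Q : Type u} [Group Q] [Finite Q] {p : ℕ} [hp : Fact p.Prime] (V : Subgroup Q)
  [hV : V.Normal]

/-- An abelian group of odd order prime to `p` none of whose non-identity elements leaves invariant a
given line of a plane over `ZMod p` has order at most `(p + 1) / 2`. -/
theorem two_mul_card_le_succ (hp2 : p ≠ 2) (hVc : ∀ a ∈ V, ∀ b ∈ V, a * b = b * a)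
    (hcard : Nat.card V = p ^ 2) (hexp : ∀ v ∈ V, v ^ p = 1) (E : Subgroup Q)
    (hEc : ∀ a ∈ E, ∀ b ∈ E, a * b = b * a) (hodd : Odd (Nat.card E)) (hcop : (Nat.card E).Coprime p)
    {W : Subgroup Q} (hWV : W ≤ V) (hW : Nat.card W = p)
    (hmove : ∀ b ∈ E, (∀ w ∈ W, b * w * b⁻¹ ∈ W) → b = 1) :
    2 * Nat.card E ≤ p + 1 := by
  classical
  let act : MulAction E (OrderSubgroups V p) :=
    MulAction.compHom _ ((linesPerm V p).comp E.subtype)
  have hsm : ∀ (c : E) (Y : OrderSubgroups V p), c • Y = linesPerm V p (c : Q) Y := fun _ _ => rfl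
  have hstab : ∀ (c : E), linesPerm V p (c : Q) ⟨W, hWV, hW⟩ = ⟨W, hWV, hW⟩ → c = 1 := by
    intro c hc
    refine Subtype.ext (hmove c c.2 fun w hw => ?_)
    have h1 : W.map (MulAut.conj (c : Q)).toMonoidHom = W := congrArg Subtype.val hc
    rw [← h1]
    exact Subgroup.mem_map_of_mem _ hw
  have h := two_mul_card_le_of_two_fixed (Ω := OrderSubgroups V p)
    (fun a b : E => Subtype.ext (hEc a a.2 b b.2)) hodd ?_ (X := ⟨W, hWV, hW⟩)
    (fun c hc => hstab c ((hsm c _).symm.trans hc)) ?_ ?_
  · rwa [card_orderSubgroups V hcard hexp] at h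
  · intro c hc
    by_contra hlt
    exact hc (hstab c (fixes_all_of_three V hVc hcard c (not_le.1 hlt) _))
  · rw [card_orderSubgroups V hcard hexp]
    exact (hp.out.odd_of_ne_two hp2).add_one
  · rw [card_orderSubgroups V hcard hexp]
    intro h
    have he : Nat.card E = p := by omega
    rw [he, Nat.coprime_self] at hcop
    exact hp.out.ne_one hcop

end CfsgLib.OddOrder
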