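import Cfsg.Agent.OddOrderChar.AbelianInertia
import Cfsg.Agent.OddOrderChar.TypePMu
import Cfsg.Agent.Coherence.Inner
import Cfsg.Agent.Characters.Linear
import Cfsg.Agent.Characters.FixedPoints
import Mathlib.GroupTheory.Abelianization.Finite

/-!
# Characters relative to a normal subgroup (towards Peterfalvi (12.4), (12.5))

Irreducible characters that are nontrivial on a normal subgroup `N`: where they vanish, their degrees,
and class functions whose coefficients at them depend only on the degree.
-/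

set_option autoImplicit false
set_option linter.style.haveILetI false
set_option linter.unusedSectionVars false

namespace CfsgLib.OddOrder

open Cfsg CfsgLib.Characters CfsgLib.OddOrderChar
open scoped ComplexConjugate

variable {L : Type*} [Group L] [Fintype L] (N : Subgroup L) [hN : N.Normal] [Fintype N]

/-- `ξ` is nontrivial on `N`. -/
def NontrivOn (ξ : L → ℂ) : Prop := ∃ n ∈ N, ξ n ≠ ξ 1

/-- All irreducible characters lying over a non-principal character of `N` have one degree. -/
def EqualDegOver : Prop :=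
  ∀ θ : N → ℂ, IsIrrCharacter N θ → θ ≠ (fun _ => 1) → ∃ d : ℂ, ∀ ξ : L → ℂ, IsIrrCharacter L ξ →
    classInner (fun n : N => ξ n) θ ≠ 0 → ξ 1 = d

/-- An irreducible character nontrivial on `N` vanishes at elements commuting with no non-identity
element of `N`. -/
theorem irr_eq_zero_of_centralizer_trivial {g : L} (hg : ∀ n ∈ N, g * n = n * g → n = 1)
    {ξ : L → ℂ} (hξ : IsIrrCharacter L ξ) (hne : NontrivOn N ξ) : ξ g = 0 := by
  classical
  letI : Fintype (L ⧸ N) := Fintype.ofFinite _
  let e : IrrCharacter (L ⧸ N) → IrrCharacter L := fun ψ =>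
    ⟨fun x => (ψ : L ⧸ N → ℂ) (QuotientGroup.mk' N x),
      isIrr_comp _ (QuotientGroup.mk'_surjective N) ψ.2⟩
  have he : Function.Injective e := fun a b h => Subtype.ext (funext fun q => by
    obtain ⟨x, rfl⟩ := QuotientGroup.mk'_surjective N q
    exact congrFun (congrArg Subtype.val h) x)
  have hnot : (⟨ξ, hξ⟩ : IrrCharacter L) ∉ Finset.univ.image e := by
    intro h
    obtain ⟨ψ, -, hψ⟩ := Finset.mem_image.mp h
    obtain ⟨n, hn, hne'⟩ := hne
    refine hne' ?_
    rw [show ξ = fun x => (ψ : L ⧸ N → ℂ) (QuotientGroup.mk' N x) from (congrArg Subtype.val hψ).symm]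
    exact congrArg (ψ : L ⧸ N → ℂ) (((QuotientGroup.eq_one_iff n).2 hn).trans (map_one _).symm)
  have hle : Nat.card (Subgroup.centralizer ({g} : Set L)) ≤
      Nat.card (Subgroup.centralizer ({QuotientGroup.mk' N g} : Set (L ⧸ N))) := by
    refine Nat.card_le_card_of_injective (fun c => ⟨QuotientGroup.mk' N c, ?_⟩) fun a b h => ?_
    · rw [Subgroup.mem_centralizer_singleton_iff, ← map_mul, ← map_mul,
        Subgroup.mem_centralizer_singleton_iff.mp c.2]
    · have hmem : (a : L)⁻¹ * b ∈ N := QuotientGroup.eq.mp (congrArg Subtype.val h)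
      have hc : ((a⁻¹ * b : Subgroup.centralizer ({g} : Set L)) : L) ∈
          Subgroup.centralizer ({g} : Set L) := SetLike.coe_mem _
      exact Subtype.ext (inv_mul_eq_one.mp
        (hg _ hmem (Subgroup.mem_centralizer_singleton_iff.mp hc).symm))
  have h1 := sum_irr_mul_conj_of_isConj (IsConj.refl g)
  have h2 := sum_irr_mul_conj_of_isConj (IsConj.refl (QuotientGroup.mk' N g))
  simp only [Complex.mul_conj, ← Complex.ofReal_sum] at h1 h2
  have h1' : ∑ χ : IrrCharacter L, Complex.normSq ((χ : L → ℂ) g) =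
      (Nat.card (Subgroup.centralizer ({g} : Set L)) : ℝ) := by exact_mod_cast h1
  have h2' : ∑ χ ∈ Finset.univ.image e, Complex.normSq ((χ : L → ℂ) g) =
      (Nat.card (Subgroup.centralizer ({QuotientGroup.mk' N g} : Set (L ⧸ N))) : ℝ) := by
    rw [Finset.sum_image fun a _ b _ h => he h]
    exact_mod_cast h2
  have h3 : ∑ χ ∈ insert (⟨ξ, hξ⟩ : IrrCharacter L) (Finset.univ.image e),
      Complex.normSq ((χ : L → ℂ) g) ≤ ∑ χ : IrrCharacter L, Complex.normSq ((χ : L → ℂ) g) :=
    Finset.sum_le_sum_of_subset_of_nonneg (Finset.subset_univ _)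
      fun i _ _ => Complex.normSq_nonneg _
  rw [Finset.sum_insert hnot, h1', h2'] at h3
  have hle' : (Nat.card (Subgroup.centralizer ({g} : Set L)) : ℝ) ≤
      Nat.card (Subgroup.centralizer ({QuotientGroup.mk' N g} : Set (L ⧸ N))) := by exact_mod_cast hle
  exact Complex.normSq_eq_zero.mp (le_antisymm (by linarith) (Complex.normSq_nonneg _))

/-- The inertia group. -/
def inertiaGroup (θ : N → ℂ) : Subgroup L where
  carrier := {g | conjBy N θ g = θ}
  one_mem' := conjBy_one N θ
  mul_mem' := fun {a b} (ha : conjBy N θ a = θ) (hb : conjBy N θ b = θ) => by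
    show conjBy N θ (a * b) = θ
    rw [← conjBy_mul, ha, hb]
  inv_mem' := fun {a} (ha : conjBy N θ a = θ) => by
    show conjBy N θ a⁻¹ = θ
    conv_lhs => rw [← ha, conjBy_mul, mul_inv_cancel, conjBy_one]

theorem mem_inertiaGroup {θ : N → ℂ} {g : L} : g ∈ inertiaGroup N θ ↔ conjBy N θ g = θ := Iff.rfl

/-- Abelian inertia quotients: one degree above each non-principal character. -/
theorem equalDegOver_of_abelian
    (hab : ∀ θ : N → ℂ, IsIrrCharacter N θ → θ ≠ (fun _ => 1) →
      ∀ x ∈ inertiaGroup N θ, ∀ y ∈ inertiaGroup N θ, x * y * x⁻¹ * y⁻¹ ∈ N) :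
    EqualDegOver N := by
  classical
  intro θ hθ hne
  obtain ⟨e, C, -, hC, -, hsum, hdeg, -⟩ :=
    induced_abelian_inertia N hθ (inertiaGroup N θ) (fun _ => Iff.rfl) (hab θ hθ hne)
  refine ⟨((inertiaGroup N θ).index : ℂ) * e * θ 1, fun ξ hξ h0 => ?_⟩
  by_contra h
  have hξC : ξ ∉ C := fun hm => h (hdeg ξ hm)
  refine h0 ?_
  have h1 : classInner (indFun N θ) ξ = 0 := by
    rw [hsum, classInner_smul_left, classInner_sum_left,
      Finset.sum_eq_zero (fun χ hχ => classInner_isIrr_ne (hC χ hχ) hξ fun h' => hξC (h' ▸ hχ)),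
      mul_zero]
  rw [classInner_indFun_left N θ (isClassFunction_of_isIrr hξ)] at h1
  rw [classInner_conj_symm, h1, map_zero]

/-- In odd order no non-principal character of `N` is conjugate to its complex conjugate. -/
theorem not_conjFun_mem_orbit (hodd : Odd (Nat.card L)) {θ : N → ℂ} (hθ : IsIrrCharacter N θ)
    (hne : θ ≠ fun _ => 1) (g : L) : conjBy N θ g ≠ conjFun θ := by
  intro h
  have h2 : g * g ∈ inertiaGroup N θ := by
    rw [mem_inertiaGroup, ← conjBy_mul, h]
    calc conjBy N (conjFun θ) g = conjFun (conjBy N θ g) := rfl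
      _ = θ := by rw [h]; exact Coherence.conjFun_conjFun θ
  obtain ⟨m, hm⟩ := exists_pow_eq_self_of_coprime
    (Nat.coprime_two_left.2 (hodd.of_dvd_nat (orderOf_dvd_natCard g)) : Nat.Coprime 2 (orderOf g))
  have hg : g ∈ inertiaGroup N θ := by
    rw [← hm, pow_two]
    exact pow_mem h2 m
  refine hne (eq_one_of_real_of_odd (hodd.of_dvd_nat N.card_subgroup_dvd_card) hθ fun n => ?_)
  exact Complex.conj_eq_iff_im.1 (congrFun (h.symm.trans hg) n)

/-- A character trivial on `N` is constant on cosets. -/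
theorem apply_mul_of_trivial {ξ : L → ℂ} (hξ : IsIrrCharacter L ξ) (h : ¬ NontrivOn N ξ) (g : L)
    {n : L} (hn : n ∈ N) : ξ (g * n) = ξ g := by
  obtain ⟨ψ, -, hψ⟩ := exists_irr_quotient N hξ fun a ha => not_not.mp fun h' => h ⟨a, ha, h'⟩
  rw [hψ, hψ]
  congr 1
  exact QuotientGroup.mk_mul_of_mem g hn

/-- Restriction of a character trivial on `N` meets no non-principal character. -/
theorem classInner_res_of_trivial {ξ : L → ℂ} (h : ¬ NontrivOn N ξ) {θ : N → ℂ}
    (hθ : IsIrrCharacter N θ) (hne : θ ≠ fun _ => 1) : classInner (fun n : N => ξ n) θ = 0 := by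
  have h1 : (fun n : N => ξ n) = ξ 1 • fun _ : N => (1 : ℂ) :=
    funext fun n => by simp [show ξ n = ξ 1 from not_not.mp fun h' => h ⟨n, n.2, h'⟩]
  rw [h1, classInner_smul_left, classInner_isIrr_ne isIrr_one hθ hne.symm, mul_zero]

/-- Restriction of a character nontrivial on `N` does not meet the principal character. -/
theorem classInner_res_one {ξ : L → ℂ} (hξ : IsIrrCharacter L ξ) (h : NontrivOn N ξ) :
    classInner (fun n : N => ξ n) (fun _ => 1) = 0 := by
  classical
  by_contra h0
  obtain ⟨n, hn, hne⟩ := h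
  refine hne ?_
  have hc := clifford_restrict_invariant N hξ isIrr_one (fun g => rfl) h0
  have h1 := congrFun hc ⟨n, hn⟩
  have h2 := congrFun hc 1
  simp only [Pi.smul_apply, smul_eq_mul] at h1 h2
  simpa using h1.trans h2.symm

/-- If the coefficients at the characters nontrivial on `N` depend only on the degree, the class
function is constant on the cosets of `N` outside `N`. -/
theorem coset_const_of_degree (hd : EqualDegOver N) {f : L → ℂ} (hf : IsClassFunction L f)
    (hdep : ∀ ξ η : L → ℂ, IsIrrCharacter L ξ → IsIrrCharacter L η → NontrivOn N ξ → NontrivOn N η →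
      ξ 1 = η 1 → classInner f ξ = classInner f η) {x n : L} (hx : x ∉ N) (hn : n ∈ N) :
    f (x * n) = f x := by
  classical
  let c : ℂ → ℂ := fun d =>
    if h : ∃ ξ : L → ℂ, IsIrrCharacter L ξ ∧ NontrivOn N ξ ∧ ξ 1 = d then classInner f h.choose else 0
  have hc : ∀ ξ, IsIrrCharacter L ξ → NontrivOn N ξ → c (ξ 1) = classInner f ξ := by
    intro ξ hξ hn'
    have h : ∃ η : L → ℂ, IsIrrCharacter L η ∧ NontrivOn N η ∧ η 1 = ξ 1 := ⟨ξ, hξ, hn', rfl⟩
    simp only [c, dif_pos h]
    exact hdep _ _ h.choose_spec.1 hξ h.choose_spec.2.1 hn' h.choose_spec.2.2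
  choose! d hdd using hd
  let w : IrrCharacter N → ℂ := fun θ =>
    if (θ : N → ℂ) = fun _ => 1 then 0 else c (d θ) * (θ : N → ℂ) 1 / d θ
  have hzero : ∀ g, g ∉ N →
      ∑ ξ : IrrCharacter L, (if NontrivOn N (ξ : L → ℂ) then classInner f (ξ : L → ℂ) else 0) *
        (ξ : L → ℂ) g = 0 := by
    intro g hg
    have h0 : ∑ θ : IrrCharacter N, w θ * indFun N (θ : N → ℂ) g = 0 :=
      Finset.sum_eq_zero fun θ _ => by rw [indFun_normal_eq_zero N _ hg, mul_zero]
    refine Eq.trans ?_ h0
    have hexp : ∀ θ : IrrCharacter N, indFun N (θ : N → ℂ) g =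
        ∑ ξ : IrrCharacter L, classInner (θ : N → ℂ) (fun n : N => (ξ : L → ℂ) n) * (ξ : L → ℂ) g := by
      intro θ
      conv_lhs => rw [classFunction_expansion (OddOrderChar.isClassFunction_ind N (θ : N → ℂ))]
      simp only [Finset.sum_apply, Pi.smul_apply, smul_eq_mul]
      refine Finset.sum_congr rfl fun ξ _ => ?_
      rw [classInner_indFun_left N _ (isClassFunction_of_isIrr ξ.2)]
    simp only [hexp, Finset.mul_sum]
    rw [Finset.sum_comm]
    refine Finset.sum_congr rfl fun ξ _ => ?_
    simp only [← mul_assoc]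
    rw [← Finset.sum_mul]
    congr 1
    split_ifs with hn'
    · obtain ⟨n₁, hn₁, hξd⟩ := exists_degree_pos ξ.2
      have hres := congrFun (classFunction_expansion (isClassFunction_of_isCharacter
        (isCharacter_restrict N (isCharacter_of_isIrr ξ.2)))) 1
      simp only [Finset.sum_apply, Pi.smul_apply, smul_eq_mul, OneMemClass.coe_one] at hres
      have hξ0 : (ξ : L → ℂ) 1 ≠ 0 := by rw [hξd]; exact_mod_cast hn₁.ne'
      have hres' : (ξ : L → ℂ) 1 = ∑ θ : IrrCharacter N,
          classInner (θ : N → ℂ) (fun n : N => (ξ : L → ℂ) n) * (θ : N → ℂ) 1 := by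
        conv_lhs => rw [hξd, ← Complex.conj_natCast, ← hξd, hres, map_sum]
        refine Finset.sum_congr rfl fun θ _ => ?_
        obtain ⟨m, -, hm⟩ := exists_degree_pos θ.2
        rw [map_mul, hm, Complex.conj_natCast, ← classInner_conj_symm]
      rw [← mul_right_inj' hξ0, Finset.mul_sum]
      conv_lhs => rw [mul_comm, hres', Finset.mul_sum]
      refine Finset.sum_congr rfl fun θ _ => ?_
      simp only [w]
      split_ifs with h1
      · have hz : classInner (fun _ : N => (1 : ℂ)) (fun n : N => (ξ : L → ℂ) n) = 0 := by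
          rw [classInner_conj_symm, classInner_res_one N ξ.2 hn', map_zero]
        rw [h1, hz]
        ring
      · by_cases hci : classInner (θ : N → ℂ) (fun n : N => (ξ : L → ℂ) n) = 0
        · rw [hci]; ring
        · have hdeg := hdd θ θ.2 h1 ξ ξ.2 (fun h => hci (by rw [classInner_conj_symm, h, map_zero]))
          rw [← hdeg, hc ξ ξ.2 hn']
          field_simp
    · symm
      refine Finset.sum_eq_zero fun θ _ => ?_
      simp only [w]
      split_ifs with h1
      · rw [zero_mul]
      · rw [classInner_conj_symm, classInner_res_of_trivial N hn' θ.2 h1, map_zero, mul_zero]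
  have hg : ∀ g, g ∉ N → f g = ∑ ξ : IrrCharacter L,
      (if NontrivOn N (ξ : L → ℂ) then 0 else classInner f (ξ : L → ℂ)) * (ξ : L → ℂ) g := by
    intro g hg
    conv_lhs => rw [classFunction_expansion hf]
    simp only [Finset.sum_apply, Pi.smul_apply, smul_eq_mul]
    rw [← sub_eq_zero, ← Finset.sum_sub_distrib]
    refine Eq.trans ?_ (hzero g hg)
    refine Finset.sum_congr rfl fun ξ _ => ?_
    split_ifs <;> ring
  have hxn : x * n ∉ N := fun h => hx (by simpa using N.mul_mem h (N.inv_mem hn))
  rw [hg x hx, hg _ hxn]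
  refine Finset.sum_congr rfl fun ξ _ => ?_
  split_ifs with h
  · rw [zero_mul, zero_mul]
  · rw [apply_mul_of_trivial N ξ.2 h x hn]

section Commutator

variable {K : Type*} [Group K] [Fintype K]

/-- If the coefficients at the non-principal characters depend only on the degree, the class function
is constant outside the derived group. -/
theorem const_off_commutator {f : K → ℂ} (hf : IsClassFunction K f)
    (hdep : ∀ φ φ' : K → ℂ, IsIrrCharacter K φ → IsIrrCharacter K φ' → φ ≠ (fun _ => 1) →
      φ' ≠ (fun _ => 1) → φ 1 = φ' 1 → classInner f φ = classInner f φ')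
    {a b : K} (ha : a ∉ commutator K) (hb : b ∉ commutator K) : f a = f b := by
  classical
  let c : ℂ → ℂ := fun d =>
    if h : ∃ φ : K → ℂ, IsIrrCharacter K φ ∧ φ ≠ (fun _ => 1) ∧ φ 1 = d then classInner f h.choose
    else 0
  have hc : ∀ φ, IsIrrCharacter K φ → φ ≠ (fun _ => 1) → c (φ 1) = classInner f φ := by
    intro φ hφ hne
    have h : ∃ η : K → ℂ, IsIrrCharacter K η ∧ η ≠ (fun _ => 1) ∧ η 1 = φ 1 := ⟨φ, hφ, hne, rfl⟩
    simp only [c, dif_pos h]
    exact hdep _ _ h.choose_spec.1 hφ h.choose_spec.2.1 hne h.choose_spec.2.2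
  have key : ∀ k : K, k ∉ commutator K → f k = classInner f (fun _ => 1) - c 1 := by
    intro k hk
    have hne : Abelianization.of k ≠ 1 := fun h => hk ((QuotientGroup.eq_one_iff k).1 h)
    have : NeZero (Monoid.exponent (Abelianization K)) := ⟨Monoid.exponent_ne_zero_of_finite⟩
    obtain ⟨l, hl⟩ := CommGroup.exists_apply_ne_one_of_hasEnoughRootsOfUnity (Abelianization K) ℂ hne
    let lam : K → ℂ := fun x => (l (Abelianization.of x) : ℂ)
    let e : IrrCharacter K → IrrCharacter K := fun φ =>
      ⟨fun x => lam x * (φ : K → ℂ) x, isIrr_linear_mul φ.2 (l.comp Abelianization.of)⟩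
    have hinj : Function.Injective e := fun p q h => Subtype.ext (funext fun x =>
      mul_left_cancel₀ (Units.ne_zero _) (congrFun (congrArg Subtype.val h) x))
    have hinv : lam k * ∑ φ : IrrCharacter K, c ((φ : K → ℂ) 1) * (φ : K → ℂ) k =
        ∑ φ : IrrCharacter K, c ((φ : K → ℂ) 1) * (φ : K → ℂ) k := by
      rw [Finset.mul_sum]
      refine Fintype.sum_bijective e (Finite.injective_iff_bijective.mp hinj) _ _ fun φ => ?_
      simp only [e, lam, map_one, Units.val_one, one_mul]
      ring
    have hsum : ∑ φ : IrrCharacter K, c ((φ : K → ℂ) 1) * (φ : K → ℂ) k = 0 := by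
      have hl1 : lam k - 1 ≠ 0 := sub_ne_zero.mpr fun h => hl (Units.ext h)
      refine (mul_eq_zero.mp ?_).resolve_left hl1
      rw [sub_mul, hinv, one_mul, sub_self]
    conv_lhs => rw [classFunction_expansion hf]
    simp only [Finset.sum_apply, Pi.smul_apply, smul_eq_mul]
    rw [← sub_zero (Finset.sum _ _), ← hsum, ← Finset.sum_sub_distrib,
      Finset.sum_eq_single (⟨fun _ => 1, isIrr_one⟩ : IrrCharacter K)]
    · simp
    · intro φ _ hφ
      rw [hc φ φ.2 fun h => hφ (Subtype.ext h), sub_self]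
    · exact fun h => absurd (Finset.mem_univ _) h
  rw [key a ha, key b hb]

end Commutator

end CfsgLib.OddOrder
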