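import Cfsg.Agent.OddOrder.PF12.Coherent

/-!
# Orthogonality to Dade images of differences (towards Peterfalvi (12.4), (12.5))

If a class function is orthogonal to the irreducible characters occurring in the Dade images of all
`ξ - conj ξ`, it is orthogonal to the Dade image of every difference of two sums of such characters
of equal degree, as soon as no two of the characters involved are conjugate.
-/

set_option autoImplicit false
set_option linter.style.haveILetI false
set_option linter.unusedSectionVars false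

namespace CfsgLib.OddOrder

open Cfsg CfsgLib.Characters CfsgLib.OddOrderChar CfsgLib.Coherence
open scoped ComplexConjugate

section Tight

variable {G : Type*} [Group G] [Fintype G]

/-- A virtual character whose inner product with the sum of an orthonormal virtual family is its norm
lies in the span of the family. -/
theorem ci_eq_zero_of_tight {ι : Type*} (s : Finset ι) (r : ι → G → ℂ)
    (hr : ∀ i ∈ s, IsGeneralizedCharacter G (r i)) [DecidableEq ι]
    (horth : ∀ i ∈ s, ∀ j ∈ s, classInner (r i) (r j) = if i = j then 1 else 0) {β : G → ℂ}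
    (hβ : IsGeneralizedCharacter G β) (htight : classInner β (∑ i ∈ s, r i) = classInner β β)
    {ψ : G → ℂ} (hψ : ∀ i ∈ s, classInner ψ (r i) = 0) : classInner ψ β = 0 := by
  choose! z hz using fun i (hi : i ∈ s) => ci_int hβ (hr i hi)
  set δ := β - ∑ i ∈ s, (z i : ℂ) • r i with hδ
  have hδr : ∀ j ∈ s, classInner δ (r j) = 0 := by
    intro j hj
    rw [hδ, ci_sub_left, ci_sum_left, Finset.sum_eq_single_of_mem j hj, ci_smul_left, horth j hj j hj,
      if_pos rfl, hz j hj, mul_one, sub_self]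
    intro i hi hne
    rw [ci_smul_left, horth i hi j hj, if_neg hne, mul_zero]
  have hnorm : classInner δ δ = ((∑ i ∈ s, (z i - z i ^ 2) : ℤ) : ℂ) := by
    have h1 : classInner δ δ = classInner δ β := by
      conv_lhs => arg 2; rw [hδ]
      rw [ci_sub_right, ci_sum_right, Finset.sum_eq_zero (s := s), sub_zero]
      intro i hi
      rw [ci_smul_right, hδr i hi, mul_zero]
    have h2 : ∀ i ∈ s, classInner (r i) β = (z i : ℂ) := fun i hi => by
      rw [← ci_conj, hz i hi, map_intCast]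
    rw [h1, hδ, ci_sub_left, ci_sum_left, ← htight, ci_sum_right]
    push_cast
    rw [← Finset.sum_sub_distrib]
    refine Finset.sum_congr rfl fun i hi => ?_
    rw [ci_smul_left, h2 i hi, hz i hi]
    ring
  have hle : (∑ i ∈ s, (z i - z i ^ 2) : ℤ) ≤ 0 :=
    Finset.sum_nonpos fun i _ => by nlinarith [Int.le_self_sq (z i)]
  have h0 : δ = 0 := sqNorm_eq_zero_iff.1 (le_antisymm (by
    rw [sqNorm, hnorm, Complex.intCast_re]; exact_mod_cast hle) (sqNorm_nonneg δ))
  rw [hδ, sub_eq_zero] at h0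
  rw [h0, ci_sum_right]
  exact Finset.sum_eq_zero fun i hi => by rw [ci_smul_right, hψ i hi, mul_zero]

end Tight

variable {G : Type*} [Group G] [Fintype G] {A : Set G} {L : Subgroup G} [Fintype L]
  {R : G → Subgroup G}

/-- Irreducible characters of `L` that vanish outside `A ∪ {1}` and are not real. -/
def IsDadeIrr (A : Set G) (L : Subgroup G) (ξ : ↥L → ℂ) : Prop :=
  IsIrrCharacter L ξ ∧ (∀ x : L, x ≠ 1 → (x : G) ∉ A → ξ x = 0) ∧ conjFun ξ ≠ ξ

/-- `ψ` is orthogonal to the characters occurring in the Dade images of all `ξ - conj ξ` with `P ξ`. -/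
def OrthDade (A : Set G) (L : Subgroup G) (R : G → Subgroup G) (P : (↥L → ℂ) → Prop)
    (ψ : G → ℂ) : Prop :=
  ∀ ξ, IsDadeIrr A L ξ → P ξ → ∀ μ : G → ℂ, IsIrrCharacter G μ →
    dadeIsometry A L R (ξ - conjFun ξ) = μ - conjFun μ →
      classInner ψ μ = 0 ∧ classInner ψ (conjFun μ) = 0

/-- Inner product of two differences `ξ - conj ξ`. -/
theorem ci_sub_conj {ξ η : ↥L → ℂ} (hξ : IsIrrCharacter L ξ) (hη : IsIrrCharacter L η)
    (h1 : η ≠ ξ) (h2 : η ≠ conjFun ξ) : classInner (ξ - conjFun ξ) (η - conjFun η) = 0 := by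
  have h3 : conjFun η ≠ ξ := fun e => h2 (by rw [← e, conjFun_conjFun])
  have h4 : conjFun η ≠ conjFun ξ := fun e => h1 (by simpa using congrArg conjFun e)
  rw [ci_sub_left, ci_sub_right, ci_sub_right, classInner_isIrr_ne hξ hη h1.symm,
    classInner_isIrr_ne hξ (Coherence.isIrr_conjFun hη) h3.symm,
    classInner_isIrr_ne (Coherence.isIrr_conjFun hξ) hη h2.symm,
    classInner_isIrr_ne (Coherence.isIrr_conjFun hξ) (Coherence.isIrr_conjFun hη) h4.symm]
  ring

/-- The images of unrelated pairs have no member in common. -/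
theorem dade_pair_disjoint (hD : DadeHypothesis A L R) {ξ η : ↥L → ℂ} (hξ : IsDadeIrr A L ξ)
    (hη : IsDadeIrr A L η) (h1 : η ≠ ξ) (h2 : η ≠ conjFun ξ) {μ ν : G → ℂ}
    (hμ : IsIrrCharacter G μ) (hν : IsIrrCharacter G ν)
    (eμ : dadeIsometry A L R (ξ - conjFun ξ) = μ - conjFun μ)
    (eν : dadeIsometry A L R (η - conjFun η) = ν - conjFun ν) :
    μ ≠ ν ∧ μ ≠ conjFun ν := by
  have hsupp : ∀ {ζ : ↥L → ℂ}, IsDadeIrr A L ζ → ∀ x : L, (x : G) ∉ A → (ζ - conjFun ζ) x = 0 := by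
    intro ζ hζ x hx
    by_cases hx1 : x = 1
    · obtain ⟨d, -, hd⟩ := exists_degree_pos hζ.1
      simp [hx1, conjFun, hd]
    · simp [conjFun, hζ.2.1 x hx1 hx]
  have hcl : ∀ {ζ : ↥L → ℂ}, IsDadeIrr A L ζ → IsClassFunction L (ζ - conjFun ζ) := fun hζ =>
    Coherence.isClassFunction_of_isGen (Coherence.isGen_sub (Coherence.isGen_of_isIrr hζ.1)
      (Coherence.isGen_of_isIrr (Coherence.isIrr_conjFun hζ.1)))
  have h0 := classInner_dade hD (hcl hξ) (hsupp hξ) (hcl hη) (hsupp hη)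
  rw [eμ, eν, ci_sub_conj hξ.1 hη.1 h1 h2] at h0
  have hμr : conjFun μ ≠ μ := by
    intro e
    have h := classInner_dade hD (hcl hξ) (hsupp hξ) (hcl hξ) (hsupp hξ)
    rw [eμ, e, sub_self, classInner_zero_left, ci_sub_left, ci_sub_right, ci_sub_right,
      classInner_isIrr_self hξ.1, classInner_isIrr_self (Coherence.isIrr_conjFun hξ.1),
      classInner_isIrr_ne hξ.1 (Coherence.isIrr_conjFun hξ.1) hξ.2.2.symm,
      classInner_isIrr_ne (Coherence.isIrr_conjFun hξ.1) hξ.1 hξ.2.2] at h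
    norm_num at h
  refine ⟨fun e => ?_, fun e => ?_⟩ <;> subst e
  · rw [ci_sub_left, ci_sub_right, ci_sub_right, classInner_isIrr_self hμ,
      classInner_isIrr_self (Coherence.isIrr_conjFun hμ),
      classInner_isIrr_ne hμ (Coherence.isIrr_conjFun hμ) hμr.symm,
      classInner_isIrr_ne (Coherence.isIrr_conjFun hμ) hμ hμr] at h0
    norm_num at h0
  · rw [conjFun_conjFun] at hμr h0
    rw [ci_sub_left, ci_sub_right, ci_sub_right, classInner_isIrr_self hν,
      classInner_isIrr_self (Coherence.isIrr_conjFun hν),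
      classInner_isIrr_ne hν (Coherence.isIrr_conjFun hν) hμr,
      classInner_isIrr_ne (Coherence.isIrr_conjFun hν) hν hμr.symm] at h0
    norm_num at h0

/-- The Dade image of a difference of two sums of unrelated characters with equal total degree is
orthogonal to whatever is orthogonal to all pairs. -/
theorem orth_dade_diff (hD : DadeHypothesis A L R) {P : (↥L → ℂ) → Prop} {ψ : G → ℂ}
    (hψ : OrthDade A L R P ψ)
    {X Y : Finset (↥L → ℂ)} (hX : ∀ ξ ∈ X, IsDadeIrr A L ξ) (hY : ∀ ξ ∈ Y, IsDadeIrr A L ξ)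
    (hPX : ∀ ξ ∈ X, P ξ) (hPY : ∀ ξ ∈ Y, P ξ)
    (hXX : ∀ ξ ∈ X, conjFun ξ ∉ X) (hYY : ∀ ξ ∈ Y, conjFun ξ ∉ Y) (hXY : ∀ ξ ∈ X, ξ ∉ Y)
    (hXY' : ∀ ξ ∈ X, conjFun ξ ∉ Y) (hdeg : ∑ ξ ∈ X, ξ 1 = ∑ ξ ∈ Y, ξ 1) :
    classInner ψ (dadeIsometry A L R (∑ ξ ∈ X, ξ - ∑ ξ ∈ Y, ξ)) = 0 := by
  classical
  set Z := X ∪ Y with hZdef
  let σ : (↥L → ℂ) → ℂ := fun ξ => if ξ ∈ X then 1 else -1
  set α : ↥L → ℂ := ∑ ξ ∈ Z, σ ξ • ξ with hαdef
  have hdisj : Disjoint X Y := Finset.disjoint_left.2 hXY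
  have hσ : ∀ ξ, σ ξ = 1 ∨ σ ξ = -1 := fun ξ => by simp only [σ]; split_ifs <;> simp
  have hσσ : ∀ ξ, σ ξ * σ ξ = 1 := fun ξ => by rcases hσ ξ with h | h <;> rw [h] <;> ring
  have hσconj : ∀ ξ, conj (σ ξ) = σ ξ := fun ξ => by rcases hσ ξ with h | h <;> simp [h]
  have hα : ∑ ξ ∈ X, ξ - ∑ ξ ∈ Y, ξ = α := by
    rw [hαdef, hZdef, Finset.sum_union hdisj, sub_eq_add_neg, ← Finset.sum_neg_distrib]
    congr 1
    · exact Finset.sum_congr rfl fun ξ hξ => by simp [σ, hξ]
    · exact Finset.sum_congr rfl fun ξ hξ => by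
        have hn : ξ ∉ X := fun h => hXY ξ h hξ
        simp [σ, hn]
  rw [hα]
  have hZ : ∀ ξ ∈ Z, IsDadeIrr A L ξ := fun ξ hξ => (Finset.mem_union.1 hξ).elim (hX ξ) (hY ξ)
  have hZZ : ∀ ξ ∈ Z, conjFun ξ ∉ Z := by
    intro ξ hξ hc
    rcases Finset.mem_union.1 hξ with h | h <;> rcases Finset.mem_union.1 hc with h' | h'
    · exact hXX ξ h h'
    · exact hXY' ξ h h'
    · exact hXY' _ h' (by rwa [conjFun_conjFun])
    · exact hYY ξ h h'
  have hαA : ∀ x : L, (x : G) ∉ A → α x = 0 := by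
    intro x hx
    by_cases hx1 : x = 1
    · rw [hx1, ← hα]
      simp [hdeg]
    · rw [hαdef, Finset.sum_apply]
      exact Finset.sum_eq_zero fun ξ hξ => by simp [(hZ ξ hξ).2.1 x hx1 hx]
  have hαgen : IsGeneralizedCharacter L α := by
    refine Coherence.isGen_sum _ _ fun ξ hξ => ?_
    rcases hσ ξ with h | h <;> rw [h]
    · rw [one_smul]; exact Coherence.isGen_of_isIrr (hZ ξ hξ).1
    · rw [neg_one_smul]; exact Coherence.isGen_neg (Coherence.isGen_of_isIrr (hZ ξ hξ).1)
  choose! μ hμ eμ using fun ξ (h : ξ ∈ Z) => dade_sub_conj hD (hZ ξ h).1 (hZ ξ h).2.1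
  let r : Bool × (↥L → ℂ) → G → ℂ := fun i =>
    σ i.2 • (if i.1 then μ i.2 else -conjFun (μ i.2))
  have hμr : ∀ ξ ∈ Z, conjFun (μ ξ) ≠ μ ξ := by
    intro ξ hξ e
    have hd : IsClassFunction L (ξ - conjFun ξ) := Coherence.isClassFunction_of_isGen
      (Coherence.isGen_sub (Coherence.isGen_of_isIrr (hZ ξ hξ).1)
        (Coherence.isGen_of_isIrr (Coherence.isIrr_conjFun (hZ ξ hξ).1)))
    have hs : ∀ x : L, (x : G) ∉ A → (ξ - conjFun ξ) x = 0 := fun x hx => by
      by_cases hx1 : x = 1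
      · obtain ⟨d, -, hd'⟩ := exists_degree_pos (hZ ξ hξ).1
        simp [hx1, conjFun, hd']
      · simp [conjFun, (hZ ξ hξ).2.1 x hx1 hx]
    have h := classInner_dade hD hd hs hd hs
    rw [eμ ξ hξ, e, sub_self, classInner_zero_left, ci_sub_left, ci_sub_right, ci_sub_right,
      classInner_isIrr_self (hZ ξ hξ).1, classInner_isIrr_self (Coherence.isIrr_conjFun (hZ ξ hξ).1),
      classInner_isIrr_ne (hZ ξ hξ).1 (Coherence.isIrr_conjFun (hZ ξ hξ).1) (hZ ξ hξ).2.2.symm,
      classInner_isIrr_ne (Coherence.isIrr_conjFun (hZ ξ hξ).1) (hZ ξ hξ).1 (hZ ξ hξ).2.2] at h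
    norm_num at h
  have hsum : ∑ i ∈ Finset.univ ×ˢ Z, r i = dadeIsometry A L R (∑ ξ ∈ Z, σ ξ • (ξ - conjFun ξ)) := by
    rw [Finset.sum_product, Fintype.sum_bool, ← Finset.sum_add_distrib]
    funext g
    by_cases h : ∃ a : ↥L, (a : G) ∈ A ∧ ∃ x : G, ∃ u ∈ R (a : G), x * g * x⁻¹ = (a : G) * u
    · simp only [dadeIsometry, dif_pos h, Finset.sum_apply]
      refine Finset.sum_congr rfl fun ξ hξ => ?_
      have := congrFun (eμ ξ hξ) g
      simp only [dadeIsometry, dif_pos h] at this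
      simp only [r, Pi.smul_apply, Pi.add_apply, smul_eq_mul, this, if_true, Bool.false_eq_true,
        if_false, Pi.sub_apply, Pi.neg_apply]
      ring
    · rw [dade_apply_eq_zero _ h, Finset.sum_apply]
      refine Finset.sum_eq_zero fun ξ hξ => ?_
      have := congrFun (eμ ξ hξ) g
      rw [dade_apply_eq_zero _ h, Pi.sub_apply] at this
      simp only [r, Pi.smul_apply, Pi.add_apply, smul_eq_mul, if_true, Bool.false_eq_true,
        if_false, Pi.neg_apply]
      linear_combination (-σ ξ) * this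
  refine ci_eq_zero_of_tight (Finset.univ ×ˢ Z) r ?_ ?_ (isGen_dade hD hαgen hαA) ?_ ?_
  · rintro ⟨b, ξ⟩ hi
    have hm : IsGeneralizedCharacter G (if b then μ ξ else -conjFun (μ ξ)) := by
      cases b
      · exact Coherence.isGen_neg (Coherence.isGen_of_isIrr
          (Coherence.isIrr_conjFun (hμ ξ (Finset.mem_product.1 hi).2)))
      · exact Coherence.isGen_of_isIrr (hμ ξ (Finset.mem_product.1 hi).2)
    show IsGeneralizedCharacter G (σ ξ • _)
    rcases hσ ξ with h | h <;> rw [h]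
    · rwa [one_smul]
    · rw [neg_one_smul]; exact Coherence.isGen_neg hm
  · rintro ⟨b, ξ⟩ hi ⟨c, η⟩ hj
    have hξ := (Finset.mem_product.1 hi).2
    have hη := (Finset.mem_product.1 hj).2
    show classInner (σ ξ • _) (σ η • _) = _
    rw [ci_smul_left, ci_smul_right, hσconj, ← mul_assoc]
    by_cases he : ξ = η
    · subst he
      rw [hσσ, one_mul]
      cases b <;> cases c <;>
        simp [ci_neg_left, ci_neg_right, classInner_isIrr_self (hμ ξ hξ),
          classInner_isIrr_self (Coherence.isIrr_conjFun (hμ ξ hξ)),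
          classInner_isIrr_ne (Coherence.isIrr_conjFun (hμ ξ hξ)) (hμ ξ hξ) (hμr ξ hξ),
          classInner_isIrr_ne (hμ ξ hξ) (Coherence.isIrr_conjFun (hμ ξ hξ)) (hμr ξ hξ).symm]
    · have hne := dade_pair_disjoint hD (hZ ξ hξ) (hZ η hη) (Ne.symm he)
        (fun e => hZZ ξ hξ (e ▸ hη)) (hμ ξ hξ) (hμ η hη) (eμ ξ hξ) (eμ η hη)
      have h3 : conjFun (μ ξ) ≠ μ η := fun e => hne.2 (by rw [← e, conjFun_conjFun])
      have h4 : conjFun (μ ξ) ≠ conjFun (μ η) := fun e => hne.1 (by simpa using congrArg conjFun e)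
      rw [if_neg (fun e => he (congrArg Prod.snd e))]
      cases b <;> cases c <;>
        simp [ci_neg_left, ci_neg_right, classInner_isIrr_ne (hμ ξ hξ) (hμ η hη) hne.1,
          classInner_isIrr_ne (hμ ξ hξ) (Coherence.isIrr_conjFun (hμ η hη)) hne.2,
          classInner_isIrr_ne (Coherence.isIrr_conjFun (hμ ξ hξ)) (hμ η hη) h3,
          classInner_isIrr_ne (Coherence.isIrr_conjFun (hμ ξ hξ)) (Coherence.isIrr_conjFun (hμ η hη)) h4]
  · have hdgen : IsGeneralizedCharacter L (∑ ξ ∈ Z, σ ξ • (ξ - conjFun ξ)) := by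
      refine Coherence.isGen_sum _ _ fun ξ hξ => ?_
      have := Coherence.isGen_sub (Coherence.isGen_of_isIrr (hZ ξ hξ).1)
        (Coherence.isGen_of_isIrr (Coherence.isIrr_conjFun (hZ ξ hξ).1))
      rcases hσ ξ with h | h <;> rw [h]
      · rwa [one_smul]
      · rw [neg_one_smul]; exact Coherence.isGen_neg this
    rw [hsum, classInner_dade hD (Coherence.isClassFunction_of_isGen hαgen) hαA
      (Coherence.isClassFunction_of_isGen hdgen) ?_, classInner_dade hD
      (Coherence.isClassFunction_of_isGen hαgen) hαA (Coherence.isClassFunction_of_isGen hαgen) hαA]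
    · rw [hαdef, ci_sum_right, ci_sum_right]
      refine Finset.sum_congr rfl fun η hη => ?_
      rw [smul_sub, ci_sub_right, ci_smul_right, ci_smul_right, ci_sum_left, ci_sum_left,
        Finset.sum_eq_zero (f := fun ξ => classInner (σ ξ • ξ) (conjFun η)), mul_zero, sub_zero]
      intro ξ hξ
      rw [ci_smul_left, classInner_isIrr_ne (hZ ξ hξ).1 (Coherence.isIrr_conjFun (hZ η hη).1)
        (fun e => hZZ η hη (e ▸ hξ)), mul_zero]
    · intro x hx
      by_cases hx1 : x = 1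
      · rw [hx1, Finset.sum_apply]
        refine Finset.sum_eq_zero fun ξ hξ => ?_
        obtain ⟨d, -, hd'⟩ := exists_degree_pos (hZ ξ hξ).1
        simp [conjFun, hd']
      · rw [Finset.sum_apply]
        exact Finset.sum_eq_zero fun ξ hξ => by simp [conjFun, (hZ ξ hξ).2.1 x hx1 hx]
  · rintro ⟨b, ξ⟩ hi
    have hξ := (Finset.mem_product.1 hi).2
    obtain ⟨h1, h2⟩ := hψ ξ (hZ ξ hξ) ((Finset.mem_union.1 hξ).elim (hPX ξ) (hPY ξ)) (μ ξ) (hμ ξ hξ)
      (eμ ξ hξ)
    show classInner ψ (σ ξ • _) = 0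
    rw [ci_smul_right]
    cases b <;> simp [ci_neg_right, h1, h2]

end CfsgLib.OddOrder
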