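import Cfsg.Agent.OddOrder.BG3.Wielandt
import Cfsg.Agent.Coprime.Generation
import Mathlib.GroupTheory.SpecificGroups.Cyclic

/-!
# A Frobenius group with a plane as kernel acting on an elementary abelian group

The configuration excluded in the proof of Peterfalvi (12.8): `W` of prime order `q` acts without
fixed points on a plane `Ω` of order `p ^ 2`, and `ΩW` acts on an elementary abelian group of order
`r ^ q` in which `W` fixes only `r` elements, with `Ω` faithful and `r < p`.
-/

set_option autoImplicit false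
set_option linter.style.haveILetI false

namespace CfsgLib.OddOrder

open Cfsg
open Subgroup (centralizer normalizer)

variable {G : Type*} [Group G]

/-- Commuting elements of order prime to the order of an abelian group whose fixed subgroups meet
trivially pairwise have independent fixed subgroups. -/
theorem pow_card_le_of_fixed_disjoint [Finite G] {H : Subgroup G} (hH : IsMulCommutative H) {p : ℕ}
    (hp : (Nat.card H).Coprime p) {ι : Type*} [Fintype ι] (a : ι → G)
    (hn : ∀ i, a i ∈ normalizer (H : Set G)) (hc : ∀ i j, Commute (a i) (a j))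
    (hpow : ∀ i, a i ^ p = 1)
    (hdisj : ∀ i j, i ≠ j → ∀ h ∈ H, a i * h = h * a i → a j * h = h * a j → h = 1) {c : ℕ}
    (hcard : ∀ i, Nat.card (H ⊓ centralizer {a i} : Subgroup G) = c) :
    c ^ Fintype.card ι ≤ Nat.card H := by
  classical
  letI : CommGroup H := { (inferInstance : Group H) with mul_comm := fun x y => hH.is_comm.comm x y }
  have hmem : ∀ i (k : ℕ) (h : H), a i ^ k * (h : G) * (a i ^ k)⁻¹ ∈ H := fun i k h =>
    (Subgroup.mem_normalizer_iff.1 ((normalizer (H : Set G)).pow_mem (hn i) k) _).1 h.2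
  let act : ι → ℕ → H →* H := fun i k =>
    { toFun := fun h => ⟨_, hmem i k h⟩
      map_one' := Subtype.ext (by simp)
      map_mul' := fun x y => Subtype.ext (by push_cast; group) }
  let N : ι → H →* H := fun i => ∏ k ∈ Finset.range p, act i k
  have hN : ∀ i h, N i h = ∏ k ∈ Finset.range p, act i k h := fun i h =>
    MonoidHom.finset_prod_apply _ _ _
  have act1 : ∀ i (h : H) (k : ℕ), act i 1 (act i k h) = act i (k + 1) h := fun i h k =>
    Subtype.ext (show a i ^ 1 * (a i ^ k * (h : G) * (a i ^ k)⁻¹) * (a i ^ 1)⁻¹ = _ by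
      show _ = a i ^ (k + 1) * (h : G) * (a i ^ (k + 1))⁻¹
      rw [add_comm, pow_add]
      group)
  have act_fix : ∀ i (h : H), a i * h = h * a i ↔ act i 1 h = h := fun i h => by
    rw [Subtype.ext_iff]
    show _ ↔ a i ^ 1 * (h : G) * (a i ^ 1)⁻¹ = h
    rw [pow_one, mul_inv_eq_iff_eq_mul]
  -- the norm lands in the fixed subgroup
  have hfix : ∀ i h, a i * (N i h : H) = (N i h : H) * a i := fun i h => by
    rw [act_fix, hN, map_prod, Finset.prod_congr rfl fun k _ => act1 i h k]
    have h0 : act i p h = act i 0 h :=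
      Subtype.ext (show a i ^ p * (h : G) * (a i ^ p)⁻¹ = a i ^ 0 * (h : G) * (a i ^ 0)⁻¹ by
        rw [hpow, pow_zero])
    refine mul_right_cancel (b := act i 0 h) ?_
    rw [← Finset.prod_range_succ' (fun k => act i k h), Finset.prod_range_succ, h0]
  -- and preserves the fixed subgroup of any other of the elements
  have hpres : ∀ i j (h : H), a j * (h : G) = (h : G) * a j →
      a j * (N i h : H) = (N i h : H) * a j := fun i j h hh => by
    rw [act_fix, hN, map_prod]
    refine Finset.prod_congr rfl fun k _ => ?_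
    refine Subtype.ext (show a j ^ 1 * (a i ^ k * (h : G) * (a i ^ k)⁻¹) * (a j ^ 1)⁻¹ =
      a i ^ k * (h : G) * (a i ^ k)⁻¹ from ?_)
    have hcm : Commute (a j) (a i ^ k) := (hc j i).pow_right k
    rw [pow_one, mul_inv_eq_iff_eq_mul]
    exact ((hcm.mul_right hh).mul_right hcm.inv_right).eq
  let C : ι → Subgroup H := fun i => (centralizer {a i}).subgroupOf H
  have hC : ∀ i (h : H), h ∈ C i ↔ a i * h = h * a i := fun i h => by
    rw [Subgroup.mem_subgroupOf, Subgroup.mem_centralizer_singleton_iff, eq_comm]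
  let Ψ : (∀ i, C i) →* H := ∏ i, (C i).subtype.comp (Pi.evalMonoidHom _ i)
  have hΨ : ∀ f, Ψ f = ∏ i, ((f i : C i) : H) := fun f => MonoidHom.finset_prod_apply _ _ _
  have hinj : Function.Injective Ψ := by
    rw [← MonoidHom.ker_eq_bot_iff, Subgroup.eq_bot_iff_forall]
    intro f hf
    rw [MonoidHom.mem_ker, hΨ] at hf
    funext i
    refine Subtype.ext ?_
    have h1 : N i (f i) = 1 := by
      have h2 := congrArg (N i) hf
      rw [map_one, map_prod, Finset.prod_eq_single i] at h2
      · exact h2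
      · intro j _ hj
        exact Subtype.ext (hdisj i j (Ne.symm hj) _ (N i (f j)).2 (hfix i _)
          (hpres i j _ ((hC j _).1 (f j).2)))
      · exact fun h => absurd (Finset.mem_univ i) h
    have h2 : ∀ k, act i k (f i : H) = f i := fun k => Subtype.ext
      (show a i ^ k * ((f i : H) : G) * (a i ^ k)⁻¹ = _ by
        rw [mul_inv_eq_iff_eq_mul]
        exact ((show Commute (a i) ((f i : H) : G) from (hC i _).1 (f i).2).pow_left k).eq)
    rw [hN, Finset.prod_congr rfl fun k _ => h2 k, Finset.prod_const, Finset.card_range] at h1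
    exact orderOf_eq_one_iff.1 (Nat.eq_one_of_dvd_coprimes hp (orderOf_dvd_natCard _)
      (orderOf_dvd_of_pow_eq_one h1))
  have hcC : ∀ i, Nat.card (C i) = c := fun i => by
    rw [← hcard i, inf_comm, ← Subgroup.subgroupOfEquivOfLe (inf_le_right (a := centralizer {a i}) (b := H)) |>.toEquiv |> Nat.card_congr]
    rw [show C i = (centralizer {a i} ⊓ H).subgroupOf H from (Subgroup.inf_subgroupOf_right _ _).symm]
  have h := Nat.card_le_card_of_injective _ hinj
  rwa [Nat.card_pi, Finset.prod_congr rfl fun i _ => hcC i, Finset.prod_const, Finset.card_univ] at h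

/-- The configuration of `Ω W` on `H` is impossible. -/
theorem plane_frobenius_false [Finite G] {p q r : ℕ} (hp : p.Prime) (hq : q.Prime) (hr : r.Prime)
    (hrp : r < p) {H Ω W : Subgroup G} (hH : IsElementaryAbelian r H) (hHcard : Nat.card H = r ^ q)
    (hΩ : IsElementaryAbelian p Ω) (hΩcard : Nat.card Ω = p ^ 2) (hW : Nat.card W = q)
    (hWΩ : W ≤ normalizer (Ω : Set G)) (hΩH : Ω ≤ normalizer (H : Set G))
    (hWH : W ≤ normalizer (H : Set G)) (hΩW : Ω ⊓ W = ⊥) (hpq : p ≠ q) (hrq : r ≠ q)
    (hfpf : ∀ e ∈ W, e ≠ 1 → ∀ u ∈ Ω, e * u = u * e → u = 1)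
    (hCW : Nat.card (H ⊓ centralizer (W : Set G) : Subgroup G) = r)
    (hfaith : Ω ⊓ centralizer (H : Set G) = ⊥) : False := by
  classical
  haveI := Fact.mk hp
  haveI := Fact.mk hr
  haveI := hH.1
  haveI := hΩ.1
  have hrp' : r ≠ p := hrp.ne
  -- the fixed points of a `W`-invariant subgroup of `Ω`
  have key : ∀ V : Subgroup G, V ≤ Ω → W ≤ normalizer (V : Set G) → V ≠ ⊥ →
      H ⊓ centralizer (V : Set G) = ⊥ := by
    intro V hV hWV hV1
    have hd : V ⊓ W = ⊥ := le_bot_iff.1 ((inf_le_inf_right W hV).trans hΩW.le)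
    have hsolv : Group.IsSolvable H := Group.isSolvable_of_comm fun a b => hH.1.is_comm.comm a b
    have hcop : (Nat.card ↥(V ⊔ W)).Coprime (Nat.card H) := by
      rw [Coprime.card_sup_eq hWV hd, hHcard]
      refine Nat.Coprime.pow_right q (Nat.Coprime.mul_left ?_ ?_)
      · exact ((Nat.coprime_primes hp hr).2 hrp'.symm).pow_left 2 |>.coprime_dvd_left
          (hΩcard ▸ Subgroup.card_dvd_of_le hV)
      · exact hW ▸ (Nat.coprime_primes hq hr).2 hrq.symm
    have h := frobenius_fixed_point_formula hd hWV (fun e he he1 u hu => hfpf e he he1 u (hV hu))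
      (sup_le (hV.trans hΩH) hWH) hsolv hcop
    rw [hW, hCW, hHcard] at h
    have hle : H ⊓ centralizer ((V ⊔ W : Subgroup G) : Set G) ≤ H ⊓ centralizer (W : Set G) :=
      inf_le_inf_left _ (Subgroup.centralizer_le (SetLike.coe_subset_coe.2 le_sup_right))
    have hpos : 0 < r ^ q := pow_pos hr.pos q
    rcases (Nat.dvd_prime hr).1 (hCW ▸ Subgroup.card_dvd_of_le hle) with hc | hc <;> rw [hc] at h
    · rw [one_pow, one_mul] at h
      exact Subgroup.eq_bot_of_card_eq _ (Nat.eq_of_mul_eq_mul_left hpos ((h.symm).trans (mul_one _).symm))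
    · exfalso
      have h2 : H ⊓ centralizer (V : Set G) = H := Subgroup.eq_of_le_of_card_ge inf_le_left
        (hHcard.le.trans (Nat.eq_of_mul_eq_mul_left hpos h).le)
      refine hV1 (le_bot_iff.1 ((le_inf hV ?_).trans hfaith.le))
      rw [Subgroup.le_centralizer_iff]
      exact h2 ▸ inf_le_right
  have hΩC : H ⊓ centralizer (Ω : Set G) = ⊥ := key Ω le_rfl hWΩ fun h => by
    rw [h, Subgroup.card_bot] at hΩcard
    exact absurd hΩcard.symm (Nat.one_lt_pow two_ne_zero hp.one_lt).ne'
  -- an element of `Ω` with fixed points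
  have hncyc : ¬ IsCyclic Ω := fun hcyc => by
    have h1 := hcyc.exponent_eq_card
    have h2 : Monoid.exponent Ω ∣ p :=
      Monoid.exponent_dvd_of_forall_pow_eq_one fun u => Subtype.ext (by simpa using hΩ.2 u u.2)
    rw [h1, hΩcard] at h2
    have := Nat.le_of_dvd hp.pos h2
    nlinarith [hp.two_le]
  obtain ⟨a, ha, ha1, haC⟩ : ∃ a ∈ Ω, a ≠ 1 ∧ H ⊓ centralizer ({a} : Set G) ≠ ⊥ := by
    by_contra! hno
    have hle := Coprime.le_of_forall_inf_centralizer_le (A := Ω) hncyc hΩH
      (by rw [hΩcard, hHcard]; exact (((Nat.coprime_primes hp hr).2 hrp'.symm).pow_left 2).pow_right q)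
      (W := ⊥) fun a ha ha1 => (hno a ha ha1).le
    rw [le_bot_iff.1 hle, Subgroup.card_bot] at hHcard
    exact absurd hHcard.symm (Nat.one_lt_pow hq.ne_zero hr.one_lt).ne'
  set C := H ⊓ centralizer ({a} : Set G) with hCdef
  have hzc : ∀ z : G, centralizer ((Subgroup.zpowers z : Subgroup G) : Set G) = centralizer {z} :=
    fun z => by rw [Subgroup.zpowers_eq_closure, Subgroup.centralizer_closure]
  have hzcard : Nat.card (Subgroup.zpowers a) = p :=
    (Nat.card_zpowers a).trans (orderOf_eq_prime (hΩ.2 a ha) ha1)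
  -- the conjugates of the line through `a` are distinct
  have hnot : ∀ e ∈ W, e * a * e⁻¹ ∈ Subgroup.zpowers a → e = 1 := by
    intro e he hea
    by_contra he1
    have hgen : Subgroup.zpowers e = W := Subgroup.eq_of_le_of_card_ge (Subgroup.zpowers_le.2 he) (by
      rw [hW, Nat.card_zpowers]
      exact ((Nat.dvd_prime hq).1 (hW ▸ Subgroup.orderOf_dvd_natCard W he)).resolve_left
        (fun h => he1 (orderOf_eq_one_iff.1 h)) |>.ge)
    have hmem : e ∈ normalizer ((Subgroup.zpowers a : Subgroup G) : Set G) := by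
      rw [Subgroup.mem_normalizer_iff_map_conj_eq]
      refine Subgroup.eq_of_le_of_card_ge ?_ (le_of_eq ?_)
      · rw [MonoidHom.map_zpowers, Subgroup.zpowers_le]
        exact hea
      · exact Nat.card_congr (Subgroup.equivMapOfInjective _ _ (MulAut.conj e).injective).toEquiv
    have hWz : W ≤ normalizer ((Subgroup.zpowers a : Subgroup G) : Set G) :=
      hgen ▸ Subgroup.zpowers_le.2 hmem
    have h := key _ (Subgroup.zpowers_le.2 ha) hWz (fun h => ha1 (Subgroup.zpowers_eq_bot.1 h))
    rw [hzc] at h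
    exact haC h
  have hnW : ∀ w : W, (w : G) * a * (w : G)⁻¹ ∈ Ω := fun w =>
    (Subgroup.mem_normalizer_iff.1 (hWΩ w.2) a).1 ha
  have hcard : ∀ w : W,
      Nat.card (H ⊓ centralizer ({(w : G) * a * (w : G)⁻¹} : Set G) : Subgroup G) = Nat.card C := by
    intro w
    have h1 : C.map (MulAut.conj (w : G)).toMonoidHom =
        H ⊓ centralizer ({(w : G) * a * (w : G)⁻¹} : Set G) := by
      rw [hCdef, Subgroup.map_inf _ _ _ (MulAut.conj (w : G)).injective]
      refine congrArg₂ (· ⊓ ·) (Subgroup.mem_normalizer_iff_map_conj_eq.1 (hWH w.2)) ?_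
      ext z
      rw [Subgroup.mem_map_equiv, MulAut.conj_symm_apply, Subgroup.mem_centralizer_singleton_iff,
        Subgroup.mem_centralizer_singleton_iff]
      constructor <;> intro h
      · calc z * ((w : G) * a * (w : G)⁻¹) = w * ((w : G)⁻¹ * z * w * a) * (w : G)⁻¹ := by group
          _ = w * (a * ((w : G)⁻¹ * z * w)) * (w : G)⁻¹ := by rw [h]
          _ = _ := by group
      · calc (w : G)⁻¹ * z * w * a = (w : G)⁻¹ * (z * ((w : G) * a * (w : G)⁻¹)) * w := by group
          _ = (w : G)⁻¹ * ((w : G) * a * (w : G)⁻¹ * z) * w := by rw [h]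
          _ = _ := by group
    rw [← h1, Subgroup.card_map_of_injective (MulAut.conj (w : G)).injective]
  have hind : (Nat.card C) ^ q ≤ r ^ q := by
    letI := Fintype.ofFinite W
    have h := pow_card_le_of_fixed_disjoint hH.1 (p := p)
      (by rw [hHcard]; exact ((Nat.coprime_primes hr hp).2 hrp').pow_left q)
      (fun w : W => (w : G) * a * (w : G)⁻¹) (fun w => hΩH (hnW w))
      (fun v w => congrArg Subtype.val (hΩ.1.is_comm.comm ⟨_, hnW v⟩ ⟨_, hnW w⟩))
      (fun w => hΩ.2 _ (hnW w)) ?_ hcard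
    · rwa [← Nat.card_eq_fintype_card, hW, hHcard] at h
    intro v w hvw h hh hv hw
    set av := (v : G) * a * (v : G)⁻¹
    set aw := (w : G) * a * (w : G)⁻¹
    have hav : Nat.card (Subgroup.zpowers av) = p :=
      (Nat.card_zpowers _).trans ((orderOf_injective (MulAut.conj (v : G)).toMonoidHom
        (MulAut.conj (v : G)).injective a).trans (orderOf_eq_prime (hΩ.2 a ha) ha1))
    have hnmem : aw ∉ Subgroup.zpowers av := by
      intro hmem
      obtain ⟨i, hi⟩ := Subgroup.mem_zpowers_iff.1 hmem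
      have := hnot ((v⁻¹ * w : W) : G) (v⁻¹ * w : W).2 (Subgroup.mem_zpowers_iff.2 ⟨i, by
        have h1 : (v : G)⁻¹ * (av ^ i) * v = a ^ i := by rw [conj_zpow]; group
        rw [← h1, hi]
        show (v : G)⁻¹ * ((w : G) * a * (w : G)⁻¹) * v = _
        push_cast
        group⟩)
      exact hvw (inv_mul_eq_one.1 (Subtype.ext this))
    have hle : Subgroup.zpowers av ⊔ Subgroup.zpowers aw ≤ Ω :=
      sup_le (Subgroup.zpowers_le.2 (hnW v)) (Subgroup.zpowers_le.2 (hnW w))
    have heq : Subgroup.zpowers av ⊔ Subgroup.zpowers aw = Ω := by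
      obtain ⟨j, hj, hjc⟩ := (Nat.dvd_prime_pow hp).1 (hΩcard ▸ Subgroup.card_dvd_of_le hle)
      refine Subgroup.eq_of_le_of_card_ge hle ?_
      interval_cases j
      · have := Subgroup.card_le_of_le (le_sup_left : Subgroup.zpowers av ≤ _ ⊔ Subgroup.zpowers aw)
        rw [hav, hjc, pow_zero] at this
        exact absurd this hp.one_lt.not_ge
      · exact absurd ((Subgroup.eq_of_le_of_card_ge (le_sup_left : Subgroup.zpowers av ≤ _ ⊔ Subgroup.zpowers aw)
          (by rw [hav, hjc, pow_one])).ge (Subgroup.mem_sup_right (Subgroup.mem_zpowers aw))) hnmem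
      · rw [hΩcard, hjc]
    have h' : h ∈ H ⊓ centralizer (Ω : Set G) := by
      refine Subgroup.mem_inf.2 ⟨hh, ?_⟩
      rw [← heq, ← Subgroup.zpowers_le, Subgroup.le_centralizer_iff, sup_le_iff]
      exact ⟨Subgroup.le_centralizer_iff.1 (by
          rw [hzc, Subgroup.zpowers_le, Subgroup.mem_centralizer_singleton_iff]; exact hv.symm),
        Subgroup.le_centralizer_iff.1 (by
          rw [hzc, Subgroup.zpowers_le, Subgroup.mem_centralizer_singleton_iff]; exact hw.symm)⟩
    rwa [hΩC, Subgroup.mem_bot] at h'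
  have hCr : Nat.card C = r := by
    obtain ⟨j, -, hj⟩ := (Nat.dvd_prime_pow hr).1 (hHcard ▸ Subgroup.card_dvd_of_le (inf_le_left : C ≤ H))
    have h1 := (Nat.pow_le_pow_iff_left hq.ne_zero).1 hind
    have h2 : 1 < Nat.card C := (Subgroup.one_lt_card_iff_ne_bot C).2 haC
    rw [hj] at h1 h2 ⊢
    have h3 : j ≤ 1 := (Nat.pow_le_pow_iff_right hr.one_lt).1 (by rwa [pow_one])
    interval_cases j
    · exact absurd h2 (by norm_num)
    · rw [pow_one]
  have hΩn : Ω ≤ normalizer (C : Set G) := by
    refine fun b hb => Subgroup.mem_normalizer_iff_map_conj_eq.2 (Subgroup.eq_of_le_of_card_ge ?_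
      (Subgroup.card_map_of_injective (MulAut.conj b).injective).ge)
    rintro _ ⟨h, ⟨hh, hhc⟩, rfl⟩
    refine ⟨(Subgroup.mem_normalizer_iff.1 (hΩH hb) h).1 hh, ?_⟩
    simp only [MonoidHom.coe_coe, MulAut.conj_apply, SetLike.mem_coe]
    have hba : Commute a b := congrArg Subtype.val (hΩ.1.is_comm.comm ⟨a, ha⟩ ⟨b, hb⟩)
    have hha : Commute a h := (Subgroup.mem_centralizer_singleton_iff.1 hhc).symm
    exact Subgroup.mem_centralizer_singleton_iff.2 ((hba.mul_right hha).mul_right hba.inv_right).eq.symm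
  set f : Ω →* MulAut C := C.normalizerMonoidHom.comp (Subgroup.inclusion hΩn)
  have hker : f.ker ≠ ⊤ := by
    intro htop
    refine haC (le_bot_iff.1 ((le_inf (inf_le_left : C ≤ H) ?_).trans hΩC.le))
    rw [Subgroup.le_centralizer_iff]
    intro b hb
    have h0 : (⟨b, hb⟩ : Ω) ∈ f.ker := by rw [htop]; exact Subgroup.mem_top _
    have h1 : Subgroup.inclusion hΩn ⟨b, hb⟩ ∈ C.normalizerMonoidHom.ker :=
      MonoidHom.mem_ker.2 (MonoidHom.mem_ker.1 h0)
    rwa [Subgroup.normalizerMonoidHom_ker, Subgroup.mem_subgroupOf] at h1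
  haveI : IsCyclic C := isCyclic_of_prime_card hCr
  have hdvd : Nat.card f.range ∣ r - 1 := by
    have := f.range.card_subgroup_dvd_card
    rwa [IsCyclic.card_mulAut, hCr, Nat.totient_prime hr] at this
  obtain ⟨j, -, hj⟩ := (Nat.dvd_prime_pow hp).1
    (hΩcard ▸ (Subgroup.index_ker f).symm ▸ f.ker.index_dvd_card)
  have hpr : p ∣ r - 1 := by
    refine dvd_trans ?_ hdvd
    rw [hj]
    refine dvd_pow_self p fun h0 => hker ?_
    rw [← Subgroup.index_eq_one, Subgroup.index_ker, hj, h0, pow_zero]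
  have := Nat.le_of_dvd (by have := hr.two_le; omega) hpr
  omega

end CfsgLib.OddOrder
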