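import Cfsg.Agent.OddOrder.PF12.GroupFacts
import Cfsg.Agent.OddOrder.PF12.PlaneFrobenius

/-!
# The maximal subgroup with the plane in its σ-core has Type I

The first part of the proof of Peterfalvi (12.8).
-/

set_option autoImplicit false
set_option linter.style.haveILetI false
set_option linter.unusedSectionVars false

namespace CfsgLib.OddOrder

open Cfsg
open Subgroup (centralizer normalizer)
open CfsgLib.ConjFunctor (IsSylowIn exists_isSylowIn_ge)

variable {G : Type*} [Group G] [Finite G] {M L : Subgroup G} {p : ℕ}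

/-- A TI-subgroup normal in the maximal subgroup `L` contains the centralisers of its elements in `L`. -/
theorem centralizer_le_of_TI (hG : IsMinSimpleOddOrder G) (hL : IsCoatom L) {X : Subgroup G}
    (hTI : IsTISubset (X : Set G)) (hXL : X ≤ L) (hn : L ≤ normalizer (X : Set G)) {x : G}
    (hx : x ∈ X) (hx1 : x ≠ 1) : centralizer ({x} : Set G) ≤ L := by
  intro g hg
  have hX : X ≠ ⊥ := fun h => hx1 (by rwa [h, Subgroup.mem_bot] at hx)
  rw [← minSimple_normalizer_eq_coatom_of_le hG hL hX hXL hn]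
  by_contra hng
  refine hx1 (hTI g hng x hx ?_)
  rw [Subgroup.mem_centralizer_singleton_iff] at hg
  rwa [hg, mul_inv_cancel_right]

/-- Type P data with all the facts known for the maximal subgroups not of Type II: no plane of the
σ-core outside `L_F` has a centraliser as in (12.8). -/
theorem PF12Facts.typeP_plane_false (hG : IsMinSimpleOddOrder G) (F : PF12Facts G) (hL : IsCoatom L)
    (hp : p.Prime) (hr : PRankLE p 2 M) {A : Subgroup G} (hA : IsElementaryAbelian p A)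
    (hAc : Nat.card A = p ^ 2) (hAM : A ≤ M) (hAL : A ≤ ⁅L, L⁆) {x : G} (hx : x ∈ A)
    (hC : centralizer ({x} : Set G) ≤ M) (hnF : ¬ A ≤ fittingHallOf L) {W₁ U W₂ : Subgroup G}
    (hP : IsTypePWith L W₁ U W₂) (hnII : ¬ IsOfTypeII L) : False := by
  haveI := Fact.mk hp
  obtain ⟨hUc, hq, hr', hrq, hH, hHcard, hUH⟩ := F.typeP L W₁ U W₂ hL hP hnII
  set H := fittingHallOf L with hHdef
  haveI := hUc
  have hp2 : p ≠ 2 := minSimple_prime_ne_two hG
    ((dvd_pow_self p two_ne_zero).trans (hAc ▸ Subgroup.card_subgroup_dvd_card A))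
  have hq2 : Nat.card W₁ ≠ 2 := minSimple_prime_ne_two hG (Subgroup.card_subgroup_dvd_card W₁)
  have hLL : ⁅L, L⁆ ≤ L := derived_le_self L
  have hHL : H ≤ ⁅L, L⁆ := hP.U_compl.1
  have hUL : U ≤ ⁅L, L⁆ := hP.U_compl.2.1
  -- `p` is prime to `L_F`
  have hpA : ∀ r : ℕ, r.Prime → r ∣ Nat.card A → r = p := fun r hr hd => by
    rw [hAc] at hd
    exact (Nat.prime_dvd_prime_iff_eq hr hp).1 (hr.dvd_of_dvd_pow hd)
  have hpH : ¬ p ∣ Nat.card H := fun hd =>
    hnF (le_fittingHallOf_of_primes (hAL.trans hLL) fun r hr hrd => hpA r hr hrd ▸ hd)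
  -- a conjugate of the plane inside `U`
  obtain ⟨S, hS⟩ := exists_isSylowIn (p := p) U
  have hSL : IsSylowIn p S ⁅L, L⁆ := by
    refine ⟨hS.le.trans hUL, hS.isPGroup, fun hd => ?_⟩
    have h1 : U.relIndex ⁅L, L⁆ = Nat.card H := by
      have h2 := card_mul_relIndex hUL
      rw [← compl_card hP.U_compl, mul_comm] at h2
      exact Nat.eq_of_mul_eq_mul_right Nat.card_pos h2
    rw [← Subgroup.relIndex_mul_relIndex S U _ hS.le hUL, h1] at hd
    exact (hp.dvd_mul.1 hd).elim hS.not_dvd hpH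
  obtain ⟨b, hb, hbA⟩ := hSL.exists_cj_le hAL (isPGroup_of_isElementaryAbelian hA)
  set Ω := A.map (MulAut.conj b).toMonoidHom with hΩdef
  have hΩU : Ω ≤ U := le_trans hbA hS.le
  have hΩe : IsElementaryAbelian p Ω := isElementaryAbelian_map _ hA
  have hΩc : Nat.card Ω = p ^ 2 := by rw [hΩdef, card_map_conj, hAc]
  -- `W₁` normalises it
  have hWΩ : W₁ ≤ normalizer (Ω : Set G) := by
    intro e he
    rw [Subgroup.mem_normalizer_iff_map_conj_eq]
    refine Subgroup.eq_of_le_of_card_ge ?_ (card_map_conj Ω e).ge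
    rintro _ ⟨u, hu, rfl⟩
    show e * u * e⁻¹ ∈ Ω
    have heu : e * u * e⁻¹ ∈ U := (Subgroup.mem_normalizer_iff.1 (hP.U_normal he) u).1 (hΩU hu)
    set z := b⁻¹ * (e * u * e⁻¹) * b with hz
    have hcomm : ∀ a ∈ A, z * a = a * z := fun a ha => by
      have hba : b * a * b⁻¹ ∈ U := hΩU ⟨a, ha, rfl⟩
      have h := congrArg Subtype.val (hUc.is_comm.comm ⟨_, heu⟩ ⟨_, hba⟩)
      calc z * a = b⁻¹ * (e * u * e⁻¹ * (b * a * b⁻¹)) * b := by rw [hz]; group
        _ = b⁻¹ * (b * a * b⁻¹ * (e * u * e⁻¹)) * b := by simpa using congrArg (fun w => b⁻¹ * w * b) h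
        _ = a * z := by rw [hz]; group
    have hzM : z ∈ M := hC (Subgroup.mem_centralizer_singleton_iff.2 (hcomm x hx))
    have hzp : z ^ p = 1 := by
      have h1 : u ^ p = 1 := hΩe.2 u hu
      have h2 : z = (b⁻¹ * e) * u * (b⁻¹ * e)⁻¹ := by rw [hz]; group
      rw [h2, conj_pow, h1, mul_one, mul_inv_cancel]
    refine ⟨z, mem_plane_of_commute hp hr hA hAc hAM hzM hzp hcomm, ?_⟩
    show b * z * b⁻¹ = _
    rw [hz]; group
  -- the fixed points of `W₁`
  have hfix : ∀ e ∈ W₁, e ≠ 1 → ∀ u ∈ Ω, e * u = u * e → u = 1 := by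
    intro e he he1 u hu hc
    have h1 : u ∈ W₂ := hP.W₂_centralizer e he he1 ▸
      ⟨hUL (hΩU hu), Subgroup.mem_centralizer_singleton_iff.2 hc.symm⟩
    exact (Subgroup.eq_bot_iff_forall _).1 hP.U_compl.2.2.1 u ⟨(le_inf_iff.1 hP.W₂_le).1 h1, hΩU hu⟩
  obtain ⟨e, he, he1⟩ := (Subgroup.bot_or_exists_ne_one W₁).resolve_left hP.W₁_ne
  have heo : orderOf e = Nat.card W₁ :=
    ((Nat.dvd_prime hq).1 (Subgroup.orderOf_dvd_natCard W₁ he)).resolve_left
      fun h => he1 (orderOf_eq_one_iff.1 h)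
  have hΩ1 : Ω ≠ ⊥ := fun h => by
    rw [h, Subgroup.card_bot] at hΩc
    exact (Nat.one_lt_pow two_ne_zero hp.one_lt).ne hΩc
  have hqp : Nat.card W₁ < p := prime_lt_of_fpf hp hp2 hq hq2 (hΩc ▸ dvd_rfl) hΩ1 heo
    (hWΩ he) (hfix e he he1)
  have hgen : Subgroup.zpowers e = W₁ :=
    Subgroup.eq_of_le_of_card_ge (Subgroup.zpowers_le.2 he) (by rw [Nat.card_zpowers, heo])
  have hCW : H ⊓ centralizer (W₁ : Set G) = W₂ := by
    rw [← hgen, Subgroup.zpowers_eq_closure, Subgroup.centralizer_closure]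
    refine le_antisymm ?_ (le_inf (hP.W₂_le.trans inf_le_left) ?_)
    · rw [← hP.W₂_centralizer e he he1]
      exact inf_le_inf_right _ hHL
    · rw [← hP.W₂_centralizer e he he1]
      exact inf_le_right
  have hWL : W₁ ≤ L := hP.W₁_compl.2.1
  refine plane_frobenius_false hp hq hr' (hrq.trans hqp) hH hHcard hΩe hΩc rfl hWΩ
    ((hΩU.trans (hUL.trans hLL)).trans (le_normalizer_fittingHallOf L))
    (hWL.trans (le_normalizer_fittingHallOf L)) ?_ hqp.ne' hrq.ne hfix (by rw [hCW]) ?_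
  · exact le_bot_iff.1 ((inf_le_inf_right W₁ (hΩU.trans hUL)).trans hP.W₁_compl.2.2.1.le)
  · exact le_bot_iff.1 ((inf_le_inf_right _ hΩU).trans hUH.le)

/-- The maximal subgroup `L` with the plane in `L_σ` and `C(x) ≰ L` is of Type I. -/
theorem PF12Facts.typeI_of_plane (hG : IsMinSimpleOddOrder G) (F : PF12Facts G) (hL : IsCoatom L)
    (hp : p.Prime) (hr : PRankLE p 2 M) {A : Subgroup G} (hA : IsElementaryAbelian p A)
    (hAc : Nat.card A = p ^ 2) (hAM : A ≤ M) (hAL : A ≤ sigmaCore L) {x : G} (hx : x ∈ A)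
    (hx1 : x ≠ 1) (hC : centralizer ({x} : Set G) ≤ M) (hCL : ¬ centralizer ({x} : Set G) ≤ L) :
    IsTypeI L := by
  obtain ⟨K, U, hKU⟩ := F.toBG16Facts.exists_sigmaDecomposition hL
  obtain ⟨-, hHσ, hσ, hlt⟩ := F.chain L hL
  by_contra hnI
  have hTIF : IsTISubset (fittingOf L : Set G) → ¬ A ≤ fittingHallOf L := fun hTI hAH =>
    hCL (centralizer_le_of_TI hG hL hTI (Subgroup.map_subtype_le _) (le_normalizer_fittingOf L)
      (fittingHallOf_le_fittingOf L (hAH hx)) hx1)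
  by_cases hK : K = ⊥
  · by_cases hU : U = ⊥
    · refine hlt.not_ge (le_trans (fun m hm => ?_) hσ)
      obtain ⟨a, ha, b, hb, rfl⟩ := hKU.compl.2.2.2 m hm
      rw [hU, Subgroup.mem_bot] at ha
      rw [hK, bot_sup_eq] at hb
      simpa [ha] using hb
    · exact hnI ((F.typeI L K U hL hKU).2 ⟨hK, hU⟩)
  by_cases hU : U = ⊥
  · have hnII : ¬ IsOfTypeII L := fun h => ((F.typeII L K U hL hKU).1 h).2 hU
    by_cases hHS : fittingHallOf L = sigmaCore L
    · obtain ⟨W₁, U', W₂, hP, -, hor⟩ := (F.typeV L K U hL hKU).2 ⟨hK, hU, hHS⟩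
      obtain ⟨-, hq, hr', hrq, -, hHcard, -⟩ := F.typeP L W₁ U' W₂ hL hP hnII
      have hs : ∀ s : ℕ, s.Prime → s ∣ Nat.card (fittingHallOf L) → s = Nat.card W₂ := by
        intro s hs hd
        rw [hHcard] at hd
        exact (Nat.prime_dvd_prime_iff_eq hs hr').1 (hs.dvd_of_dvd_pow hd)
      rcases hor with hTI | ⟨s, hs1, hs2, hdvd, -⟩ | ⟨s, hs1, hs2, -, hdvd, -⟩
      · exact hCL (centralizer_le_of_TI hG hL hTI (fittingHallOf_le L) (le_normalizer_fittingHallOf L)
          (by rw [hHS]; exact hAL hx) hx1)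
      · rw [hs s hs1 hs2] at hdvd
        have := Nat.le_of_dvd (by have := hr'.two_le; omega) hdvd
        omega
      · rw [hs s hs1 hs2] at hdvd
        have h1 := Nat.le_of_dvd (by omega) hdvd
        have h2 : Nat.card W₁ = Nat.card W₂ + 1 := by omega
        obtain ⟨a, ha⟩ := minSimple_odd_subgroup hG W₁
        obtain ⟨c, hc⟩ := minSimple_odd_subgroup hG W₂
        omega
    · rcases (F.typeIII_IV L K U hL hKU).2 ⟨hK, hU, hHS⟩ with h | h <;>
      · obtain ⟨W₁, U', W₂, hP, -, -, hTI, -⟩ := h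
        exact F.typeP_plane_false hG hL hp hr hA hAc hAM (hAL.trans hσ) hx hC (hTIF hTI) hP hnII
  · have hII : IsOfTypeII L := (F.typeII L K U hL hKU).2 ⟨hK, hU⟩
    have hAH : A ≤ fittingHallOf L := by rw [F.kernel_eq_sigma hL (Or.inr hII)]; exact hAL
    obtain ⟨W₁, U', W₂, -, -, -, hTI, -⟩ := hII
    exact hTIF hTI hAH

end CfsgLib.OddOrder
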