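import Cfsg.Agent.OddOrder.LocalTypes
import Cfsg.Agent.OddOrder.BG16.AssembleFacts

/-!
# Type I of the statements and the Type I of the local analysis
-/

set_option autoImplicit false
set_option linter.style.haveILetI false

namespace CfsgLib.OddOrder

universe u

variable {G : Type u} [Group G] [Finite G] {M : Subgroup G}

/-- `O_{p'}(M)` cyclic gives `O_{p'}(M_F)` cyclic. -/
theorem isTypeI_of_isOfTypeI (h : Cfsg.IsOfTypeI M) : IsTypeI M := by
  obtain ⟨hF, hcase⟩ := h
  refine ⟨hF, ?_⟩
  rcases hcase with h1 | h2 | ⟨hexp, p, hp, hpd, hc⟩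
  · exact Or.inl h1
  · exact Or.inr (Or.inl h2)
  · refine Or.inr (Or.inr ⟨hexp, p, hp, hpd, ?_⟩)
    set N := Cfsg.fittingHall ↥M with hN
    have hle : (Cfsg.pPrimeCore p ↥N).map N.subtype ≤ Cfsg.pPrimeCore p ↥M := by
      haveI : ((Cfsg.pPrimeCore p ↥N).map N.subtype).Normal :=
        CfsgLib.PLocal.normal_map_subtype N _
      refine CfsgLib.PLocal.le_pPrimeCore ?_
      rw [Subgroup.card_map_of_injective N.subtype_injective]
      exact CfsgLib.PLocal.coprime_card_pPrimeCore p ↥N
    let f : ↥(Cfsg.pPrimeCore p ↥N) →* ↥(Cfsg.pPrimeCore p ↥M) :=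
      (N.subtype.comp (Cfsg.pPrimeCore p ↥N).subtype).codRestrict _
        fun x => hle (Subgroup.mem_map_of_mem _ x.2)
    haveI := hc
    haveI : IsCyclic ↥(Cfsg.pPrimeCore p ↥N) := isCyclic_of_injective f fun x y hxy =>
      Subtype.ext (N.subtype_injective (by have h := Subtype.ext_iff.1 hxy; exact h))
    have e : ↥N ≃* ↥(Cfsg.fittingHallOf M) :=
      Subgroup.equivMapOfInjective N M.subtype M.subtype_injective
    rw [← CfsgLib.PLocal.map_pPrimeCore_equiv (p := p) e]
    exact isCyclic_of_surjective _ (MonoidHom.subgroupMap_surjective e.toMonoidHom _)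

/-- For such a subgroup the two definitions of `A(M)` agree. -/
theorem supportA_eq_typeA_of_typeI (h : Cfsg.IsOfTypeI M) : supportA M = Cfsg.typeA M := by
  rw [supportA, Cfsg.typeA, if_pos h, if_pos (isTypeI_of_isOfTypeI h)]

end CfsgLib.OddOrder
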