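import Cfsg.Agent.OddOrder.PF12.Orth
import Cfsg.Agent.OddOrder.PF12.NormalChars
import Cfsg.Agent.S1536

/-!
# Peterfalvi (12.4), (12.5): class functions orthogonal to the pairs of a Type I subgroup

If `ψ` is orthogonal to the irreducible characters in the Dade images of `ξ - conj ξ` for a maximal
subgroup `M` of Type I, then `ψ` is constant on the cosets `x M_F`, `x ∈ M \ M_F`, and its average
is constant on `M_F` outside the derived group of `M_F`.
-/

set_option autoImplicit false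
set_option linter.style.haveILetI false
set_option linter.unusedSectionVars false

namespace CfsgLib.OddOrder

open Cfsg CfsgLib.Characters CfsgLib.OddOrderChar
open scoped ComplexConjugate

variable {G : Type*} [Group G] [Fintype G] {M : Subgroup G} [Fintype M]

/-- The average of `ψ` over the cosets `a R a`, `a ∈ A`, extended by zero to `M`. -/
noncomputable def dadeAvg (A : Set G) (M : Subgroup G) (R : G → Subgroup G) (ψ : G → ℂ) : ↥M → ℂ :=
  open Classical in
  fun a => if (a : G) ∈ A then (Nat.card (R a) : ℂ)⁻¹ * ∑ᶠ u ∈ (R a : Set G), ψ (a * u) else 0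

theorem dadeAvg_of_mem {A : Set G} {R : G → Subgroup G} (ψ : G → ℂ) {a : M} (h : (a : G) ∈ A) :
    dadeAvg A M R ψ a = (Nat.card (R a) : ℂ)⁻¹ * ∑ᶠ u ∈ (R a : Set G), ψ (a * u) := if_pos h

theorem dadeAvg_of_notMem {A : Set G} {R : G → Subgroup G} (ψ : G → ℂ) {a : M} (h : (a : G) ∉ A) :
    dadeAvg A M R ψ a = 0 := if_neg h

theorem dadeAvg_of_bot {A : Set G} {R : G → Subgroup G} (ψ : G → ℂ) {a : M} (h : (a : G) ∈ A)
    (hR : R a = ⊥) : dadeAvg A M R ψ a = ψ a := by
  rw [dadeAvg_of_mem ψ h, hR, Subgroup.coe_bot, finsum_mem_singleton, Subgroup.card_bot, mul_one]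
  simp

theorem isClassFunction_dadeAvg {A : Set G} {R : G → Subgroup G} (hD : DadeHypothesis A M R)
    {ψ : G → ℂ} (hψ : IsClassFunction G ψ) : IsClassFunction M (dadeAvg A M R ψ) := by
  intro a g
  by_cases ha : (a : G) ∈ A
  · have hga : ((g * a * g⁻¹ : M) : G) ∈ A := by simpa using hD.conj_mem g g.2 a ha
    rw [dadeAvg_of_mem ψ hga, dadeAvg_of_mem ψ ha]
    have hRc : R ((g * a * g⁻¹ : M) : G) = (R (a : G)).map (MulAut.conj (g : G)).toMonoidHom := by
      simpa using dade_H_conj hD ha g.2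
    rw [hRc, Subgroup.card_map_of_injective (MulAut.conj (g : G)).injective, Subgroup.coe_map,
      MulEquiv.coe_toMonoidHom, finsum_mem_image ((MulAut.conj (g : G)).injective.injOn)]
    congr 1
    refine finsum_mem_congr rfl fun u _ => ?_
    rw [← hψ ((a : G) * u) g]
    congr 1
    simp [mul_assoc]
  · rw [dadeAvg_of_notMem ψ ha, dadeAvg_of_notMem ψ]
    intro h
    refine ha ?_
    have := hD.conj_mem (g : G)⁻¹ (M.inv_mem g.2) _ h
    simpa [mul_assoc] using this

theorem classInner_dade_avg {A : Set G} {R : G → Subgroup G} (hD : DadeHypothesis A M R)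
    {ψ : G → ℂ} (hψ : IsClassFunction G ψ) {α : ↥M → ℂ} (hα : IsClassFunction M α)
    (hαA : ∀ x : M, (x : G) ∉ A → α x = 0) :
    classInner ψ (dadeIsometry A M R α) = classInner (dadeAvg A M R ψ) α := by
  rw [classInner_conj_symm, classInner_dade_left hD hα hαA hψ (fun a ha => dadeAvg_of_mem ψ ha),
    ← classInner_conj_symm]

omit [Fintype G] [Fintype M] in
theorem mem_typeA_typeI (hI : IsTypeI M) {a : G} :
    a ∈ supportA M ↔ a ∈ M ∧ a ≠ 1 ∧ ∃ x ∈ fittingHallOf M, x ≠ 1 ∧ a * x = x * a := by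
  simp [supportA, if_pos hI]

omit [Fintype G] [Fintype M] in
theorem coe_mem_typeA_iff (hI : IsTypeI M) (a : M) :
    (a : G) ∈ supportA M ↔ a ≠ 1 ∧ ∃ x ∈ fittingHall M, x ≠ 1 ∧ a * x = x * a := by
  rw [mem_typeA_typeI hI]
  constructor
  · rintro ⟨-, ha, x, hx, hx1, hc⟩
    obtain ⟨y, hy, rfl⟩ := Subgroup.mem_map.mp hx
    exact ⟨fun h => ha (by simp [h]), y, hy, fun h => hx1 (by simp [h]), Subtype.ext hc⟩
  · rintro ⟨ha, x, hx, hx1, hc⟩
    exact ⟨a.2, fun h => ha (Subtype.ext (by simpa using h)), x, Subgroup.mem_map_of_mem _ hx,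
      fun h => hx1 (Subtype.ext (by simpa using h)), congrArg Subtype.val hc⟩

omit [Fintype G] [Fintype M] in
theorem coe_mem_typeA_of_mem (hI : IsTypeI M) {a : M} (ha : a ∈ fittingHall M) (h1 : a ≠ 1) :
    (a : G) ∈ supportA M := (coe_mem_typeA_iff hI a).2 ⟨h1, a, ha, h1, rfl⟩

/-- The characters nontrivial on `M_F` vanish outside `A(M) ∪ {1}` and are not real. -/
theorem typeI_isDadeIrr (hI : IsTypeI M) [Fintype (fittingHall M)] {ξ : ↥M → ℂ}
    (hξ : IsIrrCharacter M ξ) (hne : NontrivOn (fittingHall M) ξ) : IsDadeIrr (supportA M) M ξ := by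
  refine ⟨hξ, fun x hx hA => ?_, fun h => ?_⟩
  · refine irr_eq_zero_of_centralizer_trivial (fittingHall M) (fun n hn hc => ?_) hξ hne
    by_contra hn1
    exact hA ((coe_mem_typeA_iff hI x).2 ⟨hx, n, hn, hn1, hc⟩)
  · have h1 := eq_one_of_real_of_odd hI.1.2.1 hξ fun g => Complex.conj_eq_iff_im.1 (congrFun h g)
    obtain ⟨n, -, hn⟩ := hne
    exact hn (by rw [h1])

/-- The inertia groups of non-principal characters of `M_F` are abelian modulo `M_F`. -/
theorem typeI_inertia_abelian (hI : IsTypeI M) [Fintype (fittingHall M)] {θ : fittingHall M → ℂ}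
    (hθ : IsIrrCharacter (fittingHall M) θ) (hne : θ ≠ fun _ => 1) :
    ∀ x ∈ inertiaGroup (fittingHall M) θ, ∀ y ∈ inertiaGroup (fittingHall M) θ,
      x * y * x⁻¹ * y⁻¹ ∈ fittingHall M := by
  obtain ⟨⟨-, -, -, -, U, -, hcompl, ⟨U₁, -, -, hU₁c, hU₁⟩, -⟩, -⟩ := id hI
  have hKT : (fittingHall M) ≤ inertiaGroup (fittingHall M) θ :=
    inertia_le (fittingHall M) (isClassFunction_of_isIrr hθ) _ fun _ => Iff.rfl
  have hsplit : ∀ x ∈ inertiaGroup (fittingHall M) θ, ∃ u ∈ U₁, (x : M ⧸ (fittingHall M)) = (u : M ⧸ (fittingHall M)) := by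
    intro x hx
    obtain ⟨⟨⟨k, hk⟩, ⟨u, hu⟩⟩, hku⟩ := hcompl.2 x
    simp only at hku
    have hu' : u ∈ inertiaGroup (fittingHall M) θ := by
      have : u = k⁻¹ * x := by rw [← hku]; group
      rw [this]
      exact mul_mem (inv_mem (hKT hk)) hx
    obtain ⟨h, hh, hh1, hc⟩ :=
      (Cfsg.Agent.S1536.result (fittingHall M) (fittingHall_coprime_index M) u).1 ⟨θ, hθ, hne, hu'⟩
    refine ⟨u, hU₁ h hh hh1 ⟨hu, Subgroup.mem_centralizer_singleton_iff.mpr hc⟩, ?_⟩
    rw [← hku, QuotientGroup.mk_mul, (QuotientGroup.eq_one_iff k).2 hk, one_mul]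
  intro x hx y hy
  obtain ⟨u, hu, hxu⟩ := hsplit x hx
  obtain ⟨v, hv, hyv⟩ := hsplit y hy
  refine (QuotientGroup.eq_one_iff _).1 ?_
  rw [QuotientGroup.mk_mul, QuotientGroup.mk_mul, QuotientGroup.mk_mul, QuotientGroup.mk_inv,
    QuotientGroup.mk_inv, hxu, hyv, ← QuotientGroup.mk_mul, ← QuotientGroup.mk_inv,
    ← QuotientGroup.mk_inv, ← QuotientGroup.mk_mul, ← QuotientGroup.mk_mul]
  have hcomm : u * v = v * u := congrArg Subtype.val (mul_comm' (⟨u, hu⟩ : U₁) ⟨v, hv⟩)
  rw [hcomm, mul_inv_cancel_right, mul_inv_cancel]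
  rfl

theorem typeI_equalDegOver (hI : IsTypeI M) [Fintype (fittingHall M)] :
    EqualDegOver (fittingHall M) :=
  equalDegOver_of_abelian _ fun _ hθ hne => typeI_inertia_abelian hI hθ hne

/-- Characters induced from `M_F` are sums of distinct irreducible characters nontrivial on `M_F`. -/
theorem typeI_ind_eq_sum (hI : IsTypeI M) [Fintype (fittingHall M)] {φ : fittingHall M → ℂ}
    (hφ : IsIrrCharacter (fittingHall M) φ) (hne : φ ≠ fun _ => 1) :
    ∃ C : Finset (↥M → ℂ), indFun (fittingHall M) φ = ∑ χ ∈ C, χ ∧ ∀ χ ∈ C,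
      IsIrrCharacter M χ ∧ classInner (fun n : fittingHall M => χ n) φ ≠ 0 ∧
        NontrivOn (fittingHall M) χ := by
  classical
  set T := inertiaGroup (fittingHall M) φ with hT
  obtain ⟨e, C, -, hC, -, hsum, -, he⟩ :=
    induced_abelian_inertia (fittingHall M) hφ T (fun _ => Iff.rfl) (typeI_inertia_abelian hI hφ hne)
  have hcop : Nat.Coprime (Nat.card (fittingHall M)) ((fittingHall M).relIndex T) :=
    Nat.Coprime.coprime_dvd_right
      (Subgroup.relIndex_dvd_index_of_normal (fittingHall M) T) (fittingHall_coprime_index M)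
  rw [he hcop, Nat.cast_one, one_smul] at hsum
  refine ⟨C, hsum, fun χ hχ => ?_⟩
  have h0 : classInner (fun n : (fittingHall M) => χ n) φ ≠ 0 := by
    intro h
    have h1 : classInner (indFun (fittingHall M) φ) χ = 0 := by
      rw [classInner_indFun_left (fittingHall M) φ (isClassFunction_of_isIrr (hC χ hχ)), classInner_conj_symm, h,
        map_zero]
    rw [hsum, classInner_sum_left, Finset.sum_eq_single_of_mem χ hχ
      (fun b hb hne' => classInner_isIrr_ne (hC b hb) (hC χ hχ) hne'),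
      classInner_isIrr_self (hC χ hχ)] at h1
    exact one_ne_zero h1
  refine ⟨hC χ hχ, h0, ?_⟩
  by_contra h
  exact h0 (classInner_res_of_trivial (fittingHall M) h hφ hne)

variable {R : G → Subgroup G}

/-- Equal degrees give equal coefficients for the averaged function. -/
theorem typeI_avg_coeff (hI : IsTypeI M) [Fintype (fittingHall M)]
    (hD : DadeHypothesis (supportA M) M R) {ψ : G → ℂ} (hψ : IsClassFunction G ψ)
    (horth : OrthDade (supportA M) M R (NontrivOn (fittingHall M)) ψ) {ξ η : ↥M → ℂ} (hξ : IsIrrCharacter M ξ)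
    (hη : IsIrrCharacter M η) (hξn : NontrivOn (fittingHall M) ξ)
    (hηn : NontrivOn (fittingHall M) η) (hdeg : ξ 1 = η 1) :
    classInner (dadeAvg (supportA M) M R ψ) ξ = classInner (dadeAvg (supportA M) M R ψ) η := by
  classical
  by_cases he : η = ξ
  · rw [he]
  have hξD := typeI_isDadeIrr hI hξ hξn
  have hηD := typeI_isDadeIrr hI hη hηn
  have h0 : classInner ψ (dadeIsometry (supportA M) M R (ξ - η)) = 0 := by
    by_cases hc : η = conjFun ξ
    · obtain ⟨μ, hμ, eμ⟩ := dade_sub_conj hD hξ hξD.2.1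
      obtain ⟨h1, h2⟩ := horth ξ hξD hξn μ hμ eμ
      rw [hc, eμ, Coherence.ci_sub_right, h1, h2, sub_zero]
    · have hc' : conjFun ξ ≠ η := fun e => hc e.symm
      simpa using orth_dade_diff hD horth (X := {ξ}) (Y := {η}) (by simpa using hξD)
        (by simpa using hηD) (by simpa using hξn) (by simpa using hηn) (by simpa using hξD.2.2) (by simpa using hηD.2.2)
        (by simpa using Ne.symm he) (by simpa using hc') (by simpa using hdeg)
  rw [classInner_dade_avg hD hψ ?_ ?_, classInner_sub_right, sub_eq_zero] at h0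
  · exact h0
  · exact fun a b => by simp [isClassFunction_of_isIrr hξ a b, isClassFunction_of_isIrr hη a b]
  · intro x hx
    by_cases h1 : x = 1
    · simp [h1, hdeg]
    · simp [hξD.2.1 x h1 hx, hηD.2.1 x h1 hx]

omit [Fintype M] in
/-- An element centralised by nothing in `M_F` is conjugate to all of its coset. -/
theorem conj_coset_of_centralizer_trivial {x k : M}
    (hx : ∀ n ∈ fittingHall M, x * n = n * x → n = 1) (hk : k ∈ fittingHall M) :
    ∃ a : M, a * x * a⁻¹ = x * k := by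
  have hN : (fittingHall M).Normal := fittingHall_normal M
  let f : (fittingHall M) → (fittingHall M) := fun a => ⟨x⁻¹ * (a : M) * x * (a : M)⁻¹,
    (fittingHall M).mul_mem (by simpa using hN.conj_mem (a : M) a.2 x⁻¹) ((fittingHall M).inv_mem a.2)⟩
  have hf : Function.Injective f := by
    intro a b h
    have h' : x⁻¹ * (a : M) * x * (a : M)⁻¹ = x⁻¹ * (b : M) * x * (b : M)⁻¹ := congrArg Subtype.val h
    refine Subtype.ext (inv_mul_eq_one.mp (hx _ ((fittingHall M).mul_mem ((fittingHall M).inv_mem b.2) a.2) ?_)).symm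
    calc x * ((b : M)⁻¹ * a) = (b : M)⁻¹ * x * (x⁻¹ * (b : M) * x * (b : M)⁻¹) * a := by group
      _ = (b : M)⁻¹ * x * (x⁻¹ * (a : M) * x * (a : M)⁻¹) * a := by rw [h']
      _ = (b : M)⁻¹ * a * x := by group
  obtain ⟨a, ha⟩ := (Finite.injective_iff_surjective.mp hf) ⟨k, hk⟩
  refine ⟨a, ?_⟩
  have h' : x⁻¹ * (a : M) * x * (a : M)⁻¹ = k := congrArg Subtype.val ha
  rw [← h']
  group

/-- Peterfalvi (12.4). -/
theorem typeI_coset_const (hI : IsTypeI M) [Fintype (fittingHall M)]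
    (hD : DadeHypothesis (supportA M) M R) {ψ : G → ℂ} (hψ : IsClassFunction G ψ)
    (horth : OrthDade (supportA M) M R (NontrivOn (fittingHall M)) ψ)
    (hR : ∀ a : M, (a : G) ∈ supportA M → a ∉ fittingHall M → R a = ⊥)
    {x k : M} (hx : x ∉ fittingHall M) (hk : k ∈ fittingHall M) :
    ψ ((x : G) * k) = ψ x := by
  by_cases hfix : ∀ n ∈ fittingHall M, x * n = n * x → n = 1
  · obtain ⟨a, ha⟩ := conj_coset_of_centralizer_trivial hfix hk
    have h' : (a : G) * x * (a : G)⁻¹ = (x : G) * k := congrArg Subtype.val ha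
    rw [← h', hψ]
  have hxk : x * k ∉ fittingHall M := fun h =>
    hx (by simpa using mul_mem h (inv_mem hk))
  have hfix' : ¬ ∀ n ∈ fittingHall M, x * k * n = n * (x * k) → n = 1 := by
    intro h
    apply hfix
    obtain ⟨a, ha⟩ := conj_coset_of_centralizer_trivial h (inv_mem hk)
    rw [mul_inv_cancel_right] at ha
    intro n hn hc
    have hn' : a⁻¹ * n * a ∈ fittingHall M := by
      simpa using (fittingHall_normal M).conj_mem n hn a⁻¹
    have := h _ hn' (by
      calc x * k * (a⁻¹ * n * a) = a⁻¹ * ((a * (x * k) * a⁻¹) * n) * a := by group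
        _ = a⁻¹ * (n * (a * (x * k) * a⁻¹)) * a := by rw [ha, hc]
        _ = a⁻¹ * n * a * (x * k) := by group)
    calc n = a * (a⁻¹ * n * a) * a⁻¹ := by group
      _ = 1 := by rw [this]; group
  push Not at hfix hfix'
  have hA : ∀ y : M, y ∉ fittingHall M → (∃ n ∈ fittingHall M, y * n = n * y ∧ n ≠ 1) →
      (y : G) ∈ supportA M := by
    rintro y hy ⟨n, hn, hc, hn1⟩
    exact (coe_mem_typeA_iff hI y).2 ⟨fun h => hy (h ▸ one_mem _), n, hn, hn1, hc⟩
  have h := coset_const_of_degree (fittingHall M) (typeI_equalDegOver hI)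
    (isClassFunction_dadeAvg hD hψ)
    (fun ξ η hξ hη hξn hηn hd => typeI_avg_coeff hI hD hψ horth hξ hη hξn hηn hd) hx hk
  rwa [dadeAvg_of_bot ψ (hA x hx hfix) (hR x (hA x hx hfix) hx),
    dadeAvg_of_bot ψ (hA _ hxk hfix') (hR _ (hA _ hxk hfix') hxk)] at h

/-- Peterfalvi (12.5). -/
theorem typeI_avg_const (hI : IsTypeI M) [Fintype (fittingHall M)]
    (hD : DadeHypothesis (supportA M) M R) {ψ : G → ℂ} (hψ : IsClassFunction G ψ)
    (horth : OrthDade (supportA M) M R (NontrivOn (fittingHall M)) ψ) {a b : fittingHall M}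
    (ha : a ∉ commutator (fittingHall M)) (hb : b ∉ commutator (fittingHall M)) :
    dadeAvg (supportA M) M R ψ a = dadeAvg (supportA M) M R ψ b := by
  classical
  set f := dadeAvg (supportA M) M R ψ with hf
  have hcl := isClassFunction_dadeAvg hD hψ
  refine const_off_commutator (f := fun n : (fittingHall M) => f n)
    (fun x y => by simpa using hcl (x : M) (y : M)) (fun φ φ' hφ hφ' hne hne' hdeg => ?_) ha hb
  have hrec : ∀ θ : (fittingHall M) → ℂ, classInner (fun n : (fittingHall M) => f n) θ = classInner f (indFun (fittingHall M) θ) :=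
    fun θ => (OddOrderChar.classInner_indFun_right (fittingHall M) θ hcl).symm
  rw [hrec, hrec]
  by_cases horb : ∃ g : M, conjBy (fittingHall M) φ g = φ'
  · obtain ⟨g, rfl⟩ := horb
    rw [indFun_conjBy]
  obtain ⟨X, hX, hXp⟩ := typeI_ind_eq_sum hI hφ hne
  obtain ⟨Y, hY, hYp⟩ := typeI_ind_eq_sum hI hφ' hne'
  have hXD : ∀ ξ ∈ X, IsDadeIrr (supportA M) M ξ := fun ξ h => typeI_isDadeIrr hI (hXp ξ h).1 (hXp ξ h).2.2
  have hYD : ∀ ξ ∈ Y, IsDadeIrr (supportA M) M ξ := fun ξ h => typeI_isDadeIrr hI (hYp ξ h).1 (hYp ξ h).2.2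
  have hsame : ∀ {θ θ' : (fittingHall M) → ℂ} {χ : ↥M → ℂ}, IsIrrCharacter M χ → IsIrrCharacter (fittingHall M) θ →
      IsIrrCharacter (fittingHall M) θ' → classInner (fun n : (fittingHall M) => χ n) θ ≠ 0 →
      classInner (fun n : (fittingHall M) => χ n) θ' ≠ 0 → ∃ g : M, conjBy (fittingHall M) θ g = θ' := by
    intro θ θ' χ hχ hθ hθ' h h'
    by_contra hno
    refine h' ?_
    have hc := clifford_restrict (fittingHall M) hχ hθ h
    rw [hc, classInner_smul_left, classInner_sum_left, Finset.sum_eq_zero, mul_zero]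
    intro ψ' hψ'
    obtain ⟨g, rfl⟩ := (mem_conjOrbit (fittingHall M)).mp hψ'
    exact classInner_isIrr_ne (isIrr_conjBy (fittingHall M) hθ g) hθ' fun e => hno ⟨g, e⟩
  have hconj : ∀ {θ : (fittingHall M) → ℂ} {χ : ↥M → ℂ}, classInner (fun n : (fittingHall M) => χ n) θ ≠ 0 →
      classInner (fun n : (fittingHall M) => conjFun χ n) (conjFun θ) ≠ 0 := by
    intro θ χ h
    rw [show (fun n : (fittingHall M) => conjFun χ n) = conjFun (fun n : (fittingHall M) => χ n) from rfl,
      Coherence.ci_conjFun]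
    exact fun h' => h (by rw [classInner_conj_symm, h', map_zero])
  have hodd := hI.1.2.1
  by_cases horb' : ∃ g : M, conjBy (fittingHall M) (conjFun φ) g = φ'
  · obtain ⟨g, rfl⟩ := horb'
    rw [indFun_conjBy, ← Coherence.conjFun_ind, ← sub_eq_zero, ← classInner_sub_right, hX,
      show conjFun (∑ χ ∈ X, χ) = ∑ χ ∈ X, conjFun χ from funext fun x => by simp [conjFun],
      ← Finset.sum_sub_distrib, classInner_sum_right]
    refine Finset.sum_eq_zero fun ξ hξ => ?_
    obtain ⟨μ, hμ, eμ⟩ := dade_sub_conj hD (hXp ξ hξ).1 (hXD ξ hξ).2.1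
    obtain ⟨h1, h2⟩ := horth ξ (hXD ξ hξ) (hXp ξ hξ).2.2 μ hμ eμ
    rw [hf, ← classInner_dade_avg hD hψ ?_ ?_, eμ, classInner_sub_right, h1, h2, sub_zero]
    · exact fun a b => by simp [conjFun, isClassFunction_of_isIrr (hXp ξ hξ).1 a b]
    · intro x hx
      by_cases h1 : x = 1
      · obtain ⟨d, -, hd⟩ := exists_degree_pos (hXp ξ hξ).1
        simp [h1, conjFun, hd]
      · simp [conjFun, (hXD ξ hξ).2.1 x h1 hx]
  have hdegXY : ∑ ξ ∈ X, ξ 1 = ∑ ξ ∈ Y, ξ 1 := by
    have h1 := congrFun hX 1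
    have h2 := congrFun hY 1
    rw [Finset.sum_apply, Coherence.ind_one] at h1 h2
    rw [← h1, ← h2, hdeg]
  have hXX : ∀ ξ ∈ X, conjFun ξ ∉ X := fun ξ h h' => by
    obtain ⟨g, hg⟩ := hsame (hXp _ h').1 hφ (Coherence.isIrr_conjFun hφ) (hXp _ h').2.1
      (hconj (hXp ξ h).2.1)
    exact not_conjFun_mem_orbit (fittingHall M) hodd hφ hne g hg
  have hYY : ∀ ξ ∈ Y, conjFun ξ ∉ Y := fun ξ h h' => by
    obtain ⟨g, hg⟩ := hsame (hYp _ h').1 hφ' (Coherence.isIrr_conjFun hφ') (hYp _ h').2.1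
      (hconj (hYp ξ h).2.1)
    exact not_conjFun_mem_orbit (fittingHall M) hodd hφ' hne' g hg
  have hXY : ∀ ξ ∈ X, ξ ∉ Y := fun ξ h h' =>
    horb (hsame (hXp ξ h).1 hφ hφ' (hXp ξ h).2.1 (hYp ξ h').2.1)
  have hXY' : ∀ ξ ∈ X, conjFun ξ ∉ Y := fun ξ h h' =>
    horb' (hsame (hYp _ h').1 (Coherence.isIrr_conjFun hφ) hφ' (hconj (hXp ξ h).2.1) (hYp _ h').2.1)
  have h0 := orth_dade_diff hD horth hXD hYD (fun ξ h => (hXp ξ h).2.2) (fun ξ h => (hYp ξ h).2.2) hXX hYY hXY hXY' hdegXY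
  rw [classInner_dade_avg hD hψ ?_ ?_, classInner_sub_right, sub_eq_zero, ← hX, ← hY] at h0
  · exact h0
  · intro a b
    simp only [Pi.sub_apply, Finset.sum_apply]
    rw [Finset.sum_congr rfl fun ξ h => isClassFunction_of_isIrr (hXp ξ h).1 a b,
      Finset.sum_congr rfl fun ξ h => isClassFunction_of_isIrr (hYp ξ h).1 a b]
  · intro x hx
    by_cases h1 : x = 1
    · simp [h1, hdegXY]
    · simp only [Pi.sub_apply, Finset.sum_apply]
      rw [Finset.sum_eq_zero fun ξ h => (hXD ξ h).2.1 x h1 hx,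
        Finset.sum_eq_zero fun ξ h => (hYD ξ h).2.1 x h1 hx, sub_zero]

end CfsgLib.OddOrder
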