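import Cfsg.Agent.OddOrder.PF12.SigmaPlane
import Cfsg.Agent.OddOrder.PF12.Contradiction
import Cfsg.Agent.OddOrder.PF12.LinesCount
import Cfsg.Agent.OddOrder.BG2.Abelem2
import Cfsg.Agent.OddOrder.BG11.SylowAbelian

/-!
# Peterfalvi (12.7): the maximal subgroups of Type I are Frobenius groups
-/

set_option autoImplicit false
set_option linter.style.haveILetI false
set_option linter.unusedSectionVars false

namespace CfsgLib.OddOrder

open Cfsg
open Subgroup (centralizer normalizer)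
open CfsgLib.ConjFunctor (IsSylowIn exists_isSylowIn_ge)
open scoped commutatorElement

variable {G : Type*} [Group G]

theorem index_fittingHall_eq (M : Subgroup G) :
    (fittingHall M).index = (fittingHallOf M).relIndex M := by
  rw [fittingHallOf, Subgroup.relIndex, Subgroup.subgroupOf,
    Subgroup.comap_map_eq_self_of_injective M.subtype_injective]

theorem card_fittingHall_eq (M : Subgroup G) :
    Nat.card (fittingHall M) = Nat.card (fittingHallOf M) :=
  (Subgroup.card_map_of_injective M.subtype_injective).symm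

variable [Finite G]

/-- The element of prime order outside a normal Hall subgroup. -/
theorem exists_prime_power_not_mem {N : Subgroup G} {v : G} (hv : v ∈ N)
    (hn : v ∉ fittingHallOf N) :
    ∃ s : ℕ, s.Prime ∧ ¬ s ∣ Nat.card (fittingHallOf N) ∧ ∃ w ∈ Subgroup.zpowers v, orderOf w = s := by
  obtain ⟨s, hs, hsd, hsK⟩ : ∃ s : ℕ, s.Prime ∧ s ∣ orderOf v ∧ ¬ s ∣ Nat.card (fittingHallOf N) := by
    by_contra! hall
    exact hn (le_fittingHallOf_of_primes (Subgroup.zpowers_le.2 hv)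
      (fun s hs hd => hall s hs (by rwa [← Nat.card_zpowers])) (Subgroup.mem_zpowers v))
  exact ⟨s, hs, hsK, _, (Subgroup.zpowers v).pow_mem (Subgroup.mem_zpowers v) _,
    orderOf_pow_orderOf_div (orderOf_pos v).ne' hsd⟩

/-- A faithful odd group normalising a subgroup of prime order `p` has order at most `(p - 1) / 2`. -/
theorem two_mul_card_le_of_prime_card {p : ℕ} (hp : p.Prime) {Z E : Subgroup G} (hZ : Nat.card Z = p)
    (hn : E ≤ normalizer (Z : Set G)) (hf : E ⊓ centralizer (Z : Set G) = ⊥)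
    (hodd : Odd (Nat.card E)) (hp2 : p ≠ 2) : 2 * Nat.card E ≤ p + 1 := by
  haveI := Fact.mk hp
  haveI : IsCyclic Z := isCyclic_of_prime_card hZ
  set f : E →* MulAut Z := Z.normalizerMonoidHom.comp (Subgroup.inclusion hn)
  have hinj : Function.Injective f := by
    rw [← MonoidHom.ker_eq_bot_iff, Subgroup.eq_bot_iff_forall]
    intro e he
    have h1 : Subgroup.inclusion hn e ∈ Z.normalizerMonoidHom.ker :=
      MonoidHom.mem_ker.2 (MonoidHom.mem_ker.1 he)
    rw [Subgroup.normalizerMonoidHom_ker, Subgroup.mem_subgroupOf] at h1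
    exact Subtype.ext ((Subgroup.eq_bot_iff_forall _).1 hf e ⟨e.2, h1⟩)
  have hd := Subgroup.card_dvd_of_injective f hinj
  rw [IsCyclic.card_mulAut, hZ, Nat.totient_prime hp] at hd
  obtain ⟨t, ht⟩ := hd
  obtain ⟨a, ha⟩ := hodd
  obtain ⟨c, hc⟩ := hp.odd_of_ne_two hp2
  have := hp.two_le
  rcases t with _ | _ | t
  · omega
  · omega
  · have : Nat.card E * (t + 1 + 1) = Nat.card E * t + Nat.card E + Nat.card E := by ring
    omega

/-- A faithful odd `p'`-group normalising a plane and moving a line in it has order at most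
`(p + 1) / 2`. -/
theorem two_mul_card_le_of_plane {p : ℕ} (hp : p.Prime) (hp2 : p ≠ 2) {A E : Subgroup G}
    (hA : IsElementaryAbelian p A) (hAc : Nat.card A = p ^ 2) (hn : E ≤ normalizer (A : Set G))
    (hf : E ⊓ centralizer (A : Set G) = ⊥) (hsolv : Group.IsSolvable E) (hodd : Odd (Nat.card E))
    (hcop : (Nat.card E).Coprime p) {x : G} (hx : x ∈ A) (hx1 : x ≠ 1)
    (hmove : E ⊓ normalizer ((Subgroup.zpowers x : Subgroup G) : Set G) = ⊥) :
    2 * Nat.card E ≤ p + 1 := by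
  haveI := Fact.mk hp
  have hEc : ∀ a ∈ E, ∀ b ∈ E, a * b = b * a := by
    intro a ha b hb
    have h1 : ⁅a, b⁆ ∈ ⁅E, E⁆ := Subgroup.commutator_mem_commutator ha hb
    have h2 := commutator_le_centralizer_abelem_two p hsolv hodd hA hAc hn hcop h1
    rw [← commutatorElement_eq_one_iff_mul_comm]
    exact (Subgroup.eq_bot_iff_forall _).1 hf _ ⟨Subgroup.commutator_le_self E h1, h2⟩
  set N := normalizer (A : Set G) with hN
  have hAN : A ≤ N := Subgroup.le_normalizer
  haveI : (A.subgroupOf N).Normal := Subgroup.normal_in_normalizer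
  have hxN : Subgroup.zpowers x ≤ N := Subgroup.zpowers_le.2 (hAN hx)
  have hc : ∀ {B : Subgroup G}, B ≤ N → Nat.card (B.subgroupOf N) = Nat.card B := fun h =>
    Nat.card_congr (Subgroup.subgroupOfEquivOfLe h).toEquiv
  have h := two_mul_card_le_succ (p := p) (A.subgroupOf N) hp2
    (fun a ha b hb => Subtype.ext (show (a : G) * b = b * a from
      congrArg Subtype.val (hA.1.is_comm.comm ⟨(a : G), ha⟩ ⟨(b : G), hb⟩)))
    (by rw [hc hAN, hAc]) (fun v hv => Subtype.ext (by simpa using hA.2 _ hv)) (E.subgroupOf N)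
    (fun a ha b hb => Subtype.ext (hEc _ ha _ hb)) (by rw [hc hn]; exact hodd)
    (by rw [hc hn]; exact hcop) (W := (Subgroup.zpowers x).subgroupOf N)
    (fun v hv => (Subgroup.zpowers_le.2 hx : Subgroup.zpowers x ≤ A) hv)
    (by rw [hc hxN, Nat.card_zpowers]; exact orderOf_eq_prime (hA.2 x hx) hx1) ?_
  · rwa [hc hn] at h
  intro b hb hbw
  refine Subtype.ext ((Subgroup.eq_bot_iff_forall _).1 hmove b (Subgroup.mem_inf.2 ⟨hb, ?_⟩))
  rw [Subgroup.mem_normalizer_iff_map_conj_eq]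
  refine Subgroup.eq_of_le_of_card_ge ?_ (card_map_conj _ (b : G)).ge
  rintro _ ⟨w, hw, rfl⟩
  exact hbw ⟨w, hxN hw⟩ hw

variable [Fintype G]

/-- Peterfalvi (12.7), in the form proved by induction: outside `M_F` all `p`-ranks of a maximal
subgroup of Type I are one. -/
theorem PF12Facts.typeI_pRank_one (hG : IsMinSimpleOddOrder G) (F : PF12Facts G) :
    ∀ (p : ℕ) (M : Subgroup G), IsCoatom M → IsTypeI M → p.Prime →
      ¬ p ∣ Nat.card (fittingHallOf M) → PRankLE p 1 M := by
  intro p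
  induction p using Nat.strong_induction_on with
  | _ p ih =>
  intro M hM hI hp hK
  by_contra hnr
  haveI := Fact.mk hp
  set K := fittingHallOf M with hKdef
  obtain ⟨U, hU, -, hUy⟩ := exists_compl_typeI hI
  obtain ⟨P, hPU, hPM⟩ := exists_conj_le_compl (p := p) hU hK
  have hr2 : PRankLE p 2 M := pRankLE_two_of_not_mem_sigma hG hM hp (F.not_mem_sigma hG hM hI hK)
  obtain ⟨A, hAP, hA, hAc⟩ := exists_elementary_card_sq (p := p) (H := P)
    fun h => hnr (pRankLE_of_sylow hPM h)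
  have hAU : A ≤ U := hAP.trans hPU.le
  have hAM : A ≤ M := hAU.trans hU.2.1
  haveI := hA.1
  have hp2 : p ≠ 2 := minSimple_prime_ne_two hG
    ((dvd_pow_self p two_ne_zero).trans (hAc ▸ Subgroup.card_subgroup_dvd_card A))
  have hK1 : K ≠ ⊥ := (F.chain M hM).1
  -- the element `x`
  have hncyc : ¬ IsCyclic A := fun hcyc => by
    have h2 : Monoid.exponent A ∣ p :=
      Monoid.exponent_dvd_of_forall_pow_eq_one fun u => Subtype.ext (by simpa using hA.2 u u.2)
    rw [hcyc.exponent_eq_card, hAc] at h2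
    have := Nat.le_of_dvd hp.pos h2
    nlinarith [hp.two_le]
  obtain ⟨x, hx, hx1, hxK⟩ : ∃ x ∈ A, x ≠ 1 ∧ ¬ K ⊓ centralizer ({x} : Set G) ≤ ⁅K, K⁆ := by
    by_contra! hno
    have hle := Coprime.le_of_forall_inf_centralizer_le (A := A) hncyc
      (hAM.trans (le_normalizer_fittingHallOf M))
      (by rw [hAc]; exact ((hp.coprime_iff_not_dvd).2 hK).pow_left 2) hno
    exact (minSimple_commutator_lt hG hK1 (ne_top_of_le_ne_top hM.1 (fittingHallOf_le M))).not_ge hle
  obtain ⟨k₀, ⟨hk₀, hk₀x⟩, hk₀'⟩ := SetLike.not_le_iff_exists.1 hxK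
  have hk₀1 : k₀ ≠ 1 := fun h => hk₀' (h ▸ one_mem _)
  have hxk₀ : x * k₀ = k₀ * x := (Subgroup.mem_centralizer_singleton_iff.1 hk₀x).symm
  obtain ⟨hCM, hCuniq⟩ := F.complFacts M U hM (Or.inl ⟨hI, hU⟩) {x} (by simpa using ⟨hAU hx, hx1⟩)
    (Set.singleton_nonempty x)
    fun h => hk₀1 ((Subgroup.eq_bot_iff_forall _).1 h k₀ ⟨hk₀, hk₀x⟩)
  -- the maximal subgroup `L`
  obtain ⟨N, hN, hpN⟩ := F.sigma_cover p hp
    ((dvd_pow_self p two_ne_zero).trans (hAc ▸ Subgroup.card_subgroup_dvd_card A))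
  obtain ⟨Q₀, hQ₀⟩ := exists_isSylowIn (p := p) N
  obtain ⟨g, -, hg⟩ := (sigma_isSylowIn_top hpN hQ₀).exists_cj_le (le_top : A ≤ ⊤)
    (isPGroup_of_isElementaryAbelian hA)
  set L := N.map (MulAut.conj g⁻¹).toMonoidHom with hLdef
  set Q := Q₀.map (MulAut.conj g⁻¹).toMonoidHom with hQdef
  have hQL : IsSylowIn p Q L := isSylowIn_map_conj hQ₀ g⁻¹
  have hAQ : A ≤ Q := by
    intro a ha
    exact mem_map_conj_iff.2 (by simpa using hg ⟨a, ha, rfl⟩)
  have hL : IsCoatom L := isCoatom_map_conj hN g⁻¹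
  have hpL : p ∈ sigma L := by rw [hLdef, BG11.sigma_map_conj]; exact hpN
  have hnc : ∀ g : G, L.map (MulAut.conj g).toMonoidHom ≠ M := fun g h =>
    F.not_mem_sigma hG hM hI hK (by rw [← h, BG11.sigma_map_conj]; exact hpL)
  have hCL : ¬ centralizer ({x} : Set G) ≤ L := fun h =>
    hnc 1 (by rw [map_conj_one]; exact hCuniq L hL h)
  have hAσ : A ≤ sigmaCore L := hAQ.trans (sigma_sylow_le_sigmaCore hG hL hpL hQL)
  have hLI : IsTypeI L := F.typeI_of_plane hG hL hp hr2 hA hAc hAM hAσ hx hx1 hCM hCL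
  set H := fittingHallOf L with hHdef
  have hAH : A ≤ H := by rw [hHdef, F.kernel_eq_sigma hL (Or.inl hLI)]; exact hAσ
  have hpH : p ∣ Nat.card H :=
    ((dvd_pow_self p two_ne_zero).trans hAc.symm.dvd).trans (Subgroup.card_dvd_of_le hAH)
  -- the Sylow subgroup of `L` is normal and its central elements of order `p` lie in `A`
  have hQn : L ≤ normalizer (Q : Set G) := by
    have h := sylow_eq_piCoreOf_fittingHallOf hpH
      ((hQL.isPGroup.comap_subtype (K := L)).toSylow hQL.not_dvd)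
    rw [show (((hQL.isPGroup.comap_subtype (K := L)).toSylow hQL.not_dvd : Sylow p L) : Subgroup L).map
      L.subtype = Q from Subgroup.map_subgroupOf_eq_of_le hQL.le] at h
    rw [h]
    exact (le_normalizer_fittingHallOf L).trans (normalizer_le_normalizer_piCoreOf _ _)
  have hinA : ∀ z ∈ Q, z ^ p = 1 → (∀ a ∈ A, z * a = a * z) → z ∈ A := fun z _ hzp hza =>
    mem_plane_of_commute hp hr2 hA hAc hAM
      (hCM (Subgroup.mem_centralizer_singleton_iff.2 (hza x hx))) hzp hza
  set Z := A ⊓ centralizer (Q : Set G) with hZdef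
  have hZ1 : Z ≠ ⊥ := by
    obtain ⟨z, hzQ, hzc, hzo⟩ := BG11.exists_central_of_isPGroup hQL.isPGroup
      fun h => hx1 ((Subgroup.eq_bot_iff_forall _).1 h x (hAQ hx))
    intro h
    refine hp.ne_one (hzo ▸ orderOf_eq_one_iff.2 ((Subgroup.eq_bot_iff_forall _).1 h z ⟨?_, hzc⟩))
    exact hinA z hzQ (hzo ▸ pow_orderOf_eq_one z)
      fun a ha => (Subgroup.mem_centralizer_iff.1 hzc a (hAQ ha)).symm
  have hZn : L ≤ normalizer (Z : Set G) := by
    intro l hl
    rw [Subgroup.mem_normalizer_iff_map_conj_eq]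
    refine Subgroup.eq_of_le_of_card_ge ?_ (card_map_conj Z l).ge
    rintro _ ⟨z, ⟨hzA, hzc⟩, rfl⟩
    have hc : l * z * l⁻¹ ∈ centralizer (Q : Set G) := by
      have h := mem_centralizer_conj (g := l) hzc
      rwa [map_conj_eq_self_iff.2 (hQn hl)] at h
    refine ⟨hinA _ ((Subgroup.mem_normalizer_iff.1 (hQn hl) z).1 (hAQ hzA)) ?_
      (fun a ha => (Subgroup.mem_centralizer_iff.1 hc a (hAQ ha)).symm), hc⟩
    show (l * z * l⁻¹) ^ p = 1
    rw [conj_pow, hA.2 z hzA, mul_one, mul_inv_cancel]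
  have hZdvd : Nat.card Z ∣ p ^ 2 := hAc ▸ Subgroup.card_dvd_of_le inf_le_left
  obtain ⟨E, hE, hEcard, hEy⟩ := exists_compl_typeI hLI
  -- `L` is a Frobenius group
  have hLfrob : ∀ h ∈ H, h ≠ 1 → L ⊓ centralizer ({h} : Set G) ≤ H := by
    refine frobenius_of_pRank_one hG hLI fun s hs hsH => ?_
    by_cases hsp : s < p
    · exact ih s hsp L hL hLI hs hsH
    by_contra hns
    haveI := Fact.mk hs
    obtain ⟨B, hBL, -, hBc⟩ := exists_elementary_card_sq (p := s) (H := L) hns
    have hsL : s ∣ Nat.card L :=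
      ((dvd_pow_self s two_ne_zero).trans hBc.symm.dvd).trans (Subgroup.card_dvd_of_le hBL)
    obtain ⟨y, hyE, hyo, hyf⟩ := hEy s hs (dvd_compl hE hs hsH hsL)
    exact hsp (prime_lt_of_fpf hp hp2 hs (minSimple_prime_ne_two_subgroup hG hsL) hZdvd hZ1 hyo
      (hZn (hE.2.1 hyE)) fun z hz h => hyf z (hAH hz.1) h)
  have hHc : ∀ w ∈ L, ∀ a ∈ H, a ≠ 1 → w * a = a * w → w ∈ H := fun w hw a ha ha1 h =>
    hLfrob a ha ha1 ⟨hw, Subgroup.mem_centralizer_singleton_iff.2 h⟩
  -- `theoremII` at `x`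
  have hxA : x ∈ supportA L := F.toBG16Facts.typeA1_subset_typeA hL (by
    rw [typeA1, F.toBG16Facts.core_eq hL (Or.inl hLI)]
    exact ⟨hAH hx, hx1⟩)
  obtain ⟨hVc, -, -, -, -, -⟩ := (F.theoremII L (supportA L) hL (Or.inl rfl)).2.2 x hxA hCL M hM hCM
  have hAV : A ≤ L ⊓ M := le_inf (hAH.trans (fittingHallOf_le L)) hAM
  -- the complement `L ⊓ M` lies in `H`
  have hVH : L ⊓ M ≤ H := by
    intro v hv
    by_contra hvH
    obtain ⟨s, hs, hsH, w, hw, hwo⟩ := exists_prime_power_not_mem hv.1 hvH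
    have hwV : w ∈ L ⊓ M := Subgroup.zpowers_le.2 hv hw
    have hwH : w ∉ H := fun h => hsH (hwo ▸ Subgroup.orderOf_dvd_natCard H h)
    have hsK : ¬ s ∣ Nat.card K :=
      compl_coprime hVc hs (hwo ▸ Subgroup.orderOf_dvd_natCard (L ⊓ M) hwV)
    have hwA : w ∈ normalizer (A : Set G) := by
      rw [Subgroup.mem_normalizer_iff_map_conj_eq]
      refine Subgroup.eq_of_le_of_card_ge ?_ (card_map_conj A w).ge
      rintro _ ⟨a, ha, rfl⟩
      have hmem : w * a * w⁻¹ ∈ Q ⊓ M :=
        ⟨(Subgroup.mem_normalizer_iff.1 (hQn hwV.1) a).1 (hAQ ha),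
          M.mul_mem (M.mul_mem hwV.2 (hAM ha)) (M.inv_mem hwV.2)⟩
      refine hinA _ hmem.1 (show (w * a * w⁻¹) ^ p = 1 by
        rw [conj_pow, hA.2 a ha, mul_one, mul_inv_cancel]) fun b hb => ?_
      exact F.pGroup_comm hM hI hK inf_le_right (hQL.isPGroup.to_le inf_le_left) hmem
        ⟨hAQ hb, hAM hb⟩
    have hwfA : ∀ a ∈ A, w * a = a * w → a = 1 := fun a ha h => by
      by_contra ha1
      exact hwH (hHc w hwV.1 a (hAH ha) ha1 h)
    have hA1 : A ≠ ⊥ := fun h => hx1 ((Subgroup.eq_bot_iff_forall _).1 h x hx)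
    have hsp : s < p := prime_lt_of_fpf hp hp2 hs
      (minSimple_prime_ne_two hG (hwo ▸ orderOf_dvd_natCard w)) (hAc ▸ dvd_rfl) hA1 hwo hwA hwfA
    have hwf := fpf_of_pRank_one hG hI hs hsK (ih s hsp M hM hI hs hsK) hwV.2 hwo
    set W := Subgroup.zpowers w
    have hgenW : ∀ e ∈ W, e ≠ 1 → w ∈ Subgroup.zpowers e := by
      intro e he he1
      have h1 : Subgroup.zpowers e = W := Subgroup.eq_of_le_of_card_ge (Subgroup.zpowers_le.2 he) (by
        rw [Nat.card_zpowers, Nat.card_zpowers, hwo]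
        refine le_of_eq (((Nat.dvd_prime hs).1 ?_).resolve_left
          fun h => he1 (orderOf_eq_one_iff.1 h)).symm
        rw [← hwo, ← Nat.card_zpowers w]
        exact Subgroup.orderOf_dvd_natCard W he)
      rw [h1]
      exact Subgroup.mem_zpowers w
    have hdis : A ⊓ W = ⊥ := by
      rw [Subgroup.eq_bot_iff_forall]
      intro e ⟨heA, heW⟩
      by_contra he1
      exact hwH (Subgroup.zpowers_le.2 (hAH heA) (hgenW e heW he1))
    have hsne : s ≠ p := hsp.ne
    have hform := frobenius_fixed_point_formula (U := A) (E := W) (H := K) hdis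
      (Subgroup.zpowers_le.2 hwA)
      (fun e he he1 a ha h => by
        obtain ⟨i, hi⟩ := Subgroup.mem_zpowers_iff.1 (hgenW e he he1)
        exact hwfA a ha (hi ▸ (Commute.zpow_left h i).eq))
      (sup_le (hAM.trans (le_normalizer_fittingHallOf M))
        (Subgroup.zpowers_le.2 (le_normalizer_fittingHallOf M hwV.2)))
      (by haveI := isNilpotent_fittingHallOf M; infer_instance)
      (by
        rw [Coprime.card_sup_eq (Subgroup.zpowers_le.2 hwA) hdis, hAc, Nat.card_zpowers, hwo]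
        exact Nat.Coprime.mul_left (((hp.coprime_iff_not_dvd).2 hK).pow_left 2)
          ((hs.coprime_iff_not_dvd).2 hsK))
    have hCw : K ⊓ centralizer (W : Set G) = ⊥ := by
      rw [Subgroup.eq_bot_iff_forall]
      exact fun k ⟨hk, hc⟩ =>
        hwf k hk (Subgroup.mem_centralizer_iff.1 hc w (Subgroup.mem_zpowers w))
    have hCAW : K ⊓ centralizer ((A ⊔ W : Subgroup G) : Set G) = ⊥ :=
      le_bot_iff.1 ((inf_le_inf_left _
        (Subgroup.centralizer_le (SetLike.coe_subset_coe.2 le_sup_right))).trans hCw.le)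
    rw [hCAW, hCw, Subgroup.card_bot, one_pow, one_mul, one_mul] at hform
    have hKA : K ≤ centralizer (A : Set G) :=
      inf_eq_left.1 (Subgroup.eq_of_le_of_card_ge inf_le_left hform.le)
    -- an element of order `p` without fixed points lies in `A` up to conjugation
    obtain ⟨y, hyU, hyo, hyf⟩ := hUy p hp
      (((dvd_pow_self p two_ne_zero).trans hAc.symm.dvd).trans (Subgroup.card_dvd_of_le hAU))
    obtain ⟨b, hbM, hb⟩ := hPM.exists_cj_le (Subgroup.zpowers_le.2 (hU.2.1 hyU))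
      (IsPGroup.of_card (n := 1) (by rw [Nat.card_zpowers, hyo, pow_one]))
    have hyP : b * y * b⁻¹ ∈ P := hb (ConjFunctor.conj_mem_cj b (Subgroup.mem_zpowers y))
    have hyA : b * y * b⁻¹ ∈ A := mem_plane_of_commute hp hr2 hA hAc hAM (hPM.le hyP)
      (by rw [conj_pow, ← hyo, pow_orderOf_eq_one, mul_one, mul_inv_cancel])
      fun a ha => F.pGroup_comm hM hI hK hPM.le hPM.isPGroup hyP (hAP ha)
    refine hk₀1 ?_
    have hk : b⁻¹ * k₀ * b ∈ K :=
      (Subgroup.mem_normalizer_iff''.1 (le_normalizer_fittingHallOf M hbM) k₀).1 hk₀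
    have h1 := Subgroup.mem_centralizer_iff.1 (hKA hk₀) _ hyA
    have h2 := hyf _ hk (by
      calc y * (b⁻¹ * k₀ * b) = b⁻¹ * (b * y * b⁻¹ * k₀) * b := by group
        _ = b⁻¹ * (k₀ * (b * y * b⁻¹)) * b := by rw [h1]
        _ = _ := by group)
    simpa using (conj_eq_one_iff (a := b⁻¹) (b := k₀)).1 (by simpa using h2)
  -- sizes
  have hVcard : Nat.card ↥(L ⊓ M) = K.relIndex M := by
    have h2 := card_mul_relIndex (fittingHallOf_le M)
    rw [← compl_card hVc] at h2
    exact (Nat.eq_of_mul_eq_mul_left Nat.card_pos h2).symm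
  have hEM : ∀ e ∈ E, e ∈ M → e = 1 := fun e he heM =>
    (Subgroup.eq_bot_iff_forall _).1 hE.2.2.1 e ⟨hVH ⟨hE.2.1 he, heM⟩, he⟩
  have hNx : normalizer ((Subgroup.zpowers x : Subgroup G) : Set G) ≤ M := by
    intro n hn
    rw [← minSimple_normalizer_coatom hG hM, ← map_conj_eq_self_iff]
    refine hCuniq _ (isCoatom_map_conj hM n) ?_
    have h1 : (centralizer ({x} : Set G)).map (MulAut.conj n).toMonoidHom = centralizer {x} := by
      have hz : centralizer ((Subgroup.zpowers x : Subgroup G) : Set G) = centralizer {x} := by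
        rw [Subgroup.zpowers_eq_closure, Subgroup.centralizer_closure]
      rw [← hz, map_conj_centralizer]
      congr 1
      exact congrArg SetLike.coe (map_conj_eq_self_iff.2 hn)
    rw [← h1]
    exact Subgroup.map_mono hCM
  have hEf : ∀ {B : Subgroup G}, B ≤ H → B ≠ ⊥ → E ⊓ centralizer (B : Set G) = ⊥ := by
    intro B hB hB1
    obtain ⟨b, hb, hb1⟩ := (Subgroup.bot_or_exists_ne_one B).resolve_left hB1
    rw [Subgroup.eq_bot_iff_forall]
    exact fun e ⟨he, hec⟩ => (Subgroup.eq_bot_iff_forall _).1 hE.2.2.1 e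
      ⟨hHc e (hE.2.1 he) b (hB hb) hb1 (Subgroup.mem_centralizer_iff.1 hec b hb).symm, he⟩
  have hEle : 2 * Nat.card E ≤ p + 1 := by
    obtain ⟨j, hj, hjc⟩ := (Nat.dvd_prime_pow hp).1 hZdvd
    interval_cases j
    · exact absurd (Subgroup.eq_bot_of_card_eq _ (by rw [hjc, pow_zero])) hZ1
    · exact two_mul_card_le_of_prime_card hp (by rw [hjc, pow_one]) (hE.2.1.trans hZn)
        (hEf (inf_le_left.trans hAH) hZ1) (minSimple_odd_subgroup hG E) hp2
    · have hZA : Z = A := Subgroup.eq_of_le_of_card_ge inf_le_left (by rw [hjc, hAc])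
      rw [hZA] at hZn hZ1
      refine two_mul_card_le_of_plane hp hp2 hA hAc (hE.2.1.trans hZn) (hEf hAH hZ1)
        (minSimple_solvable hG (ne_top_of_le_ne_top hL.1 hE.2.1)) (minSimple_odd_subgroup hG E) ?_
        hx hx1 ?_
      · refine Nat.Coprime.symm ((hp.coprime_iff_not_dvd).2 fun hd => ?_)
        exact compl_coprime hE hp hd hpH
      · rw [Subgroup.eq_bot_iff_forall]
        exact fun e ⟨he, hen⟩ => hEM e he (hNx hen)
  have hcop : (Nat.card K).Coprime (Nat.card H) := by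
    have h := F.toBG16Facts.coprime_cores hM hL fun g h => hnc g⁻¹ (by
      rw [h, map_conj_map_conj, inv_mul_cancel, map_conj_one])
    rwa [F.toBG16Facts.core_eq hM (Or.inl hI), F.toBG16Facts.core_eq hL (Or.inl hLI)] at h
  obtain ⟨y, hyU, hyo, hyf⟩ := hUy p hp
    (((dvd_pow_self p two_ne_zero).trans hAc.symm.dvd).trans (Subgroup.card_dvd_of_le hAU))
  refine Witness.false hG F (M := M) (L := L) (p := p) (x := x)
    { coatomM := hM, coatomL := hL, typeIM := hI, typeIL := hLI, frobL := hLfrob, not_conj := hnc,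
      prime := hp, pow_eq_one := hA.2 x hx, ne_one := hx1, mem_kerL := hAH hx, mem_M := hAM hx,
      not_mem_kerM := ?_, exists_fixed := ⟨k₀, hk₀, hxk₀, hk₀'⟩, centralizer_le := hCM,
      centralizer_unique := hCuniq, coprime := hcop, index_le := ?_, index_L_le := ?_, sq_le := ?_,
      noncentral := ⟨y, hU.2.1 hyU, k₀, hk₀, fun h => hk₀1 (hyf k₀ hk₀ h)⟩ }
  · exact fun h => hK ((orderOf_eq_prime (hA.2 x hx) hx1) ▸ Subgroup.orderOf_dvd_natCard _ h)
  · rw [index_fittingHall_eq, card_fittingHall_eq, ← hVcard]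
    exact Subgroup.card_le_of_le hVH
  · rwa [index_fittingHall_eq, ← hEcard]
  · rw [card_fittingHall_eq, ← hAc]
    exact Subgroup.card_le_of_le hAH

/-- Peterfalvi (12.7): a maximal subgroup of Type I is a Frobenius group with kernel `M_F`. -/
theorem PF12Facts.typeI_is_frobenius (hG : IsMinSimpleOddOrder G) (F : PF12Facts G) {M : Subgroup G}
    (hM : IsCoatom M) (hI : IsTypeI M) :
    ∀ x ∈ fittingHallOf M, x ≠ 1 → M ⊓ centralizer ({x} : Set G) ≤ fittingHallOf M :=
  frobenius_of_pRank_one hG hI fun s hs hsK => F.typeI_pRank_one hG s M hM hI hs hsK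

end CfsgLib.OddOrder
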